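import Mathlib
import Cfsg.Agent.Lib.Helper1.StemZP7

set_option autoImplicit false

/-! Checking the certificates of `StemZP7` in pieces: the combination modulo `p ^ s` of a
distinguished unknown is checked chunk by chunk, so that the kernel never holds all the
intermediate packed sums at the same time. -/

namespace Cfsg.Agent.Lib.Helper6.Mult

open Cfsg.Agent.Lib.Helper1 Cfsg.Agent.Lib.Helper1.StemSA Cfsg.Agent.Lib.Helper1.StemZA
  Cfsg.Agent.Lib.Helper1.StemZC Cfsg.Agent.Lib.Helper1.StemZD Cfsg.Agent.Lib.Helper1.StemZE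
  Cfsg.Agent.Lib.Helper1.StemZP

variable (D : SAData)

theorem entriesOfN_append (N : ℕ) (a b : List ((ℕ × ℕ) × ℕ)) :
    entriesOfN D N (a ++ b) = entriesOfN D N a ++ entriesOfN D N b := by
  unfold entriesOfN allEntriesN
  rw [List.map_append, List.flatMap_append]

theorem packSum_append (a b : List (ℕ × ℕ)) : packSum (a ++ b) = packSum a + packSum b := by
  unfold packSum
  rw [List.map_append, List.sum_append]

/-- the check of one chunk of a combination: its equations are valid, its packed sum is `L` and the
sum of its coefficients is `T` -/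
def chunkOK (N : ℕ) (ys : List ((ℕ × ℕ) × ℕ)) (L T : ℕ) : Bool :=
  (ys.all fun q => D.chkSpec q.1 && chkRangeS D q.1 && decide (q.2 ≤ N)) &&
  (packSum (entriesOfN D N ys) == L) &&
  (((entriesOfN D N ys).map fun e => e.2).sum == T)

theorem chunks_sound (N : ℕ) (tr : List (List ((ℕ × ℕ) × ℕ) × ℕ × ℕ))
    (h : ∀ t ∈ tr, chunkOK D N t.1 t.2.1 t.2.2 = true) :
    ((tr.map fun t => t.1).flatten.all fun q =>
        D.chkSpec q.1 && chkRangeS D q.1 && decide (q.2 ≤ N)) = true ∧
      packSum (entriesOfN D N (tr.map fun t => t.1).flatten) = (tr.map fun t => t.2.1).sum ∧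
      ((entriesOfN D N (tr.map fun t => t.1).flatten).map fun e => e.2).sum =
        (tr.map fun t => t.2.2).sum := by
  induction tr with
  | nil =>
    refine ⟨rfl, ?_, ?_⟩
    · simp [entriesOfN, allEntriesN, packSum]
    · simp [entriesOfN, allEntriesN]
  | cons t tr ih =>
    have ht := h t (by simp)
    obtain ⟨i1, i2, i3⟩ := ih (fun t' ht' => h t' (by simp [ht']))
    unfold chunkOK at ht
    rw [Bool.and_eq_true, Bool.and_eq_true, beq_iff_eq, beq_iff_eq] at ht
    obtain ⟨⟨t1, t2⟩, t3⟩ := ht
    refine ⟨?_, ?_, ?_⟩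
    · rw [List.map_cons, List.flatten_cons, List.all_append, t1, i1]
      rfl
    · rw [List.map_cons, List.flatten_cons, entriesOfN_append, packSum_append, t2, i2,
        List.map_cons, List.sum_cons]
    · rw [List.map_cons, List.flatten_cons, entriesOfN_append, List.map_append, List.sum_append,
        t3, i3, List.map_cons, List.sum_cons]

/-- the check of the combination of a distinguished unknown, from the checks of its chunks -/
theorem chkRel_of_chunks (C : ZPCert) (tr : List (List ((ℕ × ℕ) × ℕ) × ℕ × ℕ)) (b e : ℕ)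
    (h : ∀ t ∈ tr, chunkOK D (C.p ^ C.s) t.1 t.2.1 t.2.2 = true)
    (hT : (tr.map fun t => t.2.2).sum < X)
    (h4 : ((List.range D.n).all fun c =>
      (tr.map fun t => t.2.1).sum / X ^ c % X % C.p ^ C.s == if c = b then C.p ^ e else 0) = true) :
    chkRel D C (tr.map fun t => t.1).flatten b e = true := by
  obtain ⟨i1, i2, i3⟩ := chunks_sound D (C.p ^ C.s) tr h
  unfold chkRel
  rw [i1, i2, i3, Bool.true_and, Bool.and_eq_true, decide_eq_true_eq]
  exact ⟨hT, h4⟩

/-- the check of a certificate without its combinations modulo `p ^ s` -/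
def chkCertRMain (C : ZRCert) : Bool :=
  decide (1 < C.p) && decide (C.bs.length ≤ C.N) &&
  ((List.range (C.N - C.bs.length)).all fun i => D.chkSpec (C.specs i)) &&
  ((List.range (C.N - C.bs.length)).all fun i => chkRangeS D (C.specs i)) &&
  (C.bs.all fun b => decide (b < D.n) && decide (0 < C.colOf b)) &&
  ((List.range C.N).all fun c => decide (C.unk c < D.n)) && chkColR D C &&
  chkMask C && chkRows C (C.Xb ^ C.N) (rep C.Xb C.N C.hmR) &&
  ((List.range C.N).all (chkRowR D C (C.Xb ^ C.N) (rep C.Xb C.N C.hmQ))) &&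
  (C.es.length == C.bs.length) && (C.es.all fun e => decide (e < C.s))

theorem chkCertR_of_main (C : ZRCert) (h1 : chkCertRMain D C = true)
    (h2 : ((List.range C.bs.length).all fun j =>
      chkRel D C.toP (C.rel.getD j []) (C.bs.getD j 0) (C.es.getD j 0)) = true) :
    chkCertR D C = true := by
  unfold chkCertR
  unfold chkCertRMain at h1
  rw [h1, h2]
  rfl

end Cfsg.Agent.Lib.Helper6.Mult
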