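import Cfsg.Agent.Lib.Helper6.Mult.PM2

set_option autoImplicit false
set_option maxRecDepth 100000

/-! # Groups with a faithful permutation action given by tables: labelled-action data for
generators given by words, acting on points or on sets of points -/

namespace Cfsg.Agent.Lib.Helper6.PM

open Cfsg.Agent.Lib.Helper6.TC
open Cfsg.Agent.Lib.Helper1 Cfsg.Agent.Lib.Helper1.MatCode Cfsg.Agent.Lib.Helper1.StemSA

open scoped Pointwise

section core

variable (M : PModel) (D : SAData) (ws : List (List ℕ)) (pm : ℕ → ℕ → ℕ) (lw : List (List ℕ))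

/-- the generators -/
noncomputable def gs : List M.G := ws.map M.elt

theorem gs_getD (i : ℕ) : (gs M ws).getD i 1 = M.elt (ws.getD i []) := by
  unfold gs
  rw [← M.elt_nil, List.getD_map]

/-- the check of a relation on the points, with the tables of the generators -/
noncomputable def chkRelP (r : ℕ) : Bool :=
  (List.range M.n).all fun q =>
    wappS pm (D.rels.getD r ([], [])).1 q == wappS pm (D.rels.getD r ([], [])).2 q

/-- the check of the order of a generator on the points -/
noncomputable def chkOrdP (i : ℕ) : Bool :=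
  (List.range M.n).all fun q => wappS pm (List.replicate (D.ords.getD i 0) i) q == q

/-- the check of the expression of a letter as a word in the generators -/
noncomputable def chkLwP (c : ℕ) : Bool :=
  ((lw.getD c []).all fun i => decide (i < ws.length)) &&
  ((List.range M.n).all fun q => wappS pm (lw.getD c []) q == M.px c q)

/-- the facts on the generators: their tables, the relations, the orders, and the letters as
words in them -/
def CoreFacts : Prop :=
  D.k = ws.length ∧ TabFacts M ws pm ∧
    (∀ w ∈ D.rels, ∀ q < M.n, wapp pm w.1 q = wapp pm w.2 q) ∧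
    (∀ i < ws.length, ∀ q < M.n, wapp pm (List.replicate (D.ords.getD i 0) i) q = q) ∧
    (∀ c < M.nl, (∀ i ∈ lw.getD c [], i < ws.length) ∧
      ∀ q < M.n, wapp pm (lw.getD c []) q = M.px c q)

theorem coreFacts_of_chk (hk : D.k = ws.length) (hT : ∀ i < ws.length, chkTab M ws pm i = true)
    (hR : ∀ r < D.rels.length, chkRelP M D pm r = true)
    (hO : ∀ i < ws.length, chkOrdP M D pm i = true)
    (hL : ∀ c < M.nl, chkLwP M ws pm lw c = true) : CoreFacts M D ws pm lw := by
  refine ⟨hk, tabFacts_of_chk M ws pm hT, fun w hw q hq => ?_, fun i hi q hq => ?_,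
    fun c hc => ?_⟩
  · obtain ⟨r, hr, rfl⟩ := List.getElem_of_mem hw
    have h := hR r hr
    unfold chkRelP at h
    simp only [List.all_eq_true, beq_iff_eq, List.mem_range, wappS_eq] at h
    have h' := h q hq
    rwa [List.getD_eq_getElem _ _ hr] at h'
  · have h := hO i hi
    unfold chkOrdP at h
    simp only [List.all_eq_true, beq_iff_eq, List.mem_range, wappS_eq] at h
    exact h q hq
  · have h := hL c hc
    unfold chkLwP at h
    simp only [Bool.and_eq_true, List.all_eq_true, decide_eq_true_eq, beq_iff_eq, List.mem_range,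
      wappS_eq] at h
    exact h

theorem wordProd_gs (w : List ℕ) : wordProd (gs M ws) w = M.elt (expand ws w) := by
  induction w with
  | nil => rw [wordProd_nil, expand_nil, M.elt_nil]
  | cons i w ih => rw [wordProd_cons, expand_cons, M.elt_append, ih, gs_getD]

variable (hS : D.chkStruct = true) (hC : CoreFacts M D ws pm lw)
include hC

/-- two words in the generators acting in the same way on the points give the same element -/
theorem wordProd_eq_of_pm (w w' : List ℕ) (hw : ∀ i ∈ w, i < D.k) (hw' : ∀ i ∈ w', i < D.k)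
    (h : ∀ q < M.n, wapp pm w q = wapp pm w' q) :
    wordProd (gs M ws) w = wordProd (gs M ws) w' := by
  have h1 := hC.1
  have h2 := hC.2.1
  rw [wordProd_gs M ws, wordProd_gs M ws]
  apply M.elt_eq_of_wapp _ _ (expand_lt ws M.nl h2.1 _) (expand_lt ws M.nl h2.1 _)
  intro q hq
  rw [(wapp_expand M ws pm h2 w (fun i hi => by rw [← h1]; exact hw i hi) q hq).1,
    (wapp_expand M ws pm h2 w' (fun i hi => by rw [← h1]; exact hw' i hi) q hq).1]
  exact h q hq

include hS in
theorem hrel : ∀ w ∈ D.rels, wordProd (gs M ws) w.1 = wordProd (gs M ws) w.2 := by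
  have h3 := hC.2.2.1
  intro w hw
  obtain ⟨hw1, hw2⟩ := rels_lt D hS w hw
  exact wordProd_eq_of_pm M D ws pm lw hC w.1 w.2 hw1 hw2 (h3 w hw)

theorem hpow : ∀ i < D.k, ((gs M ws).getD i 1) ^ (D.ords.getD i 0) = 1 := by
  have h1 := hC.1
  have h4 := hC.2.2.2.1
  intro i hi
  have h := wordProd_eq_of_pm M D ws pm lw hC (List.replicate (D.ords.getD i 0) i) []
    (by intro i' hi'; rw [List.mem_replicate] at hi'; rw [hi'.2]; exact hi) (by simp)
    (fun q hq => by rw [h4 i (by rw [← h1]; exact hi) q hq]; rfl)
  rwa [StemSA.wordProd_replicate, wordProd_nil] at h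

/-- the generators generate the group -/
theorem hgen : Subgroup.closure {g : M.G | ∃ i < D.k, g = (gs M ws).getD i 1} = ⊤ := by
  have h1 := hC.1
  have h2 := hC.2.1
  have h5 := hC.2.2.2.2
  rw [eq_top_iff, ← M.closure_letters, Subgroup.closure_le]
  rintro _ ⟨c, hc, rfl⟩
  obtain ⟨hlw, hact⟩ := h5 c hc
  have key : wordProd (gs M ws) (lw.getD c []) = M.elt [c] := by
    rw [wordProd_gs M ws]
    apply M.elt_eq_of_wapp _ _ (expand_lt ws M.nl h2.1 _)
    · intro c' hc'
      rw [List.mem_singleton] at hc'
      rw [hc']; exact hc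
    · intro q hq
      rw [(wapp_expand M ws pm h2 _ hlw q hq).1, hact q hq]
      rfl
  rw [← key]
  apply wordProd_mem
  intro g hg
  unfold gs at hg
  rw [List.mem_map] at hg
  obtain ⟨w, hw, rfl⟩ := hg
  obtain ⟨i, hi, rfl⟩ := List.getElem_of_mem hw
  apply Subgroup.subset_closure
  refine ⟨i, by rw [h1]; exact hi, ?_⟩
  rw [gs_getD, List.getD_eq_getElem _ _ hi]

/-- the action of the inverse of a product of generators on a point, from the tables -/
theorem inv_wordProd_smul_val (w : List ℕ) (hw : ∀ i ∈ w, i < ws.length) (p : Fin M.n) :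
    ((wordProd (gs M ws) w)⁻¹ • p).val = wapp pm w p.val := by
  have h2 := hC.2.1
  rw [wordProd_gs M ws, M.inv_elt_smul_val _ (expand_lt ws M.nl h2.1 _)]
  exact (wapp_expand M ws pm h2 w hw p.val p.isLt).1

end core

section points

variable (M : PModel) (D : SAData) (ws : List (List ℕ)) (pm : ℕ → ℕ → ℕ) (PL PLI : ℕ → ℕ)

/-- the check of the action of the generators on the points of an orbit -/
noncomputable def chkPts : Bool :=
  ((List.range D.m).all fun j => decide (PL j < M.n) && (PLI (PL j) == j)) &&
  ((List.range ws.length).all fun i => (List.range D.m).all fun j =>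
    pm i (PL (D.pi i j)) == PL j)

/-- the points -/
def pt (j : ℕ) : Fin M.n := Fin.ofNat M.n (PL j)

variable (hT : TabFacts M ws pm) (hk : D.k = ws.length) (hS : D.chkStruct = true)
  (hP : chkPts M D ws pm PL PLI = true)
include hP

theorem pts_facts : (∀ j < D.m, PL j < M.n ∧ PLI (PL j) = j) ∧
    (∀ i < ws.length, ∀ j < D.m, pm i (PL (D.pi i j)) = PL j) := by
  unfold chkPts at hP
  simp only [Bool.and_eq_true, List.all_eq_true, decide_eq_true_eq, beq_iff_eq, List.mem_range]
    at hP
  exact hP

theorem pt_val (j : ℕ) (hj : j < D.m) : (pt M PL j).val = PL j := by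
  unfold pt
  rw [Fin.val_ofNat, Nat.mod_eq_of_lt ((pts_facts M D ws pm PL PLI hP).1 j hj).1]

theorem pt_inj : ∀ j < D.m, ∀ j' < D.m, pt M PL j = pt M PL j' → j = j' := by
  intro j hj j' hj' h
  have h' := congrArg Fin.val h
  rw [pt_val M D ws pm PL PLI hP j hj, pt_val M D ws pm PL PLI hP j' hj'] at h'
  rw [← ((pts_facts M D ws pm PL PLI hP).1 j hj).2, ← ((pts_facts M D ws pm PL PLI hP).1 j' hj').2,
    h']

include hT hk hS in
theorem pi_act : ∀ i < D.k, ∀ j < D.m,
    (gs M ws).getD i 1 • pt M PL j = pt M PL (D.pi i j) := by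
  obtain ⟨h3, h5⟩ := pts_facts M D ws pm PL PLI hP
  intro i hi j hj
  have hlt : D.pi i j < D.m := pi_lt D hS i j hi hj
  rw [gs_getD]
  rw [hk] at hi
  apply M.elt_smul
  · apply hT.1
    rw [List.getD_eq_getElem _ _ hi]
    exact List.getElem_mem _
  · rw [pt_val M D ws pm PL PLI hP _ hlt, pt_val M D ws pm PL PLI hP _ hj,
      hT.2 i hi _ (h3 _ hlt).1]
    exact h5 i hi j hj

end points

section sets

variable (M : PModel)

/-- the set of points of a mask -/
def maskSet (a : ℕ) : Set (Fin M.n) := {p | a.testBit p.val = true}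

theorem mem_maskSet (a : ℕ) (p : Fin M.n) : p ∈ maskSet M a ↔ a.testBit p.val = true := Iff.rfl

/-- the action of the element of a word on the set of a mask, from a table of the word -/
theorem elt_smul_maskSet (w : List ℕ) (hw : ∀ c ∈ w, c < M.nl) (tab : ℕ → ℕ)
    (htab : ∀ q < M.n, wapp M.px w q = tab q) (a b : ℕ)
    (h : ∀ q < M.n, b.testBit q = a.testBit (tab q)) :
    M.elt w • maskSet M a = maskSet M b := by
  ext p
  rw [Set.mem_smul_set_iff_inv_smul_mem, mem_maskSet, mem_maskSet, M.inv_elt_smul_val w hw,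
    htab p.val p.isLt, h p.val p.isLt]

theorem maskSet_injective (a b : ℕ) (h : maskSet M a = maskSet M b) :
    a % 2 ^ M.n = b % 2 ^ M.n := by
  apply Nat.eq_of_testBit_eq
  intro i
  rw [Nat.testBit_mod_two_pow, Nat.testBit_mod_two_pow]
  by_cases hi : i < M.n
  · have h1 : (⟨i, hi⟩ : Fin M.n) ∈ maskSet M a ↔ (⟨i, hi⟩ : Fin M.n) ∈ maskSet M b := by rw [h]
    rw [mem_maskSet, mem_maskSet] at h1
    simp only [hi, decide_true, Bool.true_and]
    rw [Bool.eq_iff_iff]
    exact h1
  · simp [hi]

variable (ws : List (List ℕ)) (pm : ℕ → ℕ → ℕ) (masks : ℕ → ℕ) (m : ℕ) (pi : ℕ → ℕ → ℕ)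

/-- the check of the action of a generator on the sets -/
noncomputable def chkSets (i : ℕ) : Bool :=
  (List.range m).all fun j => (List.range M.n).all fun q =>
    (masks (pi i j)).testBit q == (masks j).testBit (pm i q)

/-- the check that the sets are distinct -/
noncomputable def chkDistinct : Bool :=
  (List.range m).all fun j => (List.range j).all fun j' =>
    masks j % 2 ^ M.n != masks j' % 2 ^ M.n

/-- the sets -/
def ptS (j : ℕ) : Set (Fin M.n) := maskSet M (masks j)

variable (hT : TabFacts M ws pm)

include hT in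
theorem elt_smul_ptS (hA : ∀ i < ws.length, chkSets M pm masks m pi i = true) :
    ∀ i < ws.length, ∀ j < m,
    M.elt (ws.getD i []) • ptS M masks j = ptS M masks (pi i j) := by
  intro i hi j hj
  have h := hA i hi
  unfold chkSets at h
  simp only [List.all_eq_true, beq_iff_eq, List.mem_range] at h
  apply elt_smul_maskSet M _ _ (pm i) (hT.2 i hi)
  · exact h j hj
  · apply hT.1
    rw [List.getD_eq_getElem _ _ hi]
    exact List.getElem_mem _

include hT in
theorem pi_actS (D : SAData) (hk : D.k = ws.length)
    (hA : ∀ i < ws.length, chkSets M pm masks D.m D.pi i = true) : ∀ i < D.k, ∀ j < D.m,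
    (gs M ws).getD i 1 • ptS M masks j = ptS M masks (D.pi i j) := by
  intro i hi j hj
  rw [hk] at hi
  rw [gs_getD]
  exact elt_smul_ptS M ws pm masks D.m D.pi hT hA i hi j hj

theorem ptS_inj (hD : chkDistinct M masks m = true) :
    ∀ j < m, ∀ j' < m, ptS M masks j = ptS M masks j' → j = j' := by
  unfold chkDistinct at hD
  simp only [List.all_eq_true, List.mem_range, bne_iff_ne, ne_eq] at hD
  intro j hj j' hj' h
  have h' := maskSet_injective M _ _ h
  rcases Nat.lt_trichotomy j j' with hlt | heq | hgt
  · exact absurd h'.symm (hD j' hj' j hlt)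
  · exact heq
  · exact absurd h' (hD j hj j' hgt)

/-- the family of the sets -/
def family : Set (Set (Fin M.n)) := {S | ∃ j < m, S = ptS M masks j}

include hT in
/-- the subgroup generated by the words stabilizes the family of the sets, when the generators
permute them -/
theorem subH_le_stabilizer_family (hA : ∀ i < ws.length, chkSets M pm masks m pi i = true)
    (hpi : ∀ i < ws.length, ∀ j < m, pi i j < m) :
    subH M ws ≤ MulAction.stabilizer M.G (family M masks m) := by
  unfold subH
  rw [Subgroup.closure_le]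
  rintro _ ⟨i, hi, rfl⟩
  rw [SetLike.mem_coe, MulAction.mem_stabilizer_set' (Set.toFinite _)]
  rintro _ ⟨j, hj, rfl⟩
  exact ⟨pi i j, hpi i hi j hj, elt_smul_ptS M ws pm masks m pi hT hA i hi j hj⟩

/-- an element moving a set of the family to a set outside of the family -/
theorem not_mem_stabilizer_family (g : M.G) (a : ℕ) (hm : 0 < m)
    (hg : g • ptS M masks 0 = maskSet M a)
    (hne : ∀ j < m, a % 2 ^ M.n ≠ masks j % 2 ^ M.n) :
    g ∉ MulAction.stabilizer M.G (family M masks m) := by
  intro h
  rw [MulAction.mem_stabilizer_set' (Set.toFinite _)] at h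
  obtain ⟨j, hj, e⟩ := h ⟨0, hm, rfl⟩
  rw [hg] at e
  exact hne j hj (maskSet_injective M _ _ e)

end sets

end Cfsg.Agent.Lib.Helper6.PM
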