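import Mathlib
import Cfsg.Agent.Lib.Helper1.StemZD7
import Cfsg.Agent.Lib.Helper1.StemZP5

set_option autoImplicit false

/-! Labelled actions: a stem extension with kernel a `p`-group, over a group with a point
stabilizer `K` that has a perfect normal subgroup `K₁` with a cyclic quotient of order `p ^ n₂`,
has a kernel of order at most `p ^ E * t / p ^ n₂`, where `t` bounds the kernels of the stem
extensions of `K₁` (the variant of `StemZD.card_ker_mul_le_pow_mul` of helper1 for an arbitrary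
prime and the interface `ValsBound`). -/

namespace Cfsg.Agent.Lib.Helper6.Mult

open Cfsg.Agent.Lib.Helper1 Cfsg.Agent.Lib.Helper1.MatCode Cfsg.Agent.Lib.Helper1.Stem
  Cfsg.Agent.Lib.Helper1.StemSA Cfsg.Agent.Lib.Helper1.StemZLin Cfsg.Agent.Lib.Helper1.StemZA
  Cfsg.Agent.Lib.Helper1.StemZC Cfsg.Agent.Lib.Helper1.StemZD Cfsg.Agent.Lib.Helper1.StemZP

open scoped commutatorElement

universe u v

theorem card_ker_mul_le_pow_mul_vals (p : ℕ) [hp : Fact p.Prime] (D : SAData) (E : ℕ)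
    (hV : ValsBound.{u} D p E) (hS : D.chkStruct = true) (hm : 0 < D.m)
    {G : Type v} {Y : Type*} [Group G] [MulAction G Y] (pt : ℕ → Y) (gs : List G)
    (hgen : Subgroup.closure {g | ∃ i < D.k, g = gs.getD i 1} = ⊤)
    (pt_zero : ∀ j < D.m, pt j = pt 0 → j = 0)
    (pi_act : ∀ i < D.k, ∀ j < D.m, gs.getD i 1 • pt j = pt (D.pi i j))
    (hodd : ∀ i < D.k, Nat.Coprime (D.ords.getD i 0) p ∧ (gs.getD i 1) ^ (D.ords.getD i 0) = 1)
    (hrel : ∀ w ∈ D.rels, wordProd gs w.1 = wordProd gs w.2)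
    (K : Subgroup G) (hKdef : K = MulAction.stabilizer G (pt 0))
    {Q : Type*} [Group Q] [IsCyclic Q] (q : K →* Q) (hq : Function.Surjective q)
    (n2 : ℕ) (hQ : Nat.card Q = p ^ n2)
    (K₁ : Subgroup G) (hle : K₁ ≤ K) (hK₁ : ∀ k : K, q k = 1 ↔ (k : G) ∈ K₁)
    (hperf : commutator K₁ = ⊤) (t : ℕ)
    (hT : ∀ (Γ' : Type u) [Group Γ'] [Finite Γ'] (σ' : Γ' →* K₁),
      Cfsg.IsStemExtension σ' → IsPGroup p σ'.ker → Nat.card σ'.ker ≤ t)
    (Γ : Type u) [Group Γ] [Finite Γ] (σ : Γ →* G) (hσ : Cfsg.IsStemExtension σ)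
    (a : ℕ) (hc : Nat.card σ.ker = p ^ a) :
    Nat.card σ.ker * p ^ n2 ≤ p ^ E * t := by
  classical
  obtain ⟨hs, hcen, hcomm⟩ := hσ
  set Kc := K.comap σ with hKc
  haveI : Finite Q := Nat.finite_of_card_ne_zero (by rw [hQ]; exact pow_ne_zero _ hp.out.ne_zero)
  have hmemKc : ∀ g : Γ, g ∈ Kc ↔ σ g • pt 0 = pt 0 := by
    intro g
    rw [hKc, Subgroup.mem_comap, hKdef, MulAction.mem_stabilizer_iff]
  have hkpow : ∀ c : Γ, σ c = 1 → c ^ p ^ a = 1 := by
    intro c hc1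
    have h1 : (⟨c, MonoidHom.mem_ker.mpr hc1⟩ : σ.ker) ^ Nat.card σ.ker = 1 := pow_card_eq_one'
    rw [hc] at h1
    exact congrArg Subtype.val h1
  -- the restriction of `σ`
  let σK : Kc →* K := (σ.comp Kc.subtype).codRestrict K (fun x => x.2)
  have hσKs : Function.Surjective σK := by
    intro k
    obtain ⟨g, hg⟩ := hs k.1
    exact ⟨⟨g, by rw [hKc, Subgroup.mem_comap, hg]; exact k.2⟩, Subtype.ext hg⟩
  letI : CommGroup Q := IsCyclic.commGroup
  let τ : Kc →* Q := q.comp σK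
  have hτs : Function.Surjective τ := hq.comp hσKs
  have hτker : ∀ x : Kc, τ x = 1 ↔ σ x.1 ∈ K₁ := by
    intro x
    show q (σK x) = 1 ↔ _
    rw [hK₁]
    rfl
  -- the labels
  let κ : Γ → Additive (Abelianization Kc) := fun g =>
    if h : g ∈ Kc then Additive.ofMul (Abelianization.of ⟨g, h⟩) else 0
  have hκ : ∀ (g : Γ) (h : g ∈ Kc), κ g = Additive.ofMul (Abelianization.of ⟨g, h⟩) := by
    intro g h
    simp only [κ, dif_pos h]
  have hlift : ∀ (g : Γ) (hg : g ∈ Kc), ((⟨g, hg⟩ : Kc) ∈ commutator Kc ↔ g ∈ liftSub σ K) := by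
    intro g hg
    unfold liftSub
    rw [← Subgroup.map_subtype_commutator]
    constructor
    · intro h
      exact ⟨⟨g, hg⟩, h, rfl⟩
    · rintro ⟨w, hw, hwg⟩
      have : w = ⟨g, hg⟩ := Subtype.ext hwg
      rw [← this]; exact hw
  have hof1 : ∀ (g : Γ) (hg : g ∈ Kc), Abelianization.of (⟨g, hg⟩ : Kc) = 1 ↔ g ∈ liftSub σ K := by
    intro g hg
    rw [← hlift g hg]
    exact QuotientGroup.eq_one_iff _
  have hK₁K : liftSub σ K₁ ≤ liftSub σ K :=
    Subgroup.commutator_mono (Subgroup.comap_mono hle) (Subgroup.comap_mono hle)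
  have hKK₁ : liftSub σ K ≤ liftSub σ K₁ :=
    liftSub_le_of_cyclic_quotient σ hs hcen K K₁ hle q hK₁ hperf
  have hliftX : ∀ i : ℕ, ∃ x : Γ, σ x = gs.getD i 1 ∧ (i < D.k → x ^ (D.ords.getD i 0) = 1) := by
    intro i
    by_cases hi : i < D.k
    · obtain ⟨ho, hp'⟩ := hodd i hi
      obtain ⟨x, hx1, hx2⟩ := StemZB.exists_lift_pow_eq_one σ hs p a hkpow _ _ ho hp'
      exact ⟨x, hx1, fun _ => hx2⟩
    · obtain ⟨x, hx⟩ := hs (gs.getD i 1)
      exact ⟨x, hx, fun h => absurd h hi⟩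
  choose xf hxf using hliftX
  let X : List Γ := (List.range D.k).map xf
  have hX : ∀ i < D.k, X.getD i 1 = xf i := by
    intro i hi
    have : i < X.length := by simp [X, hi]
    rw [List.getD_eq_getElem _ _ this]
    simp [X]
  have hσX : ∀ i < D.k, σ (X.getD i 1) = gs.getD i 1 := by
    intro i hi
    rw [hX i hi]; exact (hxf i).1
  have H : ZAHyp D σ pt X κ :=
    { ker_central := hcen
      pt_zero := pt_zero
      pi_act := by
        intro i hi j hj
        rw [hσX i hi]; exact pi_act i hi j hj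
      pow_one := by
        intro i hi
        rw [hX i hi]; exact (hxf i).2 hi
      rel_ok := by
        intro w hw
        obtain ⟨hw1, hw2⟩ := rels_lt D hS w hw
        rw [sigma_wordProd σ X gs D.k hσX w.1 hw1, sigma_wordProd σ X gs D.k hσX w.2 hw2]
        exact hrel w hw
      gen := by
        intro g
        have h1 : Subgroup.closure {g | ∃ i < D.k, g = X.getD i 1} = ⊤ := by
          apply closure_eq_top_of_stem σ ⟨hs, hcen, hcomm⟩
          rw [eq_top_iff, ← hgen]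
          apply Subgroup.closure_mono
          rintro _ ⟨i, hi, rfl⟩
          exact ⟨X.getD i 1, ⟨i, hi, rfl⟩, hσX i hi⟩
        rw [h1]; exact Subgroup.mem_top g
      kap_mul := by
        intro g h hg hh
        have hg' : g ∈ Kc := (hmemKc g).mpr hg
        have hh' : h ∈ Kc := (hmemKc h).mpr hh
        rw [hκ g hg', hκ h hh', hκ (g * h) (Kc.mul_mem hg' hh'), ← ofMul_mul, ← map_mul]
        rfl }
  -- the exponent of the group of labels
  have h2 : ∀ x : Additive (Abelianization Kc), ((p : ℤ) ^ (a + n2)) • x = 0 := by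
    intro x
    obtain ⟨y, rfl⟩ := Additive.ofMul.surjective x
    obtain ⟨⟨g, hg⟩, rfl⟩ := QuotientGroup.mk_surjective y
    have e0 : τ (⟨g, hg⟩ ^ p ^ n2) = 1 := by
      rw [map_pow, ← hQ]; exact pow_card_eq_one'
    rw [hτker] at e0
    obtain ⟨c, hck, hgc⟩ := exists_mul_mem_liftSub σ hs K₁ hperf (g ^ p ^ n2) e0
    have hcK : c ∈ Kc := by
      rw [hmemKc, MonoidHom.mem_ker.mp hck, one_smul]
    have hgK : g ^ p ^ n2 ∈ Kc := Kc.pow_mem hg _
    have e1 : Abelianization.of (⟨g ^ p ^ n2, hgK⟩ : Kc) * Abelianization.of (⟨c, hcK⟩ : Kc)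
        = 1 := by
      rw [← map_mul]
      exact (hof1 (g ^ p ^ n2 * c) (Kc.mul_mem hgK hcK)).mpr (hK₁K hgc)
    have e2 : Abelianization.of (⟨c, hcK⟩ : Kc) ^ p ^ a = 1 := by
      rw [← map_pow]
      have : (⟨c, hcK⟩ : Kc) ^ p ^ a = 1 := Subtype.ext (hkpow c (MonoidHom.mem_ker.mp hck))
      rw [this, map_one]
    have e3 : Abelianization.of (⟨g, hg⟩ : Kc) ^ p ^ (a + n2) = 1 := by
      have e5 : Abelianization.of (⟨g ^ p ^ n2, hgK⟩ : Kc) =
          Abelianization.of (⟨g, hg⟩ : Kc) ^ p ^ n2 := by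
        rw [← map_pow]; rfl
      have : Abelianization.of (⟨g, hg⟩ : Kc) ^ p ^ n2 =
          (Abelianization.of (⟨c, hcK⟩ : Kc))⁻¹ := by
        rw [← e5]; exact eq_inv_of_mul_eq_one_left e1
      rw [pow_add, mul_comm, pow_mul, this, inv_pow, e2, inv_one]
    show ((p : ℤ) ^ (a + n2)) • Additive.ofMul (Abelianization.of (⟨g, hg⟩ : Kc)) = 0
    rw [← ofMul_zpow]
    have : Abelianization.of (⟨g, hg⟩ : Kc) ^ ((p : ℤ) ^ (a + n2)) = 1 := by
      have e4 : ((p : ℤ) ^ (a + n2)) = ((p ^ (a + n2) : ℕ) : ℤ) := by push_cast; rfl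
      rw [e4, zpow_natCast, e3]
    rw [this]; rfl
  haveI : Finite (Additive (Abelianization Kc)) := by
    show Finite (Abelianization Kc)
    infer_instance
  obtain ⟨A₀, hA₀, hker⟩ := zq_main' D σ pt X κ hS H p E hV hm (a + n2) h2
  -- the stem extension of the perfect subgroup
  have hstem := liftHom_isStem σ hs hcen K₁ hperf
  have hpk : IsPGroup p (liftHom σ K₁).ker := by
    intro x
    refine ⟨a, ?_⟩
    apply Subtype.ext
    apply Subtype.ext
    have hx : σ (x.1 : Γ) = 1 := by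
      have := x.2
      rw [MonoidHom.mem_ker] at this
      exact congrArg Subtype.val this
    exact hkpow _ hx
  have hcard := hT (liftSub σ K₁) (liftHom σ K₁) hstem hpk
  -- the counting
  have hsec : ∀ x : Q, ∃ k : Kc, τ k = x := fun x => hτs x
  choose sec hsec' using hsec
  have hzK : ∀ z : σ.ker, z.1 ∈ Kc := by
    intro z
    rw [hmemKc, MonoidHom.mem_ker.mp z.2, one_smul]
  have hτz : ∀ z : σ.ker, τ ⟨z.1, hzK z⟩ = 1 := by
    intro z
    rw [hτker]
    show σ z.1 ∈ K₁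
    rw [MonoidHom.mem_ker.mp z.2]; exact K₁.one_mem
  let Φ : σ.ker × Q → A₀ := fun p =>
    ⟨κ (p.1.1 * (sec p.2).1), hker _ ((hmemKc _).mp (Kc.mul_mem (hzK p.1) (sec p.2).2))⟩
  have hΦv : ∀ p : σ.ker × Q, ((Φ p : A₀) : Additive (Abelianization Kc)) =
      Additive.ofMul (Abelianization.of (⟨p.1.1, hzK p.1⟩ * sec p.2)) := by
    intro p
    show κ (p.1.1 * (sec p.2).1) = _
    rw [hκ _ (Kc.mul_mem (hzK p.1) (sec p.2).2)]
    rfl
  -- equal values
  have hΦeq : ∀ p p' : σ.ker × Q, Φ p = Φ p' →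
      p.2 = p'.2 ∧ p.1.1 * p'.1.1⁻¹ ∈ liftSub σ K₁ := by
    rintro ⟨z, x⟩ ⟨z', x'⟩ hp
    have h1 := congrArg Subtype.val hp
    rw [hΦv, hΦv] at h1
    have h3 : Abelianization.of (⟨z.1, hzK z⟩ * sec x) =
        Abelianization.of (⟨z'.1, hzK z'⟩ * sec x') := Additive.ofMul.injective h1
    have h4 : (⟨z.1, hzK z⟩ * sec x) * (⟨z'.1, hzK z'⟩ * sec x')⁻¹ ∈ commutator Kc := by
      rw [← QuotientGroup.eq_one_iff]
      show Abelianization.of _ = 1
      rw [map_mul, map_inv, h3, mul_inv_cancel]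
    have h5 : τ ((⟨z.1, hzK z⟩ * sec x) * (⟨z'.1, hzK z'⟩ * sec x')⁻¹) = 1 :=
      Abelianization.commutator_subset_ker τ h4
    rw [map_mul, map_inv, map_mul, map_mul, hτz z, hτz z', one_mul, one_mul, hsec', hsec',
      mul_inv_eq_one] at h5
    refine ⟨h5, ?_⟩
    subst h5
    have h6 : (⟨z.1, hzK z⟩ * sec x) * (⟨z'.1, hzK z'⟩ * sec x)⁻¹ =
        (⟨z.1 * z'.1⁻¹, Kc.mul_mem (hzK z) (Kc.inv_mem (hzK z'))⟩ : Kc) := by
      apply Subtype.ext
      show z.1 * (sec x).1 * (z'.1 * (sec x).1)⁻¹ = z.1 * z'.1⁻¹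
      group
    rw [h6] at h4
    exact hKK₁ ((hlift _ _).mp h4)
  have hbase : ∀ bb : A₀, ∃ p₀ : σ.ker × Q, (∃ p : σ.ker × Q, Φ p = bb) → Φ p₀ = bb := by
    intro bb
    by_cases h : ∃ p : σ.ker × Q, Φ p = bb
    · obtain ⟨p, hp⟩ := h
      exact ⟨p, fun _ => hp⟩
    · exact ⟨(1, 1), fun h' => absurd h' h⟩
  choose base hbase' using hbase
  have hsame : ∀ p : σ.ker × Q, Φ (base (Φ p)) = Φ p := fun p => hbase' (Φ p) ⟨p, rfl⟩
  let F : σ.ker × Q → A₀ × (liftHom σ K₁).ker := fun p =>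
    (Φ p, ⟨⟨p.1.1 * (base (Φ p)).1.1⁻¹, (hΦeq p (base (Φ p)) (hsame p).symm).2⟩, by
      rw [MonoidHom.mem_ker]
      apply Subtype.ext
      show σ (p.1.1 * (base (Φ p)).1.1⁻¹) = 1
      rw [map_mul, map_inv, MonoidHom.mem_ker.mp p.1.2, MonoidHom.mem_ker.mp (base (Φ p)).1.2,
        inv_one, mul_one]⟩)
  have hF : Function.Injective F := by
    intro p p' hpp
    have h1 : Φ p = Φ p' := congrArg Prod.fst hpp
    have h2' : p.1.1 * (base (Φ p)).1.1⁻¹ = p'.1.1 * (base (Φ p')).1.1⁻¹ := by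
      have := congrArg (fun q : A₀ × (liftHom σ K₁).ker => ((q.2 : liftSub σ K₁) : Γ)) hpp
      exact this
    rw [h1] at h2'
    have h3 : p.1 = p'.1 := Subtype.ext (mul_right_cancel h2')
    have h4 : p.2 = p'.2 := (hΦeq p p' h1).1
    exact Prod.ext h3 h4
  have h3 := Nat.card_le_card_of_injective F hF
  rw [Nat.card_prod, Nat.card_prod, hQ] at h3
  exact h3.trans (Nat.mul_le_mul hA₀ hcard)

end Cfsg.Agent.Lib.Helper6.Mult
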