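import Cfsg.Agent.Lib.Helper6.Mult.PM3
import Cfsg.Agent.Lib.Helper6.Mult.CycP
import Cfsg.Agent.Lib.Helper1.StemZP6
import Cfsg.Agent.Lib.Helper1.StemZP7

set_option autoImplicit false
set_option maxRecDepth 100000

/-! # Groups with a faithful permutation action given by tables: the bounds on the kernels of
the stem extensions, from the certificates -/

namespace Cfsg.Agent.Lib.Helper6.PM

open Cfsg.Agent.Lib.Helper6.TC
open Cfsg.Agent.Lib.Helper1 Cfsg.Agent.Lib.Helper1.MatCode Cfsg.Agent.Lib.Helper1.StemSA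

open scoped Pointwise

universe u

section

variable (M : PModel) (p : ℕ) [hp : Fact p.Prime] (D : SAData) (C : StemZP.ZRCert)
  (hCp : C.p = p) (hcert : StemZP.chkCertR D C = true) (hS : D.chkStruct = true)
  (ws : List (List ℕ)) (pm : ℕ → ℕ → ℕ) (lw : List (List ℕ))
  (core : CoreFacts M D ws pm lw) (hm : 0 < D.m)
  (hord : ∀ i < D.k, Nat.Coprime (D.ords.getD i 0) p)

omit hp in
include hCp hcert in
theorem valsBound : StemZP.ValsBound.{u} D p C.es.sum := by
  have h := StemZP.valsBound_of_certR.{u} D C hcert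
  rwa [hCp] at h

omit hp in
include core hord in
theorem hodd_of_core : ∀ i < D.k,
    Nat.Coprime (D.ords.getD i 0) p ∧ ((gs M ws).getD i 1) ^ (D.ords.getD i 0) = 1 :=
  fun i hi => ⟨hord i hi, hpow M D ws pm lw core i hi⟩

section points

variable (PL PLI : ℕ → ℕ) (hP : chkPts M D ws pm PL PLI = true)

include hS core hm hP in
/-- the order of the stabilizer of the first point -/
theorem card_stab_pts :
    Nat.card (MulAction.stabilizer M.G (pt M PL 0)) * D.m = Nat.card M.G :=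
  StemOrb.card_stabilizer_mul D hS (pt M PL) (gs M ws) (hgen M D ws pm lw core)
    (pi_act M D ws pm PL PLI core.2.1 core.1 hS hP) hm (pt_inj M D ws pm PL PLI hP)

include hCp hcert hS core hm hord hP in
/-- the bound with a perfect normal subgroup of the stabilizer with a cyclic quotient -/
theorem bound_pts_cyc (K : Subgroup M.G) (hK : K = MulAction.stabilizer M.G (pt M PL 0))
    {Q : Type*} [Group Q] [IsCyclic Q] (q : K →* Q)
    (K₁ : Subgroup M.G) (hle : K₁ ≤ K) (hK₁ : ∀ k : K, q k = 1 ↔ (k : M.G) ∈ K₁)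
    (hperf : commutator K₁ = ⊤) (t : ℕ)
    (hT : ∀ (Γ' : Type u) [Group Γ'] [Finite Γ'] (σ' : Γ' →* K₁),
      Cfsg.IsStemExtension σ' → IsPGroup p σ'.ker → Nat.card σ'.ker ≤ t)
    (Γ : Type u) [Group Γ] [Finite Γ] (σ : Γ →* M.G) (hσ : Cfsg.IsStemExtension σ)
    (hk : IsPGroup p σ.ker) : Nat.card σ.ker ≤ p ^ C.es.sum * t :=
  StemZP.card_ker_le_pow_mul_cyc p D C.es.sum (valsBound p D C hCp hcert) hS hm (pt M PL)
    (gs M ws) (hgen M D ws pm lw core)
    (fun j hj h => pt_inj M D ws pm PL PLI hP j hj 0 hm h)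
    (pi_act M D ws pm PL PLI core.2.1 core.1 hS hP) (hodd_of_core M p D ws pm lw core hord)
    (hrel M D ws pm lw hS core) K hK q K₁ hle hK₁ hperf t hT Γ σ hσ hk

include hCp hcert hS core hm hord hP in
/-- the bound with a perfect normal subgroup of the stabilizer with a cyclic quotient of order
`p ^ n2` -/
theorem bound_pts_n2 (K : Subgroup M.G) (hK : K = MulAction.stabilizer M.G (pt M PL 0))
    {Q : Type*} [Group Q] [IsCyclic Q] (q : K →* Q) (hq : Function.Surjective q)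
    (n2 : ℕ) (hQ : Nat.card Q = p ^ n2)
    (K₁ : Subgroup M.G) (hle : K₁ ≤ K) (hK₁ : ∀ k : K, q k = 1 ↔ (k : M.G) ∈ K₁)
    (hperf : commutator K₁ = ⊤) (t : ℕ)
    (hT : ∀ (Γ' : Type u) [Group Γ'] [Finite Γ'] (σ' : Γ' →* K₁),
      Cfsg.IsStemExtension σ' → IsPGroup p σ'.ker → Nat.card σ'.ker ≤ t)
    (Γ : Type u) [Group Γ] [Finite Γ] (σ : Γ →* M.G) (hσ : Cfsg.IsStemExtension σ)
    (hk : IsPGroup p σ.ker) : Nat.card σ.ker * p ^ n2 ≤ p ^ C.es.sum * t := by
  obtain ⟨a, ha⟩ := IsPGroup.iff_card.mp hk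
  exact Mult.card_ker_mul_le_pow_mul_vals p D C.es.sum (valsBound p D C hCp hcert) hS hm
    (pt M PL) (gs M ws) (hgen M D ws pm lw core)
    (fun j hj h => pt_inj M D ws pm PL PLI hP j hj 0 hm h)
    (pi_act M D ws pm PL PLI core.2.1 core.1 hS hP) (hodd_of_core M p D ws pm lw core hord)
    (hrel M D ws pm lw hS core) K hK q hq n2 hQ K₁ hle hK₁ hperf t hT Γ σ hσ a ha

include hCp hcert hS core hm hord hP in
/-- the bound with a stabilizer which has a cyclic Sylow subgroup with a normal complement -/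
theorem bound_pts_powP (n2 u' : ℕ) (hu : Nat.Coprime u' p) (hu0 : 0 < u')
    (K : Subgroup M.G) (hK : K = MulAction.stabilizer M.G (pt M PL 0))
    (hKcard : Nat.card K = p ^ n2 * u') (c : K) (hco : orderOf c = p ^ n2)
    (N : Subgroup K) [N.Normal] (hN : Nat.card N = u')
    (hQ : ∀ x y : K ⧸ N, x * y = y * x)
    (Γ : Type u) [Group Γ] [Finite Γ] (σ : Γ →* M.G) (hσ : Cfsg.IsStemExtension σ)
    (hk : IsPGroup p σ.ker) : Nat.card σ.ker * p ^ n2 ≤ p ^ C.es.sum := by
  obtain ⟨a, ha⟩ := IsPGroup.iff_card.mp hk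
  exact StemZP.card_ker_mul_le_powP p D C.es.sum (valsBound p D C hCp hcert) hS hm
    (pt M PL) (gs M ws) (hgen M D ws pm lw core)
    (fun j hj h => pt_inj M D ws pm PL PLI hP j hj 0 hm h)
    (pi_act M D ws pm PL PLI core.2.1 core.1 hS hP) (hodd_of_core M p D ws pm lw core hord)
    (hrel M D ws pm lw hS core) n2 u' hu hu0 K hK hKcard c hco N hN hQ Γ σ hσ a ha

end points

section sets

variable (masks : ℕ → ℕ)
  (hA : ∀ i < ws.length, chkSets M pm masks D.m D.pi i = true)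
  (hD : chkDistinct M masks D.m = true)

include hS core hm hA hD in
/-- the order of the stabilizer of the first set -/
theorem card_stab_sets :
    Nat.card (MulAction.stabilizer M.G (ptS M masks 0)) * D.m = Nat.card M.G :=
  StemOrb.card_stabilizer_mul D hS (ptS M masks) (gs M ws) (hgen M D ws pm lw core)
    (pi_actS M ws pm masks core.2.1 D core.1 hA) hm (ptS_inj M masks D.m hD)

include hCp hcert hS core hm hord hA hD in
theorem bound_sets_cyc (K : Subgroup M.G) (hK : K = MulAction.stabilizer M.G (ptS M masks 0))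
    {Q : Type*} [Group Q] [IsCyclic Q] (q : K →* Q)
    (K₁ : Subgroup M.G) (hle : K₁ ≤ K) (hK₁ : ∀ k : K, q k = 1 ↔ (k : M.G) ∈ K₁)
    (hperf : commutator K₁ = ⊤) (t : ℕ)
    (hT : ∀ (Γ' : Type u) [Group Γ'] [Finite Γ'] (σ' : Γ' →* K₁),
      Cfsg.IsStemExtension σ' → IsPGroup p σ'.ker → Nat.card σ'.ker ≤ t)
    (Γ : Type u) [Group Γ] [Finite Γ] (σ : Γ →* M.G) (hσ : Cfsg.IsStemExtension σ)
    (hk : IsPGroup p σ.ker) : Nat.card σ.ker ≤ p ^ C.es.sum * t :=
  StemZP.card_ker_le_pow_mul_cyc p D C.es.sum (valsBound p D C hCp hcert) hS hm (ptS M masks)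
    (gs M ws) (hgen M D ws pm lw core)
    (fun j hj h => ptS_inj M masks D.m hD j hj 0 hm h)
    (pi_actS M ws pm masks core.2.1 D core.1 hA) (hodd_of_core M p D ws pm lw core hord)
    (hrel M D ws pm lw hS core) K hK q K₁ hle hK₁ hperf t hT Γ σ hσ hk

include hCp hcert hS core hm hord hA hD in
theorem bound_sets_n2 (K : Subgroup M.G) (hK : K = MulAction.stabilizer M.G (ptS M masks 0))
    {Q : Type*} [Group Q] [IsCyclic Q] (q : K →* Q) (hq : Function.Surjective q)
    (n2 : ℕ) (hQ : Nat.card Q = p ^ n2)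
    (K₁ : Subgroup M.G) (hle : K₁ ≤ K) (hK₁ : ∀ k : K, q k = 1 ↔ (k : M.G) ∈ K₁)
    (hperf : commutator K₁ = ⊤) (t : ℕ)
    (hT : ∀ (Γ' : Type u) [Group Γ'] [Finite Γ'] (σ' : Γ' →* K₁),
      Cfsg.IsStemExtension σ' → IsPGroup p σ'.ker → Nat.card σ'.ker ≤ t)
    (Γ : Type u) [Group Γ] [Finite Γ] (σ : Γ →* M.G) (hσ : Cfsg.IsStemExtension σ)
    (hk : IsPGroup p σ.ker) : Nat.card σ.ker * p ^ n2 ≤ p ^ C.es.sum * t := by
  obtain ⟨a, ha⟩ := IsPGroup.iff_card.mp hk
  exact Mult.card_ker_mul_le_pow_mul_vals p D C.es.sum (valsBound p D C hCp hcert) hS hm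
    (ptS M masks) (gs M ws) (hgen M D ws pm lw core)
    (fun j hj h => ptS_inj M masks D.m hD j hj 0 hm h)
    (pi_actS M ws pm masks core.2.1 D core.1 hA) (hodd_of_core M p D ws pm lw core hord)
    (hrel M D ws pm lw hS core) K hK q hq n2 hQ K₁ hle hK₁ hperf t hT Γ σ hσ a ha

end sets

end

end Cfsg.Agent.Lib.Helper6.PM
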