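import Mathlib

set_option autoImplicit false

/-! # Some lemmas on finite groups for the computation of multipliers: perfect groups, subgroups
of index two -/

namespace Cfsg.Agent.Lib.Helper6.PM

open scoped commutatorElement

universe u

/-- a group generated by two elements of orders dividing `m`, `n` whose product has order
dividing `l`, with `m`, `n`, `l` pairwise coprime, is perfect -/
theorem perfect_of_coprime {H : Type*} [Group H] (x y : H)
    (hgen : Subgroup.closure ({x, y} : Set H) = ⊤) (m n l : ℕ) (hx : x ^ m = 1) (hy : y ^ n = 1)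
    (hxy : (x * y) ^ l = 1) (hmn : Nat.Coprime m n) (hml : Nat.Coprime m l)
    (hnl : Nat.Coprime n l) : commutator H = ⊤ := by
  let π : H →* Abelianization H := Abelianization.of
  have hx' : π x ^ m = 1 := by rw [← map_pow, hx, map_one]
  have hy' : π y ^ n = 1 := by rw [← map_pow, hy, map_one]
  have hz' : (π x * π y) ^ l = 1 := by rw [← map_mul, ← map_pow, hxy, map_one]
  have hz'' : (π x * π y) ^ (m * n) = 1 := by
    rw [mul_pow, pow_mul, hx', one_pow, mul_comm m n, pow_mul, hy', one_pow, one_mul]
  have hz : π x * π y = 1 := by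
    have hd : orderOf (π x * π y) ∣ Nat.gcd l (m * n) :=
      Nat.dvd_gcd (orderOf_dvd_of_pow_eq_one hz') (orderOf_dvd_of_pow_eq_one hz'')
    have hc : Nat.Coprime l (m * n) := Nat.Coprime.mul_right hml.symm hnl.symm
    rw [hc.gcd_eq_one, Nat.dvd_one] at hd
    exact orderOf_eq_one_iff.mp hd
  have hxe : π x = (π y)⁻¹ := eq_inv_of_mul_eq_one_left hz
  have hx1 : π x = 1 := by
    have h1 : π x ^ n = 1 := by rw [hxe, inv_pow, hy', inv_one]
    have hd : orderOf (π x) ∣ Nat.gcd m n :=
      Nat.dvd_gcd (orderOf_dvd_of_pow_eq_one hx') (orderOf_dvd_of_pow_eq_one h1)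
    rw [hmn.gcd_eq_one, Nat.dvd_one] at hd
    exact orderOf_eq_one_iff.mp hd
  have hy1 : π y = 1 := by
    rw [hx1] at hxe
    rw [← inv_inj, ← hxe, inv_one]
  have hker : ∀ g : H, π g = 1 → g ∈ commutator H := by
    intro g hg
    exact (QuotientGroup.eq_one_iff (N := commutator H) g).mp hg
  rw [eq_top_iff, ← hgen, Subgroup.closure_le]
  intro g hg
  simp only [Set.mem_insert_iff, Set.mem_singleton_iff] at hg
  rcases hg with rfl | rfl
  · exact hker _ hx1
  · exact hker _ hy1

/-- a simple group which is not commutative is perfect -/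
theorem perfect_of_simple {H : Type*} [Group H] [IsSimpleGroup H] (x y : H)
    (hxy : x * y ≠ y * x) : commutator H = ⊤ := by
  rcases (inferInstance : (commutator H).Normal).eq_bot_or_eq_top with h | h
  · exfalso
    apply hxy
    have hc : ⁅x, y⁆ ∈ commutator H := by
      rw [commutator_def]
      exact Subgroup.commutator_mem_commutator (Subgroup.mem_top x) (Subgroup.mem_top y)
    rw [h, Subgroup.mem_bot, commutatorElement_eq_one_iff_mul_comm] at hc
    exact hc
  · exact h

/-- a subgroup of a group of order `2 * c`, of order divisible by `c`, not the whole group, has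
order `c` -/
theorem card_eq_of_dvd_of_ne {G : Type*} [Group G] (K H : Subgroup G) [Finite K] (hle : H ≤ K)
    (hne : H ≠ K) (c : ℕ) (hK : Nat.card K = 2 * c) (hdvd : c ∣ Nat.card H) :
    Nat.card H = c := by
  have hKpos : 0 < Nat.card K := Nat.card_pos
  have hc0 : 0 < c := by
    rcases Nat.eq_zero_or_pos c with h | h
    · rw [h] at hK; omega
    · exact h
  obtain ⟨d, hd⟩ := hdvd
  have h2 : Nat.card H ∣ Nat.card K := Subgroup.card_dvd_of_le hle
  rw [hK, hd] at h2
  have hd2 : d ∣ 2 := by
    rw [mul_comm 2 c] at h2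
    exact (Nat.mul_dvd_mul_iff_left hc0).mp h2
  have hd12 : d = 1 ∨ d = 2 := by
    have hle2 := Nat.le_of_dvd (by norm_num) hd2
    interval_cases d
    · simp at hd2
    · exact Or.inl rfl
    · exact Or.inr rfl
  rcases hd12 with rfl | rfl
  · rw [hd, mul_one]
  · exfalso
    apply hne
    haveI : Finite H := Finite.of_injective (Subgroup.inclusion hle) (Subgroup.inclusion_injective hle)
    apply Subgroup.eq_of_le_of_card_ge hle
    rw [hK, hd, mul_comm]

/-- the quotient of order two by a subgroup of index two -/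
theorem exists_quot_two {G : Type u} [Group G] (K H : Subgroup G) [Finite K] (hle : H ≤ K)
    (hK : Nat.card K = 2 * Nat.card H) :
    ∃ (Q : Type u) (_ : Group Q) (_ : IsCyclic Q) (q : K →* Q),
      Function.Surjective q ∧ Nat.card Q = 2 ^ 1 ∧ ∀ k : K, q k = 1 ↔ (k : G) ∈ H := by
  have hc : Nat.card (H.subgroupOf K) = Nat.card H :=
    Nat.card_congr (Subgroup.subgroupOfEquivOfLe hle).toEquiv
  have hidx : (H.subgroupOf K).index = 2 := by
    have h := Subgroup.card_mul_index (H.subgroupOf K)
    rw [hc, hK] at h
    have hpos : 0 < Nat.card H := by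
      rcases Nat.eq_zero_or_pos (Nat.card H) with h0 | h0
      · rw [h0] at hK
        have : 0 < Nat.card K := Nat.card_pos
        omega
      · exact h0
    have : Nat.card H * (H.subgroupOf K).index = Nat.card H * 2 := by rw [h]; ring
    exact Nat.eq_of_mul_eq_mul_left hpos this
  haveI : (H.subgroupOf K).Normal := Subgroup.normal_of_index_eq_two hidx
  have hcQ : Nat.card (K ⧸ H.subgroupOf K) = 2 := by rw [← Subgroup.index_eq_card, hidx]
  refine ⟨K ⧸ H.subgroupOf K, inferInstance, isCyclic_of_prime_card (p := 2) hcQ,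
    QuotientGroup.mk' _, QuotientGroup.mk'_surjective _, by rw [hcQ]; rfl, fun k => ?_⟩
  rw [QuotientGroup.mk'_apply, QuotientGroup.eq_one_iff, Subgroup.mem_subgroupOf]

/-- a group of order 2 is commutative -/
theorem comm_of_card_two {Q : Type*} [Group Q] (h : Nat.card Q = 2) : ∀ x y : Q, x * y = y * x := by
  haveI : IsCyclic Q := isCyclic_of_prime_card (p := 2) h
  intro x y
  letI := IsCyclic.commGroup (α := Q)
  exact mul_comm x y

end Cfsg.Agent.Lib.Helper6.PM
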