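import Cfsg.Agent.Lib.Helper1.Stem19
import Cfsg.Agent.Lib.Helper1.Stem20
import Cfsg.Prelude.Def_SporadicB

set_option autoImplicit false

/-! # The kernels of the stem extensions of a non-split double cover of a simple group with a
cyclic multiplier of order `n` have orders dividing `n / 2` -/

namespace Cfsg.Agent.Lib.Helper6.DCov

open Cfsg.Agent.Lib.Helper1

universe u

section

variable {G : Type u} {Q : Type u} [Group G] [Group Q]

/-- the quotient map of a double cover -/
noncomputable def rho (e : G ⧸ Subgroup.center G ≃* Q) : G →* Q :=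
  e.toMonoidHom.comp (QuotientGroup.mk' (Subgroup.center G))

theorem rho_surjective (e : G ⧸ Subgroup.center G ≃* Q) : Function.Surjective (rho e) :=
  e.surjective.comp (QuotientGroup.mk'_surjective _)

theorem ker_rho (e : G ⧸ Subgroup.center G ≃* Q) : (rho e).ker = Subgroup.center G := by
  ext x
  rw [MonoidHom.mem_ker]
  show e (QuotientGroup.mk' (Subgroup.center G) x) = 1 ↔ _
  rw [MulEquiv.map_eq_one_iff, QuotientGroup.mk'_apply, QuotientGroup.eq_one_iff]

/-- a non-split double cover of a perfect group is perfect -/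
theorem perfect_of_nonsplit [Finite G] (hdc : Cfsg.IsNonsplitDoubleCover G Q) (hQ : commutator Q = ⊤) :
    commutator G = ⊤ := by
  obtain ⟨h2, ⟨e⟩, hns⟩ := hdc
  set Z := Subgroup.center G with hZ
  set C := commutator G with hC
  have hmap : C.map (rho e) = ⊤ := by
    rw [hC, Stem.map_commutator_of_surjective (rho e) (rho_surjective e), hQ]
  have hmul : ∀ g : G, ∃ z ∈ Z, ∃ c ∈ C, z * c = g := by
    intro g
    have hg : rho e g ∈ C.map (rho e) := by
      rw [hmap]
      exact Subgroup.mem_top _
    obtain ⟨c, hc, hcg⟩ := hg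
    refine ⟨g * c⁻¹, ?_, c, hc, by group⟩
    rw [hZ, ← ker_rho e, MonoidHom.mem_ker, map_mul, map_inv, hcg, mul_inv_cancel]
  by_cases hle : Z ≤ C
  · rw [eq_top_iff]
    intro g _
    obtain ⟨z, hz, c, hc, rfl⟩ := hmul g
    exact mul_mem (hle hz) hc
  · exfalso
    apply hns C
    apply Subgroup.isComplement'_of_disjoint_and_mul_eq_univ
    · rw [disjoint_iff]
      by_contra hne
      apply hle
      have hD : Z ⊓ C ≤ Z := inf_le_left
      have hd : Nat.card ↥(Z ⊓ C) ∣ 2 := by
        rw [← h2]
        exact Subgroup.card_dvd_of_le hD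
      have hcard : Nat.card ↥(Z ⊓ C) ≠ 1 := by
        intro h1
        exact hne (Subgroup.card_eq_one.mp h1)
      have h2' : Nat.card ↥(Z ⊓ C) = 2 := by
        rcases (Nat.dvd_prime Nat.prime_two).mp hd with h | h
        · exact absurd h hcard
        · exact h
      have hEq : Z ⊓ C = Z := Subgroup.eq_of_le_of_card_ge hD (by rw [h2', h2])
      rw [← hEq]
      exact inf_le_right
    · ext g
      simp only [Set.mem_univ, iff_true]
      obtain ⟨z, hz, c, hc, rfl⟩ := hmul g
      exact Set.mul_mem_mul hz hc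

/-- the kernels of the stem extensions of a non-split double cover of a perfect group whose
stem extensions have cyclic kernels of orders dividing `n` -/
theorem card_ker_mul_two_dvd [Finite G] (hdc : Cfsg.IsNonsplitDoubleCover G Q) (hQ : commutator Q = ⊤)
    (n : ℕ)
    (hub : ∀ (Γ : Type u) [Group Γ] [Finite Γ] (τ : Γ →* Q), Cfsg.IsStemExtension τ →
      IsCyclic τ.ker ∧ Nat.card τ.ker ∣ n)
    (Γ : Type u) [Group Γ] [Finite Γ] (σ : Γ →* G) (hσ : Cfsg.IsStemExtension σ) :
    Nat.card σ.ker * 2 ∣ n := by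
  have hG := perfect_of_nonsplit hdc hQ
  obtain ⟨h2, ⟨e⟩, hns⟩ := hdc
  have hτ : Cfsg.IsStemExtension ((rho e).comp σ) :=
    Stem.isStem_comp σ (rho e) hσ (rho_surjective e) (by rw [ker_rho e]) hG
  have h := (Stem.ub_of_quotient σ (rho e) hσ n (hub Γ _ hτ)).2
  rw [ker_rho e, h2] at h
  exact h

end

end Cfsg.Agent.Lib.Helper6.DCov
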