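import Cfsg.Agent.Lib.Helper6.Spor.U62Mat
import Cfsg.Agent.Lib.Helper1.Stem20
import Cfsg.Agent.S0279
import Cfsg.Prelude.Def_KGroupFacts

set_option autoImplicit false
set_option maxRecDepth 100000

/-! # The special unitary group `SU(6, 2)` is a stem extension of `PSU(6, 2)` with a kernel of
order 3 -/

namespace Cfsg.Agent.Lib.Helper6.U62E3

open Matrix Cfsg.Agent.Lib.Helper1.MatCode Cfsg.Agent.Lib.Helper1.Hexa
open Cfsg.Agent.Lib.Helper6.TC Cfsg.Agent.Lib.Helper6.Simp Cfsg.Agent.Lib.Helper6.F4Mat
open Cfsg.Agent.Lib.Helper6.U62Mat Cfsg.Agent.Lib.Helper1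
open Cfsg.Agent

open scoped commutatorElement

/-- a simple group whose order is not a prime is perfect -/
theorem perfect_of_simple_not_prime {G : Type*} [Group G] [IsSimpleGroup G]
    (h : ¬ (Nat.card G).Prime) : commutator G = ⊤ := by
  rcases (inferInstance : (commutator G).Normal).eq_bot_or_eq_top with hb | ht
  · exfalso
    apply h
    have hc : ∀ a b : G, a * b = b * a := by
      intro a b
      have h1 : ⁅a, b⁆ ∈ commutator G := by
        rw [commutator_def]
        exact Subgroup.commutator_mem_commutator (Subgroup.mem_top a) (Subgroup.mem_top b)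
      rw [hb, Subgroup.mem_bot, commutatorElement_eq_one_iff_mul_comm] at h1
      exact h1
    letI : CommGroup G := { (inferInstance : Group G) with mul_comm := hc }
    exact IsSimpleGroup.prime_card
  · exact ht

/-- the presented group is perfect -/
theorem perfect_G : commutator TCP.U62.G = ⊤ := by
  haveI := U62Simple.simple.1
  apply perfect_of_simple_not_prime
  rw [U62Simple.simple.2]
  norm_num

/-- the special unitary group -/
abbrev S : Type := ↥(Cfsg.SU 6 F4 2)

theorem perfect_PSU : commutator (Cfsg.PSU 6 F4 2) = ⊤ := by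
  rw [← Stem.map_commutator_of_surjective U62Mat.iso.toMonoidHom U62Mat.iso.surjective, perfect_G,
    ← MonoidHom.range_eq_map, MonoidHom.range_eq_top]
  exact U62Mat.iso.surjective

theorem card_center : Nat.card (Subgroup.center S) = 3 := by
  have h := Cfsg.Agent.S0279.result (F := F4) (q := 2) hF4.out 6 (by norm_num)
  rw [h]
  rfl

instance finite_center : Finite (Subgroup.center S) :=
  Nat.finite_of_card_ne_zero (by rw [card_center]; norm_num)

theorem code_of_word (b : List ℕ) :
    suCoe (wordProd GG b) = dec 12 2 (evalW (mulN 12 2) codes c1 b) :=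
  dec_evalW (dec 12 2) (mulN 12 2) (Canon 12 2) hmu suCoe hone hc1 GG codes rfl hGG hcan b

theorem hsq : ∀ i < 8, evalW (mulN 12 2) codes c1 [i, i] = c1 := by decide +kernel

theorem gen_sq (i : ℕ) (hi : i < 8) : GG.getD i 1 * GG.getD i 1 = 1 := by
  apply suCoe_injective
  have h := code_of_word [i, i]
  rw [hsq i hi, hone, wordProd_cons, wordProd_cons, wordProd_nil, mul_one] at h
  rw [h, map_one]

/-- a relator whose value is the scalar matrix of order three -/
theorem exists_rel : ∃ b ∈ TCP.U62.base, evalW (mulN 12 2) codes c1 b = cw := by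
  decide +kernel

theorem hcne : neB 12 2 cw c1 = true := by decide +kernel

theorem hcwcan : Canon 12 2 cw := canon_of_canonB 12 2 (by decide +kernel)

/-- the special unitary group is perfect -/
theorem perfect_S : commutator S = ⊤ := by
  haveI : Fact (Nat.Prime 3) := ⟨Nat.prime_three⟩
  set π := (Abelianization.of : S →* Abelianization S) with hπ
  have hker : ∀ d ∈ commutator S, π d = 1 := by
    intro d hd
    rw [← Abelianization.ker_of] at hd
    exact hd
  -- every element is a central element modulo the commutator subgroup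
  have h1 : ∀ s : S, ∃ z ∈ Subgroup.center S, π s = π z := by
    intro s
    have hs : (QuotientGroup.mk' (Subgroup.center S)) s ∈ commutator (Cfsg.PSU 6 F4 2) := by
      rw [perfect_PSU]
      exact Subgroup.mem_top _
    rw [← Stem.map_commutator_of_surjective (QuotientGroup.mk' (Subgroup.center S))
      (QuotientGroup.mk'_surjective _)] at hs
    obtain ⟨d, hd, hds⟩ := hs
    refine ⟨d⁻¹ * s, ?_, ?_⟩
    · rw [← QuotientGroup.ker_mk' (Subgroup.center S), MonoidHom.mem_ker, map_mul, map_inv, hds,
        inv_mul_cancel]
    · rw [map_mul, map_inv, hker d hd, inv_one, one_mul]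
  -- the images of the generators are trivial
  have h2 : ∀ i, π (GG.getD i 1) = 1 := by
    intro i
    by_cases hi : i < 8
    · obtain ⟨z, hz, e⟩ := h1 (GG.getD i 1)
      have hz3 : z ^ 3 = 1 := by
        have := pow_card_eq_one' (G := Subgroup.center S) (x := ⟨z, hz⟩)
        rw [card_center] at this
        exact congrArg Subtype.val this
      have e3 : π (GG.getD i 1) ^ 3 = 1 := by rw [e, ← map_pow, hz3, map_one]
      have e2 : π (GG.getD i 1) ^ 2 = 1 := by rw [← map_pow, pow_two, gen_sq i hi, map_one]
      calc π (GG.getD i 1) = π (GG.getD i 1) ^ 3 * (π (GG.getD i 1) ^ 2)⁻¹ := by group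
        _ = 1 := by rw [e3, e2, inv_one, mul_one]
    · rw [List.getD_eq_default _ _ (by simp [GG]; omega), map_one]
  have h3 : ∀ w : List ℕ, π (wordProd GG w) = 1 := by
    intro w
    induction w with
    | nil => rw [wordProd_nil, map_one]
    | cons i w ih => rw [wordProd_cons, map_mul, h2 i, ih, one_mul]
  -- a central element of order three which is a product of generators
  obtain ⟨b, hb, hbw⟩ := exists_rel
  have hz0 : wordProd GG b ∈ Subgroup.center S := word_central b hb
  have hne : (⟨wordProd GG b, hz0⟩ : Subgroup.center S) ≠ 1 := by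
    intro h
    have h' : wordProd GG b = 1 := congrArg Subtype.val h
    have hc := code_of_word b
    rw [hbw, h', map_one, ← hone] at hc
    exact dec_ne_of_neB 12 2 hcne hc.symm
  have htop := zpowers_eq_top_of_prime_card card_center hne
  -- the images of the central elements are trivial
  have h4 : ∀ z ∈ Subgroup.center S, π z = 1 := by
    intro z hz
    have hm : (⟨z, hz⟩ : Subgroup.center S) ∈ Subgroup.zpowers
        (⟨wordProd GG b, hz0⟩ : Subgroup.center S) := by
      rw [htop]
      exact Subgroup.mem_top _
    obtain ⟨k, hk⟩ := Subgroup.mem_zpowers_iff.mp hm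
    have hk' : (wordProd GG b) ^ k = z := by
      have := congrArg Subtype.val hk
      simpa using this
    rw [← hk', map_zpow, h3, _root_.one_zpow]
  rw [eq_top_iff]
  intro s _
  obtain ⟨z, hz, e⟩ := h1 s
  rw [← Abelianization.ker_of, MonoidHom.mem_ker, e, h4 z hz]

/-- the quotient map from the special unitary group -/
noncomputable def sigma3 : S →* Cfsg.PSU 6 F4 2 := QuotientGroup.mk' (Subgroup.center S)

theorem ker_sigma3 : sigma3.ker = Subgroup.center S := QuotientGroup.ker_mk' _

theorem sigma3_isStem : Cfsg.IsStemExtension sigma3 := by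
  refine ⟨QuotientGroup.mk'_surjective _, ?_, ?_⟩
  · rw [ker_sigma3]
  · rw [perfect_S]
    exact le_top

theorem card_ker_sigma3 : Nat.card sigma3.ker = 3 := by
  rw [ker_sigma3, card_center]

end Cfsg.Agent.Lib.Helper6.U62E3
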