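import Cfsg.Agent.Lib.Helper6.Mult.PM1

set_option autoImplicit false
set_option maxRecDepth 100000

/-! # Groups with a faithful permutation action given by tables: the model of the subgroup
generated by words -/

namespace Cfsg.Agent.Lib.Helper6.PM

open Cfsg.Agent.Lib.Helper6.TC
open Cfsg.Agent.Lib.Helper1 Cfsg.Agent.Lib.Helper1.MatCode Cfsg.Agent.Lib.Helper1.StemSA

section sub

variable (M : PModel) (ws : List (List ℕ)) (pm : ℕ → ℕ → ℕ)

/-- the subgroup generated by the elements of the words -/
def subH : Subgroup M.G := Subgroup.closure {g | ∃ i < ws.length, g = M.elt (ws.getD i [])}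

theorem elt_expand_mem (w : List ℕ) : M.elt (expand ws w) ∈ subH M ws := by
  induction w with
  | nil =>
    rw [expand_nil, M.elt_nil]
    exact one_mem _
  | cons i w ih =>
    rw [expand_cons, M.elt_append]
    refine mul_mem ?_ ih
    by_cases hi : i < ws.length
    · exact Subgroup.subset_closure ⟨i, hi, rfl⟩
    · rw [List.getD_eq_default _ _ (by omega), M.elt_nil]
      exact one_mem _

/-- the element of the subgroup given by a word in the generators -/
noncomputable def subElt (w : List ℕ) : ↥(subH M ws) := ⟨M.elt (expand ws w), elt_expand_mem M ws w⟩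

theorem closure_subElt : Subgroup.closure {g : ↥(subH M ws) | ∃ c < ws.length, g = subElt M ws [c]} =
    ⊤ := by
  have e : {g : ↥(subH M ws) | ∃ c < ws.length, g = subElt M ws [c]} =
      ((↑) : ↥(subH M ws) → M.G) ⁻¹' {g | ∃ i < ws.length, g = M.elt (ws.getD i [])} := by
    ext g
    simp only [Set.mem_ofPred_eq, Set.mem_preimage]
    constructor
    · rintro ⟨c, hc, rfl⟩
      refine ⟨c, hc, ?_⟩
      show M.elt (expand ws [c]) = _
      rw [expand_cons, expand_nil, List.append_nil]
    · rintro ⟨c, hc, h⟩
      refine ⟨c, hc, Subtype.ext ?_⟩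
      show (g : M.G) = M.elt (expand ws [c])
      rw [expand_cons, expand_nil, List.append_nil]
      exact h
  rw [e]
  exact Subgroup.closure_closure_coe_preimage

variable (hT : TabFacts M ws pm)

/-- the model of the subgroup generated by the elements of the words, the letters being the
generators -/
noncomputable def sub : PModel where
  G := ↥(subH M ws)
  n := M.n
  nl := ws.length
  px := pm
  elt := subElt M ws
  phi := M.phi.comp (subH M ws).subtype
  elt_nil := Subtype.ext (by
    show M.elt (expand ws []) = 1
    rw [expand_nil, M.elt_nil])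
  elt_append := fun u v => Subtype.ext (by
    show M.elt (expand ws (u ++ v)) = M.elt (expand ws u) * M.elt (expand ws v)
    rw [expand_append, M.elt_append])
  px_lt := fun c hc q hq => pm_lt M ws pm hT c hc q hq
  phi_inv_val := by
    intro w hw p
    show ((M.phi (M.elt (expand ws w)))⁻¹ p).val = _
    rw [M.phi_inv_val _ (expand_lt ws M.nl hT.1 w)]
    exact (wapp_expand M ws pm hT w hw p.val p.isLt).1
  phi_injective := M.phi_injective.comp Subtype.val_injective
  closure_letters := closure_subElt M ws

end sub

end Cfsg.Agent.Lib.Helper6.PM
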