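import Cfsg.Agent.Lib.Helper6.WP9
import Cfsg.Agent.Lib.Helper1.StemZB4
import Cfsg.Agent.Lib.Helper1.StemOrb

set_option autoImplicit false
set_option maxRecDepth 100000

/-! # Groups with a faithful permutation action given by tables: the model, and the subgroup
generated by words -/

namespace Cfsg.Agent.Lib.Helper6.PM

open Cfsg.Agent.Lib.Helper6.TC
open Cfsg.Agent.Lib.Helper1 Cfsg.Agent.Lib.Helper1.MatCode Cfsg.Agent.Lib.Helper1.StemSA

/-- a finite group with elements given by words of letters, acting faithfully on `n` points, the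
action of the letters being given by a table -/
structure PModel where
  G : Type
  [grp : Group G]
  [fin : Finite G]
  n : ℕ
  [nz : NeZero n]
  nl : ℕ
  px : ℕ → ℕ → ℕ
  elt : List ℕ → G
  phi : G →* Equiv.Perm (Fin n)
  elt_nil : elt [] = 1
  elt_append : ∀ u v, elt (u ++ v) = elt u * elt v
  px_lt : ∀ c < nl, ∀ q < n, px c q < n
  phi_inv_val : ∀ w, (∀ c ∈ w, c < nl) → ∀ p : Fin n,
    ((phi (elt w))⁻¹ p).val = wapp px w p.val
  phi_injective : Function.Injective phi
  closure_letters : Subgroup.closure {g : G | ∃ c < nl, g = elt [c]} = ⊤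

attribute [instance] PModel.grp PModel.fin PModel.nz

namespace PModel

variable (M : PModel)

noncomputable instance actG : MulAction M.G (Fin M.n) := MulAction.compHom (Fin M.n) M.phi

theorem smul_def (g : M.G) (p : Fin M.n) : g • p = M.phi g p := rfl

instance faithfulG : FaithfulSMul M.G (Fin M.n) where
  eq_of_smul_eq_smul := by
    intro g h hgh
    apply M.phi_injective
    ext p
    exact congrArg Fin.val (hgh p)

theorem elt_cons (c : ℕ) (w : List ℕ) : M.elt (c :: w) = M.elt [c] * M.elt w := by
  rw [← M.elt_append]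
  rfl

theorem wapp_lt (w : List ℕ) (hw : ∀ c ∈ w, c < M.nl) (q : ℕ) (hq : q < M.n) :
    wapp M.px w q < M.n := by
  induction w generalizing q with
  | nil => exact hq
  | cons c w ih =>
    rw [wapp_cons]
    exact ih (fun c' hc' => hw c' (List.mem_cons_of_mem _ hc')) _
      (M.px_lt c (hw c List.mem_cons_self) q hq)

/-- the action of the element of a word, from the table -/
theorem elt_smul (w : List ℕ) (hw : ∀ c ∈ w, c < M.nl) (p p' : Fin M.n)
    (h : wapp M.px w p'.val = p.val) : M.elt w • p = p' := by
  rw [smul_def]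
  have h1 : (M.phi (M.elt w))⁻¹ p' = p := Fin.ext (by rw [M.phi_inv_val w hw, h])
  rw [← h1]
  simp

theorem inv_elt_smul_val (w : List ℕ) (hw : ∀ c ∈ w, c < M.nl) (p : Fin M.n) :
    ((M.elt w)⁻¹ • p).val = wapp M.px w p.val := by
  rw [smul_def, map_inv]
  exact M.phi_inv_val w hw p

/-- two words acting in the same way on the points give the same element -/
theorem elt_eq_of_wapp (w w' : List ℕ) (hw : ∀ c ∈ w, c < M.nl) (hw' : ∀ c ∈ w', c < M.nl)
    (h : ∀ q < M.n, wapp M.px w q = wapp M.px w' q) : M.elt w = M.elt w' := by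
  apply M.phi_injective
  apply inv_injective
  ext p
  rw [M.phi_inv_val w hw, M.phi_inv_val w' hw']
  exact h p.val p.isLt

end PModel

/-- the expansion of a word in the generators into a word in the letters -/
def expand (ws : List (List ℕ)) (w : List ℕ) : List ℕ := w.flatMap fun i => ws.getD i []

theorem expand_nil (ws : List (List ℕ)) : expand ws [] = [] := rfl

theorem expand_cons (ws : List (List ℕ)) (i : ℕ) (w : List ℕ) :
    expand ws (i :: w) = ws.getD i [] ++ expand ws w := by
  unfold expand
  rw [List.flatMap_cons]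

theorem expand_append (ws : List (List ℕ)) (u v : List ℕ) :
    expand ws (u ++ v) = expand ws u ++ expand ws v := by
  unfold expand
  rw [List.flatMap_append]

theorem expand_lt (ws : List (List ℕ)) (nl : ℕ) (hws : ∀ w ∈ ws, ∀ c ∈ w, c < nl) (w : List ℕ) :
    ∀ c ∈ expand ws w, c < nl := by
  intro c hc
  unfold expand at hc
  rw [List.mem_flatMap] at hc
  obtain ⟨i, _, hci⟩ := hc
  by_cases hi : i < ws.length
  · rw [List.getD_eq_getElem _ _ hi] at hci
    exact hws _ (List.getElem_mem _) c hci
  · rw [List.getD_eq_default _ _ (by omega)] at hci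
    simp at hci

section tab

variable (M : PModel) (ws : List (List ℕ)) (pm : ℕ → ℕ → ℕ)

/-- the tables `pm` of the generators given by the words `ws` -/
def TabFacts : Prop :=
  (∀ w ∈ ws, ∀ c ∈ w, c < M.nl) ∧
    (∀ i < ws.length, ∀ q < M.n, wapp M.px (ws.getD i []) q = pm i q)

/-- the check of the table of a generator -/
noncomputable def chkTab (i : ℕ) : Bool :=
  ((ws.getD i []).all fun c => decide (c < M.nl)) &&
  ((List.range M.n).all fun q => wappS M.px (ws.getD i []) q == pm i q)

theorem tabFacts_of_chk (h : ∀ i < ws.length, chkTab M ws pm i = true) : TabFacts M ws pm := by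
  constructor
  · intro w hw c hc
    obtain ⟨i, hi, rfl⟩ := List.getElem_of_mem hw
    have h1 := h i hi
    unfold chkTab at h1
    simp only [Bool.and_eq_true, List.all_eq_true, decide_eq_true_eq] at h1
    rw [List.getD_eq_getElem _ _ hi] at h1
    exact h1.1 c hc
  · intro i hi q hq
    have h1 := h i hi
    unfold chkTab at h1
    simp only [Bool.and_eq_true, List.all_eq_true, beq_iff_eq, List.mem_range, wappS_eq] at h1
    exact h1.2 q hq

variable (hT : TabFacts M ws pm)
include hT

theorem pm_lt (i : ℕ) (hi : i < ws.length) (q : ℕ) (hq : q < M.n) : pm i q < M.n := by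
  rw [← hT.2 i hi q hq]
  apply M.wapp_lt _ _ q hq
  apply hT.1
  rw [List.getD_eq_getElem _ _ hi]
  exact List.getElem_mem _

/-- the action of an expanded word, from the tables of the generators -/
theorem wapp_expand (w : List ℕ) (hw : ∀ i ∈ w, i < ws.length) (q : ℕ) (hq : q < M.n) :
    wapp M.px (expand ws w) q = wapp pm w q ∧ wapp pm w q < M.n := by
  induction w generalizing q with
  | nil => exact ⟨rfl, hq⟩
  | cons i w ih =>
    have hi : i < ws.length := hw i List.mem_cons_self
    have hlt : pm i q < M.n := pm_lt M ws pm hT i hi q hq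
    rw [expand_cons, wapp_append, hT.2 i hi q hq, wapp_cons]
    exact ih (fun i' hi' => hw i' (List.mem_cons_of_mem _ hi')) _ hlt

end tab

end Cfsg.Agent.Lib.Helper6.PM
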