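import Cfsg.Agent.Lib.Helper6.Mult.PM5

set_option autoImplicit false
set_option maxRecDepth 100000

/-! # Groups with a faithful permutation action given by tables: the bound on the kernels of the
stem extensions for an action on sets whose stabilizer has a cyclic Sylow subgroup with a normal
complement; cyclic stabilizers -/

namespace Cfsg.Agent.Lib.Helper6.PM

open Cfsg.Agent.Lib.Helper6.TC
open Cfsg.Agent.Lib.Helper1 Cfsg.Agent.Lib.Helper1.MatCode Cfsg.Agent.Lib.Helper1.StemSA

open scoped Pointwise

universe u

section

variable (M : PModel) (p : ℕ) [hp : Fact p.Prime] (D : SAData) (C : StemZP.ZRCert)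
  (hCp : C.p = p) (hcert : StemZP.chkCertR D C = true) (hS : D.chkStruct = true)
  (ws : List (List ℕ)) (pm : ℕ → ℕ → ℕ) (lw : List (List ℕ))
  (core : CoreFacts M D ws pm lw) (hm : 0 < D.m)
  (hord : ∀ i < D.k, Nat.Coprime (D.ords.getD i 0) p)
  (masks : ℕ → ℕ)
  (hA : ∀ i < ws.length, chkSets M pm masks D.m D.pi i = true)
  (hD : chkDistinct M masks D.m = true)

include hCp hcert hS core hm hord hA hD in
/-- the bound with a stabilizer of a set which has a cyclic Sylow subgroup with a normal
complement -/
theorem bound_sets_powP (n2 u' : ℕ) (hu : Nat.Coprime u' p) (hu0 : 0 < u')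
    (K : Subgroup M.G) (hK : K = MulAction.stabilizer M.G (ptS M masks 0))
    (hKcard : Nat.card K = p ^ n2 * u') (c : K) (hco : orderOf c = p ^ n2)
    (N : Subgroup K) [N.Normal] (hN : Nat.card N = u')
    (hQ : ∀ x y : K ⧸ N, x * y = y * x)
    (Γ : Type u) [Group Γ] [Finite Γ] (σ : Γ →* M.G) (hσ : Cfsg.IsStemExtension σ)
    (hk : IsPGroup p σ.ker) : Nat.card σ.ker * p ^ n2 ≤ p ^ C.es.sum := by
  obtain ⟨a, ha⟩ := IsPGroup.iff_card.mp hk
  exact StemZP.card_ker_mul_le_powP p D C.es.sum (valsBound p D C hCp hcert) hS hm
    (ptS M masks) (gs M ws) (hgen M D ws pm lw core)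
    (fun j hj h => ptS_inj M masks D.m hD j hj 0 hm h)
    (pi_actS M ws pm masks core.2.1 D core.1 hA) (hodd_of_core M p D ws pm lw core hord)
    (hrel M D ws pm lw hS core) n2 u' hu hu0 K hK hKcard c hco N hN hQ Γ σ hσ a ha

include hS core hA in
/-- the action of a product of generators on the sets -/
theorem wordProd_smul_sets (w : List ℕ) (hw : ∀ i ∈ w, i < D.k) (j : ℕ) (hj : j < D.m) :
    D.actW w j < D.m ∧ wordProd (gs M ws) w • ptS M masks j = ptS M masks (D.actW w j) :=
  StemZB.smul_wordProd D hS (ptS M masks) (gs M ws)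
    (pi_actS M ws pm masks core.2.1 D core.1 hA) w hw j hj

include hS core hA hD in
/-- a product of generators which moves a set is not trivial -/
theorem ne_one_of_move_sets (w : List ℕ) (hw : ∀ i ∈ w, i < D.k) (j : ℕ) (hj : j < D.m)
    (h : D.actW w j ≠ j) : wordProd (gs M ws) w ≠ 1 := by
  intro h1
  obtain ⟨hlt, hact⟩ := wordProd_smul_sets M D hS ws pm lw core masks hA w hw j hj
  rw [h1, one_smul] at hact
  exact h (ptS_inj M masks D.m hD _ hj _ hlt hact).symm

include core in
/-- a product of generators which acts trivially on the points is trivial -/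
theorem eq_one_of_pm (w : List ℕ) (hw : ∀ i ∈ w, i < D.k)
    (h : ∀ q < M.n, wapp pm w q = q) : wordProd (gs M ws) w = 1 := by
  have h1 := wordProd_eq_of_pm M D ws pm lw core w [] hw (by simp)
    (fun q hq => by rw [h q hq]; rfl)
  rwa [wordProd_nil] at h1

theorem wordProd_flatten_replicate {G : Type*} [Group G] (l : List G) (w : List ℕ) (n : ℕ) :
    wordProd l (List.replicate n w).flatten = (wordProd l w) ^ n := by
  induction n with
  | zero => simp [wordProd_nil]
  | succ k ih => rw [List.replicate_succ, List.flatten_cons, wordProd_append, ih, pow_succ']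

end

section distinct

/-- the sets of masks are distinct when an inverse table recovers their indices -/
theorem chkDistinct_of_inv (M : PModel) (masks : ℕ → ℕ) (m : ℕ) (inv : ℕ → ℕ)
    (h : ((List.range m).all fun j => inv (masks j % 2 ^ M.n) == j) = true) :
    chkDistinct M masks m = true := by
  simp only [List.all_eq_true, List.mem_range, beq_iff_eq] at h
  unfold chkDistinct
  simp only [List.all_eq_true, List.mem_range, bne_iff_ne, ne_eq]
  intro j hj j' hj' heq
  have h1 := h j hj
  rw [heq, h j' (hj'.trans hj)] at h1
  omega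

end distinct

section cyclic

variable {K : Type*} [Group K]

/-- a finite group with an element whose order is the order of the group is commutative -/
theorem comm_of_orderOf_eq_card [Finite K] (g : K) (h : orderOf g = Nat.card K) :
    ∀ x y : K, x * y = y * x := by
  haveI : IsCyclic K := isCyclic_of_orderOf_eq_card g h
  intro x y
  letI := IsCyclic.commGroup (α := K)
  exact mul_comm x y

/-- the subgroups of a commutative group are normal -/
theorem normal_of_comm' (hc : ∀ x y : K, x * y = y * x) (N : Subgroup K) : N.Normal where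
  conj_mem := by
    intro n hn g
    have e : g * n * g⁻¹ = n := by rw [hc g n, mul_inv_cancel_right]
    rw [e]
    exact hn

/-- the quotients of a commutative group are commutative -/
theorem quot_comm_of_comm (hc : ∀ x y : K, x * y = y * x) (N : Subgroup K) [N.Normal] :
    ∀ x y : K ⧸ N, x * y = y * x := by
  intro x y
  induction x using QuotientGroup.induction_on with
  | H a =>
    induction y using QuotientGroup.induction_on with
    | H b => rw [← QuotientGroup.mk_mul, ← QuotientGroup.mk_mul, hc a b]

/-- an element of order 6 -/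
theorem orderOf_eq_six (g : K) (h6 : g ^ 6 = 1) (h2 : g ^ 2 ≠ 1) (h3 : g ^ 3 ≠ 1) :
    orderOf g = 6 := by
  have hd : orderOf g ∣ 6 := orderOf_dvd_of_pow_eq_one h6
  have hmem : orderOf g ∈ Nat.divisors 6 := Nat.mem_divisors.mpr ⟨hd, by norm_num⟩
  have e : Nat.divisors 6 = {1, 2, 3, 6} := by decide
  rw [e] at hmem
  simp only [Finset.mem_insert, Finset.mem_singleton] at hmem
  rcases hmem with h | h | h | h
  · exfalso
    apply h2
    rw [orderOf_eq_one_iff.mp h, one_pow]
  · exfalso
    apply h2
    rw [← h]
    exact pow_orderOf_eq_one g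
  · exfalso
    apply h3
    rw [← h]
    exact pow_orderOf_eq_one g
  · exact h

end cyclic

end Cfsg.Agent.Lib.Helper6.PM
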