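import Mathlib
import Cfsg.Agent.Lib.Helper6.Mult.Chunk

set_option autoImplicit false

/-! Checking the main part of the certificates of `StemZP7` in pieces: the rows of the right
inverse are checked range by range, so that the kernel never holds all the intermediate packed
sums at the same time. -/

namespace Cfsg.Agent.Lib.Helper6.Mult

open Cfsg.Agent.Lib.Helper1 Cfsg.Agent.Lib.Helper1.StemSA Cfsg.Agent.Lib.Helper1.StemZA
  Cfsg.Agent.Lib.Helper1.StemZC Cfsg.Agent.Lib.Helper1.StemZD Cfsg.Agent.Lib.Helper1.StemZE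
  Cfsg.Agent.Lib.Helper1.StemZP

theorem all_range_of_chunks (f : ℕ → Bool) (N K sz : ℕ) (hK : N ≤ K * sz)
    (h : ∀ k < K, ((List.range sz).all fun i => decide (N ≤ k * sz + i) || f (k * sz + i)) = true) :
    (List.range N).all f = true := by
  rw [List.all_eq_true]
  intro i hi
  rw [List.mem_range] at hi
  have hsz : 0 < sz := by
    rcases Nat.eq_zero_or_pos sz with h0 | h0
    · subst h0
      omega
    · exact h0
  have hk : i / sz < K := by
    rw [Nat.div_lt_iff_lt_mul hsz]
    omega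
  have h1 := h (i / sz) hk
  rw [List.all_eq_true] at h1
  have h2 := h1 (i % sz) (List.mem_range.mpr (Nat.mod_lt i hsz))
  have e : i / sz * sz + i % sz = i := by
    rw [Nat.mul_comm]
    exact Nat.div_add_mod i sz
  rw [e] at h2
  rw [Bool.or_eq_true, decide_eq_true_eq] at h2
  rcases h2 with h2 | h2
  · omega
  · exact h2

variable (D : SAData)

/-- the check of a certificate without the checks of its equations, of its rows and of its
combinations -/
def chkCertRPre (C : ZRCert) : Bool :=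
  decide (1 < C.p) && decide (C.bs.length ≤ C.N) &&
  (C.bs.all fun b => decide (b < D.n) && decide (0 < C.colOf b)) &&
  ((List.range C.N).all fun c => decide (C.unk c < D.n)) && chkColR D C &&
  chkMask C && (C.es.length == C.bs.length) && (C.es.all fun e => decide (e < C.s))

/-- the check of a range of equations -/
def chkSpecChunk (C : ZRCert) (lo len : ℕ) : Bool :=
  (List.range len).all fun i => decide (C.N - C.bs.length ≤ lo + i) ||
    (D.chkSpec (C.specs (lo + i)) && chkRangeS D (C.specs (lo + i)))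

/-- the check of the digits of a range of rows -/
def chkRowsChunk (C : ZRCert) (lo len : ℕ) : Bool :=
  (List.range len).all fun i => decide (C.N ≤ lo + i) ||
    (decide (C.R (lo + i) < C.Xb ^ C.N) && (C.R (lo + i) &&& rep C.Xb C.N C.hmR == 0))

/-- the check of a range of combinations of rows -/
def chkRowRChunk (C : ZRCert) (lo len : ℕ) : Bool :=
  (List.range len).all fun i => decide (C.N ≤ lo + i) ||
    chkRowR D C (C.Xb ^ C.N) (rep C.Xb C.N C.hmQ) (lo + i)

theorem chkCertRMain_of_chunks (C : ZRCert) (K₃ sz₃ K₁ sz₁ K₂ sz₂ : ℕ) (hK₃ : C.N ≤ K₃ * sz₃)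
    (hK₁ : C.N ≤ K₁ * sz₁) (hK₂ : C.N ≤ K₂ * sz₂)
    (h0 : chkCertRPre D C = true) (h3 : ∀ k < K₃, chkSpecChunk D C (k * sz₃) sz₃ = true)
    (h1 : ∀ k < K₁, chkRowsChunk C (k * sz₁) sz₁ = true)
    (h2 : ∀ k < K₂, chkRowRChunk D C (k * sz₂) sz₂ = true) : chkCertRMain D C = true := by
  have e1 : chkRows C (C.Xb ^ C.N) (rep C.Xb C.N C.hmR) = true := by
    unfold chkRows
    exact all_range_of_chunks _ C.N K₁ sz₁ hK₁ h1
  have e2 : ((List.range C.N).all (chkRowR D C (C.Xb ^ C.N) (rep C.Xb C.N C.hmQ))) = true :=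
    all_range_of_chunks _ C.N K₂ sz₂ hK₂ h2
  have e3 : ((List.range (C.N - C.bs.length)).all fun i =>
      D.chkSpec (C.specs i) && chkRangeS D (C.specs i)) = true :=
    all_range_of_chunks _ (C.N - C.bs.length) K₃ sz₃ (le_trans (Nat.sub_le _ _) hK₃) h3
  have e4 : ((List.range (C.N - C.bs.length)).all fun i => D.chkSpec (C.specs i)) = true := by
    rw [List.all_eq_true] at e3 ⊢
    intro i hi
    have := e3 i hi
    rw [Bool.and_eq_true] at this
    exact this.1
  have e5 : ((List.range (C.N - C.bs.length)).all fun i => chkRangeS D (C.specs i)) = true := by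
    rw [List.all_eq_true] at e3 ⊢
    intro i hi
    have := e3 i hi
    rw [Bool.and_eq_true] at this
    exact this.2
  unfold chkCertRPre at h0
  unfold chkCertRMain
  simp only [Bool.and_eq_true] at h0 ⊢
  obtain ⟨⟨⟨⟨⟨⟨⟨a1, a2⟩, a5⟩, a6⟩, a7⟩, a8⟩, a9⟩, a10⟩ := h0
  exact ⟨⟨⟨⟨⟨⟨⟨⟨⟨⟨⟨a1, a2⟩, e4⟩, e5⟩, a5⟩, a6⟩, a7⟩, a8⟩, e1⟩, e2⟩, a9⟩, a10⟩

end Cfsg.Agent.Lib.Helper6.Mult
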