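import Cfsg.Agent.Lib.Helper6.Mult.McLA
import Cfsg.Agent.Lib.Helper6.MultD.MCLAp2I
import Cfsg.Agent.Lib.Helper6.MultD.MCLAp3I
import Cfsg.Agent.Lib.Helper6.MultD.MCLAp3L
import Cfsg.Agent.Lib.Helper6.MultD.MCLAp3S
import Cfsg.Agent.Lib.Helper6.MultD.MCLPp5I
import Cfsg.Agent.Lib.Helper6.MultD.MCLCp2I
import Cfsg.Agent.Lib.Helper6.MultD.MCLCp3I
import Cfsg.Agent.Lib.Helper6.MultD.MCLCp3L
import Cfsg.Agent.Lib.Helper6.MultD.MCLCp3S
import Cfsg.Agent.Lib.Helper1.Stem14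
import Cfsg.Agent.Lib.Helper1.Stem17
import Cfsg.Agent.Lib.Helper1.Stem21

set_option autoImplicit false
set_option maxRecDepth 100000

/-! # The kernels of the stem extensions of the McLaughlin group have order dividing 3 -/

namespace Cfsg.Agent.Lib.Helper6.McLMu

open Cfsg.Agent.Lib.Helper6.TC Cfsg.Agent.Lib.Helper6.PM
open Cfsg.Agent.Lib.Helper6.MultD
open Cfsg.Agent.Lib.Helper1 Cfsg.Agent.Lib.Helper1.MatCode Cfsg.Agent.Lib.Helper1.StemSA

open scoped Pointwise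

universe u

/-- the orders of the generators are coprime to the prime -/
theorem hord_of_chk (D : SAData) (p : ℕ)
    (h : ((List.range D.k).all fun i => Nat.gcd (D.ords.getD i 0) p == 1) = true) :
    ∀ i < D.k, Nat.Coprime (D.ords.getD i 0) p := by
  simp only [List.all_eq_true, List.mem_range, beq_iff_eq] at h
  exact h

theorem hordAll : (∀ i < DMCLCp2.k, Nat.Coprime (DMCLCp2.ords.getD i 0) 2) ∧
    (∀ i < DMCLCp3.k, Nat.Coprime (DMCLCp3.ords.getD i 0) 3) ∧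
    (∀ i < DMCLAp2.k, Nat.Coprime (DMCLAp2.ords.getD i 0) 2) ∧
    (∀ i < DMCLAp3.k, Nat.Coprime (DMCLAp3.ords.getD i 0) 3) ∧
    (∀ i < DMCLPp5.k, Nat.Coprime (DMCLPp5.ords.getD i 0) 5) :=
  ⟨hord_of_chk _ _ (by decide +kernel), hord_of_chk _ _ (by decide +kernel),
    hord_of_chk _ _ (by decide +kernel), hord_of_chk _ _ (by decide +kernel),
    hord_of_chk _ _ (by decide +kernel)⟩

theorem esAll : CMCLCp2.es.sum = 3 ∧ CMCLCp3.es.sum = 1 ∧ CMCLAp2.es.sum = 0 ∧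
    CMCLAp3.es.sum = 0 ∧ CMCLPp5.es.sum = 0 := by
  decide +kernel

/-! ## The stem extensions of the subgroup `U3(5)` -/

theorem comm_quot_top {K : Type*} [Group K] : ∀ x y : K ⧸ (⊤ : Subgroup K), x * y = y * x := by
  intro x y
  haveI : Subsingleton (K ⧸ (⊤ : Subgroup K)) := QuotientGroup.subsingleton_quotient_top
  exact Subsingleton.elim _ _

theorem U_bound2 (Γ' : Type u) [Group Γ'] [Finite Γ'] (σ' : Γ' →* ↥U1)
    (hσ' : Cfsg.IsStemExtension σ') (hk : IsPGroup 2 σ'.ker) : Nat.card σ'.ker ≤ 1 := by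
  haveI : Fact (Nat.Prime 2) := ⟨Nat.prime_two⟩
  obtain ⟨N, hNn, hN, hQ⟩ := exists_compl_KC
  haveI := hNn
  have h : Nat.card σ'.ker * 2 ^ 3 ≤ 2 ^ CMCLCp2.es.sum := bound_sets_powP.{u} mclU 2 DMCLCp2 CMCLCp2
    rfl chk_certMCLCp2 chk_structMCLCp2 wsMCLCp2 pmMCLCp2 lwMCLCp2 coreMCLCp2 (by decide)
    hordAll.1 masksMCLCp2 chk_setsMCLCp2 chk_distinctMCLCp2 3 125 (by norm_num) (by norm_num)
    KC rfl (card_KC.trans (by norm_num)) ⟨c8, c8_mem⟩ orderOf_c8 N hN hQ Γ' σ' hσ' hk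
  rw [esAll.1] at h
  omega

theorem U_bound3 (Γ' : Type u) [Group Γ'] [Finite Γ'] (σ' : Γ' →* ↥U1)
    (hσ' : Cfsg.IsStemExtension σ') (hk : IsPGroup 3 σ'.ker) : Nat.card σ'.ker ≤ 3 := by
  haveI : Fact (Nat.Prime 3) := ⟨Nat.prime_three⟩
  have h : Nat.card σ'.ker * 3 ^ 0 ≤ 3 ^ CMCLCp3.es.sum := bound_sets_powP.{u} mclU 3 DMCLCp3 CMCLCp3
    rfl chk_certMCLCp3 chk_structMCLCp3 wsMCLCp3 pmMCLCp3 lwMCLCp3 coreMCLCp3 (by decide)
    hordAll.2.1 masksMCLCp3 chk_setsMCLCp3 chk_distinctMCLCp3 0 1000 (by norm_num) (by norm_num)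
    KC KC_eq3 (card_KC.trans (by norm_num)) 1 (by rw [orderOf_one, pow_zero]) ⊤
    (by rw [Subgroup.card_top, card_KC]) comm_quot_top Γ' σ' hσ' hk
  rw [esAll.2.1] at h
  omega

/-! ## The stem extensions of the group -/

theorem hker_U (k : KA) : (1 : KA →* PUnit.{1}) k = 1 ↔ (k : mclS.G) ∈ U1 :=
  ⟨fun _ => by rw [U1_eq_KA]; exact k.2, fun _ => rfl⟩

theorem hker_V (k : KP) : (1 : KP →* PUnit.{1}) k = 1 ↔ (k : mclS.G) ∈ V1 :=
  ⟨fun _ => by rw [V1_eq_KP]; exact k.2, fun _ => rfl⟩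

/-- a stem extension of the McLaughlin group whose kernel is a 2-group is trivial -/
theorem bound2 (Γ : Type u) [Group Γ] [Finite Γ] (σ : Γ →* mclS.G)
    (hσ : Cfsg.IsStemExtension σ) (hk : IsPGroup 2 σ.ker) : Nat.card σ.ker ≤ 1 := by
  haveI : Fact (Nat.Prime 2) := ⟨Nat.prime_two⟩
  have h : Nat.card σ.ker ≤ 2 ^ CMCLAp2.es.sum * 1 := bound_sets_cyc.{u} mclS 2 DMCLAp2
    CMCLAp2 rfl chk_certMCLAp2 chk_structMCLAp2 wsMCLAp2 pmMCLAp2 lwMCLAp2 coreMCLAp2 (by decide)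
    hordAll.2.2.1 masksMCLAp2 chk_setsMCLAp2 chk_distinctMCLAp2 KA rfl (1 : KA →* PUnit.{1}) U1
    U1_le_KA hker_U U1_perfect 1 U_bound2 Γ σ hσ hk
  rw [esAll.2.2.1] at h
  omega

/-- the kernel of a stem extension of the McLaughlin group which is a 3-group has order at
most 3 -/
theorem bound3 (Γ : Type u) [Group Γ] [Finite Γ] (σ : Γ →* mclS.G)
    (hσ : Cfsg.IsStemExtension σ) (hk : IsPGroup 3 σ.ker) : Nat.card σ.ker ≤ 3 := by
  haveI : Fact (Nat.Prime 3) := ⟨Nat.prime_three⟩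
  have h : Nat.card σ.ker ≤ 3 ^ CMCLAp3.es.sum * 3 := bound_sets_cyc.{u} mclS 3 DMCLAp3
    CMCLAp3 rfl chk_certMCLAp3 chk_structMCLAp3 wsMCLAp3 pmMCLAp3 lwMCLAp3 coreMCLAp3 (by decide)
    hordAll.2.2.2.1 masksMCLAp3 chk_setsMCLAp3 chk_distinctMCLAp3 KA KA_eq3 (1 : KA →* PUnit.{1}) U1
    U1_le_KA hker_U U1_perfect 3 U_bound3 Γ σ hσ hk
  rw [esAll.2.2.2.1] at h
  omega

/-- a stem extension of the subgroup `U4(3)` whose kernel is a 5-group is trivial -/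
theorem V_bound5 (Γ' : Type u) [Group Γ'] [Finite Γ'] (σ' : Γ' →* ↥V1)
    (hσ' : Cfsg.IsStemExtension σ') (hk : IsPGroup 5 σ'.ker) : Nat.card σ'.ker ≤ 1 := by
  haveI : Fact (Nat.Prime 5) := ⟨Nat.prime_five⟩
  have h : Nat.card σ'.ker = 1 :=
    Stem.card_ker_eq_one_of_not_sq_dvd σ' hσ' 5 hk (by rw [card_V1]; norm_num)
  omega

/-- a stem extension of the McLaughlin group whose kernel is a 5-group is trivial -/
theorem bound5 (Γ : Type u) [Group Γ] [Finite Γ] (σ : Γ →* mclS.G)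
    (hσ : Cfsg.IsStemExtension σ) (hk : IsPGroup 5 σ.ker) : Nat.card σ.ker ≤ 1 := by
  haveI : Fact (Nat.Prime 5) := ⟨Nat.prime_five⟩
  have h : Nat.card σ.ker ≤ 5 ^ CMCLPp5.es.sum * 1 := bound_pts_cyc.{u} mclS 5 DMCLPp5
    CMCLPp5 rfl chk_certMCLPp5 chk_structMCLPp5 wsMCLPp5 pmMCLPp5 lwMCLPp5 coreMCLPp5 (by decide)
    hordAll.2.2.2.2 PLMCLPp5 PLIMCLPp5 chk_ptsMCLPp5 KP (by rw [pt_zero PLMCLPp5 chk_fixPMCL.1])
    (1 : KP →* PUnit.{1}) V1 V1_le_KP hker_V V1_perfect 1 V_bound5 Γ σ hσ hk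
  rw [esAll.2.2.2.2] at h
  omega

/-! ## The bound -/

theorem not_sq_dvd (p : ℕ) (hp : p.Prime) (h2 : p ≠ 2) (h3 : p ≠ 3) (h5 : p ≠ 5) :
    ¬ p * p ∣ 898128000 := by
  intro h
  have hd : p ∣ 898128000 := dvd_trans (dvd_mul_right p p) h
  have e : (898128000 : ℕ) = 2 ^ 7 * 3 ^ 6 * 5 ^ 3 * 7 * 11 := by norm_num
  rw [e] at hd
  rcases (Nat.Prime.dvd_mul hp).mp hd with hd | hd
  · rcases (Nat.Prime.dvd_mul hp).mp hd with hd | hd
    · rcases (Nat.Prime.dvd_mul hp).mp hd with hd | hd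
      · rcases (Nat.Prime.dvd_mul hp).mp hd with hd | hd
        · exact h2 ((Nat.prime_dvd_prime_iff_eq hp Nat.prime_two).mp (hp.dvd_of_dvd_pow hd))
        · exact h3 ((Nat.prime_dvd_prime_iff_eq hp Nat.prime_three).mp (hp.dvd_of_dvd_pow hd))
      · exact h5 ((Nat.prime_dvd_prime_iff_eq hp Nat.prime_five).mp (hp.dvd_of_dvd_pow hd))
    · have := (Nat.prime_dvd_prime_iff_eq hp (by norm_num : Nat.Prime 7)).mp hd
      subst this
      norm_num at h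
  · have := (Nat.prime_dvd_prime_iff_eq hp (by norm_num : Nat.Prime 11)).mp hd
    subst this
    norm_num at h

/-- the bound for the kernels of the stem extensions of the McLaughlin group which are
`p`-groups -/
theorem bound_p (p : ℕ) [hp : Fact p.Prime] (Γ : Type u) [Group Γ] [Finite Γ]
    (σ : Γ →* ↥Cfsg.Spor.McL) (hσ : Cfsg.IsStemExtension σ) (hk : IsPGroup p σ.ker) :
    Nat.card σ.ker ≤ if p = 3 then 3 else 1 := by
  by_cases h3 : p = 3
  · subst h3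
    rw [if_pos rfl]
    exact bound3 Γ σ hσ hk
  · rw [if_neg h3]
    by_cases h2 : p = 2
    · subst h2
      exact bound2 Γ σ hσ hk
    · by_cases h5 : p = 5
      · subst h5
        exact bound5 Γ σ hσ hk
      · have h1 : Nat.card σ.ker = 1 := by
          haveI : Finite ↥Cfsg.Spor.McL := Nat.finite_of_card_ne_zero (by
            rw [Cfsg.Agent.Lib.Helper7.McLB.card_McL]; norm_num)
          apply Stem.card_ker_eq_one_of_not_sq_dvd σ hσ p hk
          rw [Cfsg.Agent.Lib.Helper7.McLB.card_McL]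
          exact not_sq_dvd p hp.out h2 h3 h5
        omega

/-- the kernel of a stem extension of the McLaughlin group has order dividing 3 -/
theorem hub (Γ : Type u) [Group Γ] [Finite Γ] (σ : Γ →* ↥Cfsg.Spor.McL)
    (hσ : Cfsg.IsStemExtension σ) : Nat.card σ.ker ∣ 3 := by
  apply Stem.card_dvd_of_primary σ 3 (by norm_num) ?_ hσ
  intro p hp Γ' _ _ σ' hσ' hk
  have h1 := bound_p p Γ' σ' hσ' hk
  obtain ⟨a, ha⟩ := IsPGroup.iff_card.mp hk
  by_cases h3 : p = 3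
  · subst h3
    rw [if_pos rfl] at h1
    rw [ha] at h1 ⊢
    have : a ≤ 1 := by
      by_contra hcon
      have : 3 ^ 2 ≤ 3 ^ a := Nat.pow_le_pow_right (by norm_num) (by omega)
      omega
    interval_cases a <;> norm_num
  · rw [if_neg h3] at h1
    have : Nat.card σ'.ker = 1 := by
      have := Nat.card_pos (α := σ'.ker)
      omega
    rw [this]
    exact one_dvd 3

end Cfsg.Agent.Lib.Helper6.McLMu
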