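import Mathlib
import Cfsg.Agent.Lib.Helper6.Mult.Chunk
import Cfsg.Agent.Lib.Helper6.Mult.Chunk2

set_option autoImplicit false

/-! Checking a chunk of a combination block by block: the unknowns are cut into blocks of a fixed
width, and the packed sum of the chunk is checked separately on each block, so that the kernel
only handles numbers of the size of one block.  Also the final check of the digits is cut into
ranges. -/

namespace Cfsg.Agent.Lib.Helper6.Mult

open Cfsg.Agent.Lib.Helper1 Cfsg.Agent.Lib.Helper1.StemSA Cfsg.Agent.Lib.Helper1.StemZA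
  Cfsg.Agent.Lib.Helper1.StemZC Cfsg.Agent.Lib.Helper1.StemZD Cfsg.Agent.Lib.Helper1.StemZE
  Cfsg.Agent.Lib.Helper1.StemZP

/-- the contributions whose unknown lies in the block `k` of width `B`, at their relative
positions -/
def blkEntries (B k : ℕ) (es : List (ℕ × ℕ)) : List (ℕ × ℕ) :=
  (es.filter fun e => e.1 / B == k).map fun e => (e.1 % B, e.2)

/-- the number whose blocks of width `B` are the members of `Ls` -/
def blkVal (B : ℕ) (Ls : List ℕ) : ℕ :=
  ((List.range Ls.length).map fun k => Ls.getD k 0 * X ^ (k * B)).sum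

theorem list_sum_range_eq (f : ℕ → ℕ) (K : ℕ) :
    ((List.range K).map f).sum = ∑ k ∈ Finset.range K, f k := by
  induction K with
  | zero => simp
  | succ K ih =>
    rw [List.range_succ, List.map_append, List.sum_append, ih, Finset.sum_range_succ]
    simp

theorem packSum_cons (e : ℕ × ℕ) (es : List (ℕ × ℕ)) :
    packSum (e :: es) = e.2 * X ^ e.1 + packSum es := by
  unfold packSum
  rw [List.map_cons, List.sum_cons]

theorem packSum_blkEntries_cons (B k : ℕ) (e : ℕ × ℕ) (es : List (ℕ × ℕ)) :
    packSum (blkEntries B k (e :: es)) =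
      (if e.1 / B = k then e.2 * X ^ (e.1 % B) else 0) + packSum (blkEntries B k es) := by
  unfold blkEntries
  by_cases hk : e.1 / B = k
  · have : (fun e : ℕ × ℕ => e.1 / B == k) e = true := by
      show (e.1 / B == k) = true
      rw [beq_iff_eq]; exact hk
    rw [List.filter_cons_of_pos (p := fun e : ℕ × ℕ => e.1 / B == k) this, List.map_cons,
      packSum_cons, if_pos hk]
  · have : ¬ (fun e : ℕ × ℕ => e.1 / B == k) e = true := by
      show ¬ (e.1 / B == k) = true
      rw [beq_iff_eq]; exact hk
    rw [List.filter_cons_of_neg (p := fun e : ℕ × ℕ => e.1 / B == k) this, if_neg hk, zero_add]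

theorem packSum_blocks (B K : ℕ) (es : List (ℕ × ℕ)) (h : ∀ e ∈ es, e.1 / B < K) :
    packSum es = ∑ k ∈ Finset.range K, packSum (blkEntries B k es) * X ^ (k * B) := by
  induction es with
  | nil => simp [packSum, blkEntries]
  | cons e es ih =>
    have ih' := ih (fun e' he' => h e' (List.mem_cons_of_mem _ he'))
    have he : e.1 / B < K := h e (List.mem_cons_self)
    rw [packSum_cons, ih']
    simp only [packSum_blkEntries_cons, add_mul, Finset.sum_add_distrib]
    congr 1
    simp only [ite_mul, zero_mul]
    rw [Finset.sum_ite_eq (Finset.range K) (e.1 / B), if_pos (Finset.mem_range.mpr he),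
      mul_assoc, ← pow_add, Nat.mod_add_div']

variable (D : SAData)

/-- the check of one chunk of a combination, block by block -/
def chunkOKB (N B : ℕ) (ys : List ((ℕ × ℕ) × ℕ)) (Ls : List ℕ) (T : ℕ) : Bool :=
  (ys.all fun q => D.chkSpec q.1 && chkRangeS D q.1 && decide (q.2 ≤ N)) &&
  ((entriesOfN D N ys).all fun e => decide (e.1 / B < Ls.length)) &&
  ((List.range Ls.length).all fun k =>
    packSum (blkEntries B k (entriesOfN D N ys)) == Ls.getD k 0) &&
  (((entriesOfN D N ys).map fun e => e.2).sum == T)

theorem chunkOK_of_B (N B : ℕ) (ys : List ((ℕ × ℕ) × ℕ)) (Ls : List ℕ) (T : ℕ)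
    (h : chunkOKB D N B ys Ls T = true) : chunkOK D N ys (blkVal B Ls) T = true := by
  unfold chunkOKB at h
  rw [Bool.and_eq_true, Bool.and_eq_true, Bool.and_eq_true] at h
  obtain ⟨⟨⟨h1, h2⟩, h3⟩, h4⟩ := h
  unfold chunkOK
  rw [h1, h4, Bool.true_and, Bool.and_true, beq_iff_eq]
  rw [List.all_eq_true] at h2 h3
  rw [packSum_blocks B Ls.length _ (fun e he => by simpa using h2 e he)]
  unfold blkVal
  rw [list_sum_range_eq]
  apply Finset.sum_congr rfl
  intro k hk
  have := h3 k (List.mem_range.mpr (Finset.mem_range.mp hk))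
  rw [beq_iff_eq] at this
  rw [this]

/-- the first part of the check of a chunk: the equations, the range of the unknowns and the sum
of the coefficients -/
def chunkOKB1 (N B K : ℕ) (ys : List ((ℕ × ℕ) × ℕ)) (T : ℕ) : Bool :=
  (ys.all fun q => D.chkSpec q.1 && chkRangeS D q.1 && decide (q.2 ≤ N)) &&
  ((entriesOfN D N ys).all fun e => decide (e.1 / B < K)) &&
  (((entriesOfN D N ys).map fun e => e.2).sum == T)

/-- the check of one block of a chunk -/
def chunkOKB2 (N B : ℕ) (ys : List ((ℕ × ℕ) × ℕ)) (Ls : List ℕ) (k : ℕ) : Bool :=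
  packSum (blkEntries B k (entriesOfN D N ys)) == Ls.getD k 0

theorem chunkOK_of_parts (N B : ℕ) (ys : List ((ℕ × ℕ) × ℕ)) (Ls : List ℕ) (T : ℕ)
    (h1 : chunkOKB1 D N B Ls.length ys T = true)
    (h2 : ∀ k < Ls.length, chunkOKB2 D N B ys Ls k = true) :
    chunkOK D N ys (blkVal B Ls) T = true := by
  apply chunkOK_of_B
  unfold chunkOKB1 at h1
  rw [Bool.and_eq_true, Bool.and_eq_true] at h1
  obtain ⟨⟨a1, a2⟩, a3⟩ := h1
  unfold chunkOKB
  rw [a1, a2, a3, Bool.true_and, Bool.and_true, Bool.true_and, List.all_eq_true]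
  intro k hk
  exact h2 k (List.mem_range.mp hk)

/-- a range of the final check of the digits of a combination -/
def digChunk (n N b v : ℕ) (S : ℕ) (lo sz : ℕ) : Bool :=
  (List.range sz).all fun i => decide (n ≤ lo + i) ||
    (S / X ^ (lo + i) % X % N == if lo + i = b then v else 0)

theorem digits_of_chunks (n N b v S K sz : ℕ) (hK : n ≤ K * sz)
    (h : ∀ k < K, digChunk n N b v S (k * sz) sz = true) :
    ((List.range n).all fun c => S / X ^ c % X % N == if c = b then v else 0) = true :=
  all_range_of_chunks _ n K sz hK h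

end Cfsg.Agent.Lib.Helper6.Mult
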