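import Mathlib
import Cfsg.Prelude.Def_KGroupFacts

set_option autoImplicit false

/-! # Stem extensions with a cyclic kernel generated by a given central element -/

namespace Cfsg.Agent.Lib.Helper6.Cover

variable {Γ G : Type*} [Group Γ] [Group G]

theorem normal_zpowers_of_central {z : Γ} (hz : z ∈ Subgroup.center Γ) :
    (Subgroup.zpowers z).Normal := by
  constructor
  intro n hn g
  have hn' : n ∈ Subgroup.center Γ := by
    have : Subgroup.zpowers z ≤ Subgroup.center Γ := by
      rw [Subgroup.zpowers_le]
      exact hz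
    exact this hn
  rw [Subgroup.mem_center_iff] at hn'
  rw [hn' g, mul_inv_cancel_right]
  exact hn

/-- the kernel is generated by the central element -/
theorem ker_eq_zpowers (σ : Γ →* G) (z : Γ) (hzσ : σ z = 1) [(Subgroup.zpowers z).Normal]
    (τ : G →* Γ ⧸ Subgroup.zpowers z)
    (hτ : ∀ x, τ (σ x) = (QuotientGroup.mk x : Γ ⧸ Subgroup.zpowers z)) :
    σ.ker = Subgroup.zpowers z := by
  apply le_antisymm
  · intro x hx
    rw [MonoidHom.mem_ker] at hx
    have h1 := hτ x
    rw [hx, map_one] at h1
    exact (QuotientGroup.eq_one_iff x).mp h1.symm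
  · rw [Subgroup.zpowers_le, MonoidHom.mem_ker]
    exact hzσ

/-- an extension of a finite group by a finite cyclic group is finite -/
theorem finite_of_ker [Finite G] (σ : Γ →* G) (hσ : Function.Surjective σ) (z : Γ)
    (hker : σ.ker = Subgroup.zpowers z) {n : ℕ} (hn : 0 < n) (hz : orderOf z = n) : Finite Γ := by
  apply Nat.finite_of_card_ne_zero
  rw [Subgroup.card_eq_card_quotient_mul_card_subgroup σ.ker]
  apply Nat.mul_ne_zero
  · rw [Nat.card_congr (QuotientGroup.quotientKerEquivOfSurjective σ hσ).toEquiv]
    exact Nat.card_pos.ne'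
  · rw [hker, Nat.card_zpowers, hz]
    exact hn.ne'

/-- the stem extension and its kernel -/
theorem stem_of_central (σ : Γ →* G) (hσ : Function.Surjective σ) (z : Γ)
    (hz : z ∈ Subgroup.center Γ) (hker : σ.ker = Subgroup.zpowers z)
    (hcomm : z ∈ commutator Γ) {n : ℕ} (hzn : orderOf z = n) :
    Cfsg.IsStemExtension σ ∧ IsCyclic σ.ker ∧ Nat.card σ.ker = n := by
  refine ⟨⟨hσ, ?_, ?_⟩, ?_, ?_⟩
  · rw [hker, Subgroup.zpowers_le]
    exact hz
  · rw [hker, Subgroup.zpowers_le]
    exact hcomm
  · rw [hker]
    infer_instance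
  · rw [hker, Nat.card_zpowers, hzn]

/-- an element of a group lies in the commutator subgroup when it dies in the abelianization -/
theorem mem_commutator_of_abelianization {z : Γ} (h : Abelianization.of z = 1) :
    z ∈ commutator Γ := by
  rw [← QuotientGroup.eq_one_iff]
  exact h

end Cfsg.Agent.Lib.Helper6.Cover
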