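import Cfsg.Agent.Lib.Helper6.TC8

set_option autoImplicit false

/-! # Permutation representations of presented groups from tables, without transitivity -/

namespace Cfsg.Agent.Lib.Helper6.TC

variable {px : ℕ → ℕ → ℕ} {N ncol INV : ℕ}
variable {Gen : Type*} {rels : Set (FreeGroup Gen)} {gc : ℕ → Gen × Bool}

/-- the permutation representation attached to a table of permutations satisfying the relators -/
theorem perm_rep0 (hP : PHyp px N ncol INV) {col : Gen → ℕ} (hC : CHyp gc col ncol INV)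
    (hrelP : ∀ r ∈ rels, ∀ ψ : FreeGroup Gen →* Equiv.Perm (Fin N),
      (∀ c < ncol, ψ (ceOf gc (invc INV c)) = (ψ (ceOf gc c))⁻¹) →
      ∃ w, (∀ c ∈ w, c < ncol) ∧ ψ r = ψ (wordElt gc w) ∧ ∀ p < N, wapp px w p = p) :
    ∃ φ : PresentedGroup rels →* Equiv.Perm (Fin N),
      (∀ w, (∀ c ∈ w, c < ncol) → ∀ p : Fin N,
        ((φ (PresentedGroup.mk rels (wordElt gc w)))⁻¹ p).val = wapp px w p.val) := by
  have hrels : ∀ r ∈ rels, FreeGroup.lift (fun g => (colPerm hP (col g))⁻¹) r = 1 := by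
    intro r hr
    obtain ⟨w, hw, hrw, hfix⟩ := hrelP r hr (FreeGroup.lift (fun g => (colPerm hP (col g))⁻¹)) (by
      intro c hc
      rw [lift_ceOf hP hC (hP.hinv1 c hc), lift_ceOf hP hC hc, colPerm_inv hP hc])
    rw [hrw, ← inv_eq_one]
    ext p
    rw [lift_wordElt hP hC w hw p, hfix p.val p.isLt]
    rfl
  refine ⟨PresentedGroup.toGroup hrels, ?_⟩
  intro w hw p
  have : PresentedGroup.toGroup hrels (PresentedGroup.mk rels (wordElt gc w)) =
      FreeGroup.lift (fun g => (colPerm hP (col g))⁻¹) (wordElt gc w) := rfl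
  rw [this]
  exact lift_wordElt hP hC w hw p

end Cfsg.Agent.Lib.Helper6.TC
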