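import Cfsg.Agent.Lib.Helper6.Mult.PM3
import Cfsg.Agent.Lib.Helper6.Spor.Fi22Ord

set_option autoImplicit false
set_option maxRecDepth 100000

/-! # The presented group `Fi22` acting on 3510 points, as a model -/

namespace Cfsg.Agent.Lib.Helper6.Fi22M

open Cfsg.Spor Cfsg.Agent.Lib.Helper6.TC Cfsg.Agent.Lib.Helper6.TCD Cfsg.Agent.Lib.Helper6.PM
open Cfsg.Agent.Lib.Helper6.TCP.Fi22

/-- the faithful permutation representation on 3510 points -/
noncomputable def phi : Fi22 →* Equiv.Perm (Fin 3510) := Classical.choose Fi22Ord.rep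

theorem phi_spec : (∀ w, (∀ c ∈ w, c < 9) → ∀ p : Fin 3510,
      ((phi (PresentedGroup.mk Rels (wordElt gc w)))⁻¹ p).val = wapp Fi22a.px w p.val) ∧
    Function.Injective phi ∧ Nat.card Fi22 = 64561751654400 ∧ Finite Fi22 := by
  have h := Classical.choose_spec Fi22Ord.rep
  exact ⟨h.1, h.2.2.1, h.2.2.2.1, h.2.2.2.2⟩

instance finite_Fi22 : Finite Fi22 := phi_spec.2.2.2

theorem card_Fi22 : Nat.card Fi22 = 64561751654400 := phi_spec.2.2.1

/-- the element of the group given by a word of columns -/
noncomputable def elt (w : List ℕ) : Fi22 := PresentedGroup.mk Rels (wordElt gc w)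

theorem closure_letters : Subgroup.closure {g : Fi22 | ∃ c < 9, g = elt [c]} = ⊤ := by
  rw [eq_top_iff, ← PresentedGroup.closure_range_of]
  apply Subgroup.closure_mono
  rintro _ ⟨x, rfl⟩
  refine ⟨col x, col_lt x, ?_⟩
  unfold elt
  rw [wordElt_cons, wordElt_nil, mul_one]
  congr 1
  cases x <;> rfl

/-- the model of the group -/
noncomputable def fi22Model : PModel where
  G := Fi22
  n := 3510
  nl := 9
  px := Fi22a.px
  elt := elt
  phi := phi
  elt_nil := by
    unfold elt
    rw [wordElt_nil, map_one]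
  elt_append := fun u v => by
    unfold elt
    rw [wordElt_append, map_mul]
  px_lt := fun c hc q hq => Cfsg.Agent.S1687.hP.hlt c hc q hq
  phi_inv_val := phi_spec.1
  phi_injective := phi_spec.2.1
  closure_letters := closure_letters

end Cfsg.Agent.Lib.Helper6.Fi22M
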