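import Mathlib
import Cfsg.Prelude.Def_KGroupFacts
import Cfsg.Prelude.Def_SporadicB
import Cfsg.Agent.Lib.Helper1.Stem10
import Cfsg.Agent.Lib.Helper1.Stem17
import Cfsg.Agent.Lib.Helper1.Stem19

set_option autoImplicit false

/-! # Bounds on the kernels of stem extensions: perfect central extensions, subgroups of index
prime to `p`; the stem extension given by a non-split double cover -/

namespace Cfsg.Agent.Lib.Helper6.PM

open Cfsg.Agent.Lib.Helper1 Cfsg.Agent.Lib.Helper1.Stem

open scoped Pointwise

universe u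

/-- the bound for the stem extensions of a perfect central extension `K` of `Q` by a `p`-group -/
theorem bound_of_central_quotient {K Q : Type*} [Group K] [Group Q] (π : K →* Q)
    (hπ : Function.Surjective π) (hc : π.ker ≤ Subgroup.center K) (hK : commutator K = ⊤)
    (p : ℕ) [hp : Fact p.Prime] (hpk : IsPGroup p π.ker) (t : ℕ)
    (hQ : ∀ (Γ : Type u) [Group Γ] [Finite Γ] (σ : Γ →* Q), Cfsg.IsStemExtension σ →
      IsPGroup p σ.ker → Nat.card σ.ker ≤ t)
    (Γ : Type u) [Group Γ] [Finite Γ] (τ : Γ →* K) (hτ : Cfsg.IsStemExtension τ)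
    (hk : IsPGroup p τ.ker) : Nat.card τ.ker * Nat.card π.ker ≤ t := by
  have h1 := isStem_comp τ π hτ hπ hc hK
  have h2 : Nat.card (π.comp τ).ker = Nat.card τ.ker * Nat.card π.ker := by
    rw [← card_comap_of_surjective τ hτ.1 π.ker, MonoidHom.comap_ker]
  have h3 : IsPGroup p (π.comp τ).ker := by
    obtain ⟨a, ha⟩ := IsPGroup.iff_card.mp hk
    have : Finite π.ker := by
      have : Finite K := Finite.of_surjective τ hτ.1
      infer_instance
    obtain ⟨b, hb⟩ := IsPGroup.iff_card.mp hpk
    apply IsPGroup.of_card (n := a + b)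
    rw [h2, ha, hb, pow_add]
  rw [← h2]
  exact hQ Γ (π.comp τ) h1 h3

/-- the bound for the stem extensions with a `p`-group as kernel, from those of a perfect subgroup
of index prime to `p` -/
theorem bound_of_subgroup_coprime {G : Type*} [Group G] (p : ℕ) [hp : Fact p.Prime]
    (L : Subgroup G) (hL : commutator L = ⊤) (hidx : ¬ p ∣ L.index) (t : ℕ)
    (hT : ∀ (Γ' : Type u) [Group Γ'] [Finite Γ'] (σ' : Γ' →* L), Cfsg.IsStemExtension σ' →
      IsPGroup p σ'.ker → Nat.card σ'.ker ≤ t)
    (Γ : Type u) [Group Γ] [Finite Γ] (σ : Γ →* G) (hσ : Cfsg.IsStemExtension σ)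
    (hk : IsPGroup p σ.ker) : Nat.card σ.ker ≤ t := by
  have h1 : σ.ker ≤ liftSub σ L := ker_le_commutator_comap σ hσ p hk L hidx
  have h2 := liftHom_isStem σ hσ.1 hσ.2.1 L hL
  let f : (liftHom σ L).ker →* σ.ker :=
    { toFun := fun x => ⟨x.1.1, by
        have h3 := x.2
        rw [MonoidHom.mem_ker] at h3 ⊢
        have := congrArg Subtype.val h3
        exact this⟩
      map_one' := rfl
      map_mul' := fun _ _ => rfl }
  have hfi : Function.Injective f := by
    intro x y hxy
    apply Subtype.ext
    apply Subtype.ext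
    exact congrArg (fun z : σ.ker => (z : Γ)) hxy
  have hfs : Function.Surjective f := by
    intro z
    refine ⟨⟨⟨z.1, h1 z.2⟩, ?_⟩, rfl⟩
    rw [MonoidHom.mem_ker]
    apply Subtype.ext
    exact MonoidHom.mem_ker.mp z.2
  have h3 : IsPGroup p (liftHom σ L).ker := IsPGroup.of_injective hk f hfi
  have h4 := hT _ (liftHom σ L) h2 h3
  rw [← Nat.card_congr (Equiv.ofBijective f ⟨hfi, hfs⟩)]
  exact h4

/-- a non-split double cover of a perfect group is a stem extension -/
theorem exists_stem_of_nonsplit {H K : Type*} [Group H] [Group K] (hK : commutator K = ⊤)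
    (h : Cfsg.IsNonsplitDoubleCover H K) :
    ∃ σ : H →* K, Cfsg.IsStemExtension σ ∧ IsCyclic σ.ker ∧ Nat.card σ.ker = 2 := by
  obtain ⟨h2, ⟨e⟩, hns⟩ := h
  set Z := Subgroup.center H with hZ
  let σ : H →* K := e.toMonoidHom.comp (QuotientGroup.mk' Z)
  have hker : σ.ker = Z := by
    ext x
    rw [MonoidHom.mem_ker, MonoidHom.comp_apply, MulEquiv.coe_toMonoidHom,
      EmbeddingLike.map_eq_one_iff, QuotientGroup.mk'_apply, QuotientGroup.eq_one_iff]
  have hs : Function.Surjective σ := e.surjective.comp (QuotientGroup.mk'_surjective Z)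
  have hcyc : IsCyclic σ.ker := by
    have : Fact (Nat.Prime 2) := ⟨Nat.prime_two⟩
    rw [hker]
    exact isCyclic_of_prime_card h2
  refine ⟨σ, ⟨hs, ?_, ?_⟩, hcyc, by rw [hker]; exact h2⟩
  · rw [hker]
  · rw [hker]
    by_contra hnot
    obtain ⟨z, hz, hz'⟩ := SetLike.not_le_iff_exists.mp hnot
    -- the derived subgroup is a complement of the centre
    have hdisj : Disjoint Z (commutator H) := by
      rw [Subgroup.disjoint_def]
      intro x hx hx'
      by_contra hx1
      obtain ⟨y, _, hy⟩ := (Nat.card_eq_two_iff' (1 : Z)).mp h2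
      have e1 : (⟨x, hx⟩ : Z) = y := hy _ (fun h => hx1 (congrArg Subtype.val h))
      have e2 : (⟨z, hz⟩ : Z) = y := hy _ (fun h => hz' (by
        have := congrArg Subtype.val h
        simp only at this
        rw [this]
        exact Subgroup.one_mem _))
      have : x = z := congrArg Subtype.val (e1.trans e2.symm)
      exact hz' (this ▸ hx')
    have hmul : (Z : Set H) * (commutator H : Set H) = Set.univ := by
      rw [Set.eq_univ_iff_forall]
      intro g
      have h1 : σ g ∈ commutator K := by rw [hK]; exact Subgroup.mem_top _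
      have h3 : commutator K = (commutator H).map σ := by
        rw [commutator_def, commutator_def, Subgroup.map_commutator, ← MonoidHom.range_eq_map,
          MonoidHom.range_eq_top.mpr hs]
      rw [h3] at h1
      obtain ⟨c, hc, hcg⟩ := h1
      have h4 : g * c⁻¹ ∈ Z := by
        rw [← hker, MonoidHom.mem_ker, map_mul, map_inv, hcg, mul_inv_cancel]
      exact ⟨g * c⁻¹, h4, c, hc, by group⟩
    exact hns (commutator H) (Subgroup.isComplement'_of_disjoint_and_mul_eq_univ hdisj hmul)

end Cfsg.Agent.Lib.Helper6.PM
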