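import Cfsg.Agent.Lib.Helper6.Mult.U62B
import Cfsg.Agent.Lib.Helper6.MultD.U62Ap2I
import Cfsg.Agent.Lib.Helper6.MultD.U62Ap3I
import Cfsg.Agent.Lib.Helper6.MultD.U62Ap3L
import Cfsg.Agent.Lib.Helper6.MultD.U62Ap3S
import Cfsg.Agent.Lib.Helper6.MultD.U62Bp2I
import Cfsg.Agent.Lib.Helper6.MultD.U62Bp3I
import Cfsg.Agent.Lib.Helper1.Stem14
import Cfsg.Agent.Lib.Helper1.Stem17
import Cfsg.Agent.Lib.Helper1.Stem21

set_option autoImplicit false
set_option maxRecDepth 100000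

/-! # The kernels of the stem extensions of the presented group `U62` have order dividing 12 -/

namespace Cfsg.Agent.Lib.Helper6.U62Mu

open Cfsg.Agent.Lib.Helper6.TC Cfsg.Agent.Lib.Helper6.TCD Cfsg.Agent.Lib.Helper6.PM
open Cfsg.Agent.Lib.Helper6.MultD Cfsg.Agent.Lib.Helper6.U62M
open Cfsg.Agent.Lib.Helper1 Cfsg.Agent.Lib.Helper1.MatCode Cfsg.Agent.Lib.Helper1.StemSA

open scoped Pointwise

universe u

/-- the orders of the generators are coprime to the prime -/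
theorem hord_of_chk (D : SAData) (p : ℕ)
    (h : ((List.range D.k).all fun i => Nat.gcd (D.ords.getD i 0) p == 1) = true) :
    ∀ i < D.k, Nat.Coprime (D.ords.getD i 0) p := by
  simp only [List.all_eq_true, List.mem_range, beq_iff_eq] at h
  exact h

theorem hordAll : (∀ i < DU62Bp2.k, Nat.Coprime (DU62Bp2.ords.getD i 0) 2) ∧
    (∀ i < DU62Bp3.k, Nat.Coprime (DU62Bp3.ords.getD i 0) 3) ∧
    (∀ i < DU62Ap2.k, Nat.Coprime (DU62Ap2.ords.getD i 0) 2) ∧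
    (∀ i < DU62Ap3.k, Nat.Coprime (DU62Ap3.ords.getD i 0) 3) :=
  ⟨hord_of_chk _ _ (by decide +kernel), hord_of_chk _ _ (by decide +kernel),
    hord_of_chk _ _ (by decide +kernel), hord_of_chk _ _ (by decide +kernel)⟩

theorem esAll : CU62Bp2.es.sum = 1 ∧ CU62Bp3.es.sum = 0 ∧ CU62Ap2.es.sum = 2 ∧
    CU62Ap3.es.sum = 1 := by
  decide +kernel

/-! ## The stem extensions of the subgroup `U5(2)` -/

theorem comm_quot_top {K : Type*} [Group K] : ∀ x y : K ⧸ (⊤ : Subgroup K), x * y = y * x := by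
  intro x y
  haveI : Subsingleton (K ⧸ (⊤ : Subgroup K)) := QuotientGroup.subsingleton_quotient_top
  exact Subsingleton.elim _ _

instance finite_KP : Finite KP := Nat.finite_of_card_ne_zero (by rw [card_KP]; norm_num)

theorem U_bound2 (Γ' : Type u) [Group Γ'] [Finite Γ'] (σ' : Γ' →* ↥U1)
    (hσ' : Cfsg.IsStemExtension σ') (hk : IsPGroup 2 σ'.ker) : Nat.card σ'.ker ≤ 1 := by
  haveI : Fact (Nat.Prime 2) := ⟨Nat.prime_two⟩
  obtain ⟨N, hN, hNc, hNq⟩ := exists_normal_compl_two (K := KP) 1 405 (by norm_num) (by norm_num)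
    (by rw [card_KP]; norm_num) ⟨cP, cP_mem⟩
    (by rw [Subgroup.orderOf_mk, orderOf_cP, pow_one])
  have h : Nat.card σ'.ker * 2 ^ 1 ≤ 2 ^ CU62Bp2.es.sum := bound_sets_powP.{u} u62U 2 DU62Bp2 CU62Bp2
    rfl chk_certU62Bp2 chk_structU62Bp2 wsU62Bp2 pmU62Bp2 lwU62Bp2 coreU62Bp2 (by decide)
    hordAll.1 masksU62Bp2 chk_setsU62Bp2 chk_distinctU62Bp2 1 405 (by norm_num) (by norm_num)
    KP rfl (card_KP.trans (by norm_num)) ⟨cP, cP_mem⟩
    (by rw [Subgroup.orderOf_mk, orderOf_cP, pow_one]) N hNc hNq Γ' σ' hσ' hk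
  rw [esAll.1] at h
  omega

theorem U_bound3 (Γ' : Type u) [Group Γ'] [Finite Γ'] (σ' : Γ' →* ↥U1)
    (hσ' : Cfsg.IsStemExtension σ') (hk : IsPGroup 3 σ'.ker) : Nat.card σ'.ker ≤ 1 := by
  haveI : Fact (Nat.Prime 3) := ⟨Nat.prime_three⟩
  have h : Nat.card σ'.ker * 3 ^ 0 ≤ 3 ^ CU62Bp3.es.sum := bound_sets_powP.{u} u62U 3 DU62Bp3 CU62Bp3
    rfl chk_certU62Bp3 chk_structU62Bp3 wsU62Bp3 pmU62Bp3 lwU62Bp3 coreU62Bp3 (by decide)
    hordAll.2.1 masksU62Bp3 chk_setsU62Bp3 chk_distinctU62Bp3 0 2560 (by norm_num) (by norm_num)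
    KS rfl (card_KS.trans (by norm_num)) 1 (by rw [orderOf_one, pow_zero]) ⊤
    (by rw [Subgroup.card_top, card_KS]) comm_quot_top Γ' σ' hσ' hk
  rw [esAll.2.1] at h
  omega

/-! ## The stem extensions of the group -/

theorem KA_eq3 : KA = MulAction.stabilizer u62Model.G (ptS u62Model masksU62Ap3 0) := by
  unfold KA ptS
  rw [chk_masks0U62]

theorem bound2 (Γ : Type u) [Group Γ] [Finite Γ] (σ : Γ →* u62Model.G)
    (hσ : Cfsg.IsStemExtension σ) (hk : IsPGroup 2 σ.ker) : Nat.card σ.ker ≤ 4 := by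
  haveI : Fact (Nat.Prime 2) := ⟨Nat.prime_two⟩
  have h : Nat.card σ.ker ≤ 2 ^ CU62Ap2.es.sum * 1 := bound_sets_cyc.{u} u62Model 2 DU62Ap2
    CU62Ap2 rfl chk_certU62Ap2 chk_structU62Ap2 wsU62Ap2 pmU62Ap2 lwU62Ap2 coreU62Ap2 (by decide)
    hordAll.2.2.1 masksU62Ap2 chk_setsU62Ap2 chk_distinctU62Ap2 KA rfl (1 : KA →* PUnit.{1}) U1
    U1_le_KA (fun k => ⟨fun _ => by rw [U1_eq_KA]; exact k.2, fun _ => rfl⟩)
    U1_perfect 1 U_bound2 Γ σ hσ hk
  rw [esAll.2.2.1] at h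
  omega

theorem bound3 (Γ : Type u) [Group Γ] [Finite Γ] (σ : Γ →* u62Model.G)
    (hσ : Cfsg.IsStemExtension σ) (hk : IsPGroup 3 σ.ker) : Nat.card σ.ker ≤ 3 := by
  haveI : Fact (Nat.Prime 3) := ⟨Nat.prime_three⟩
  have h : Nat.card σ.ker ≤ 3 ^ CU62Ap3.es.sum * 1 := bound_sets_cyc.{u} u62Model 3 DU62Ap3
    CU62Ap3 rfl chk_certU62Ap3 chk_structU62Ap3 wsU62Ap3 pmU62Ap3 lwU62Ap3 coreU62Ap3 (by decide)
    hordAll.2.2.2 masksU62Ap3 chk_setsU62Ap3 chk_distinctU62Ap3 KA KA_eq3 (1 : KA →* PUnit.{1}) U1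
    U1_le_KA (fun k => ⟨fun _ => by rw [U1_eq_KA]; exact k.2, fun _ => rfl⟩)
    U1_perfect 1 U_bound3 Γ σ hσ hk
  rw [esAll.2.2.2] at h
  omega

/-! ## The bound -/

theorem not_sq_dvd (p : ℕ) (hp : p.Prime) (h2 : p ≠ 2) (h3 : p ≠ 3) :
    ¬ p * p ∣ 9196830720 := by
  intro h
  have hd : p ∣ 9196830720 := dvd_trans (dvd_mul_right p p) h
  have e : (9196830720 : ℕ) = 2 ^ 15 * 3 ^ 6 * 5 * 7 * 11 := by norm_num
  rw [e] at hd
  rcases (Nat.Prime.dvd_mul hp).mp hd with hd | hd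
  · rcases (Nat.Prime.dvd_mul hp).mp hd with hd | hd
    · rcases (Nat.Prime.dvd_mul hp).mp hd with hd | hd
      · rcases (Nat.Prime.dvd_mul hp).mp hd with hd | hd
        · exact h2 ((Nat.prime_dvd_prime_iff_eq hp Nat.prime_two).mp (hp.dvd_of_dvd_pow hd))
        · exact h3 ((Nat.prime_dvd_prime_iff_eq hp Nat.prime_three).mp (hp.dvd_of_dvd_pow hd))
      · have := (Nat.prime_dvd_prime_iff_eq hp Nat.prime_five).mp hd
        subst this
        norm_num at h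
    · have := (Nat.prime_dvd_prime_iff_eq hp (by norm_num : Nat.Prime 7)).mp hd
      subst this
      norm_num at h
  · have := (Nat.prime_dvd_prime_iff_eq hp (by norm_num : Nat.Prime 11)).mp hd
    subst this
    norm_num at h

theorem pow_dvd_twelve_of_le {p a b : ℕ} (hb : p ^ b ∣ 12) (h : p ^ a ≤ p ^ b) (hp : 1 < p) :
    p ^ a ∣ 12 := by
  have : a ≤ b := (Nat.pow_le_pow_iff_right hp).mp h
  exact (pow_dvd_pow p this).trans hb

/-- the kernel of a stem extension of the presented group has order dividing 12 -/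
theorem hub (Γ : Type u) [Group Γ] [Finite Γ] (σ : Γ →* TCP.U62.G)
    (hσ : Cfsg.IsStemExtension σ) : Nat.card σ.ker ∣ 12 := by
  apply Stem.card_dvd_of_primary σ 12 (by norm_num) ?_ hσ
  intro p hp Γ' _ _ σ' hσ' hk
  by_cases h2 : p = 2
  · subst h2
    have h1 : Nat.card σ'.ker ≤ 4 := bound2 Γ' σ' hσ' hk
    obtain ⟨a, ha⟩ := IsPGroup.iff_card.mp hk
    rw [ha] at h1 ⊢
    exact pow_dvd_twelve_of_le (b := 2) (by norm_num) (by norm_num; exact h1) (by norm_num)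
  · by_cases h3 : p = 3
    · subst h3
      have h1 : Nat.card σ'.ker ≤ 3 := bound3 Γ' σ' hσ' hk
      obtain ⟨a, ha⟩ := IsPGroup.iff_card.mp hk
      rw [ha] at h1 ⊢
      exact pow_dvd_twelve_of_le (b := 1) (by norm_num) (by rw [pow_one]; exact h1) (by norm_num)
    · have h1 : Nat.card σ'.ker = 1 := by
        apply Stem.card_ker_eq_one_of_not_sq_dvd σ' hσ' p hk
        rw [U62M.card_G]
        exact not_sq_dvd p hp.out h2 h3
      rw [h1]
      exact one_dvd 12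

end Cfsg.Agent.Lib.Helper6.U62Mu
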