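import Cfsg.Agent.Lib.Helper6.Mult.U62E2a
import Cfsg.Agent.Lib.Helper1.Stem21

set_option autoImplicit false
set_option maxRecDepth 100000
set_option Elab.async false

namespace Cfsg.Agent.Lib.Helper6.Mult.U62E2

open Cfsg.Spor Cfsg.Agent.Lib.Helper6.TC Cfsg.Agent.Lib.Helper6.TCD Cfsg.Agent.Lib.Helper6.Simp
open Cfsg.Agent.Lib.Helper6.TCP.Fi22 Cfsg.Agent.Lib.Helper6.DC
open Cfsg.Agent.Lib.Helper6.Fi22U62 Cfsg.Agent.Lib.Helper1.Stem

/-! # The fibre product of two double covers of `PSU(6, 2)` is a stem extension with kernel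
`2 × 2` -/

/-- the second special relator -/
def rB : List ℕ := (List.replicate 5 [2, 3, 4, 7, 6, 5]).flatten

theorem hrB38 : TCP.U62.base.getD 38 [] = rB := by decide +kernel

theorem hrB : rB ∈ TCP.U62.base := by decide +kernel

theorem rB_ne_rA : rB ≠ rA := by decide

/-- the twisted generators -/
noncomputable def s' (i : ℕ) : H := ((twl i).map s).prod

theorem prod_s' (b : List ℕ) : (b.map s').prod = ((twist b).map s).prod := by
  induction b with
  | nil => rfl
  | cons c b ih =>
    rw [List.map_cons, List.prod_cons, ih, twist_cons, List.map_append, List.prod_append]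
    rfl

theorem coe_prod_s' (b : List ℕ) :
    ((b.map s').prod : H).val = PresentedGroup.mk Rels (wordElt gc (expand (twist b))) := by
  rw [prod_s', coe_prod_s]

theorem hchkT : ∀ b ∈ TCP.U62.base, b ≠ rA → b ≠ rB →
    ∀ p < 3510, wapp Fi22a.px (expand (twist b)) p = p := by
  intro b hb hneA hneB
  obtain ⟨j, hj, rfl⟩ := List.mem_iff_getElem.mp hb
  have hj' : j < 52 := by rw [← hlen]; exact hj
  have hg : TCP.U62.base.getD j [] = TCP.U62.base[j] := List.getD_eq_getElem _ _ hj
  have h37 : j ≠ 37 := by
    intro h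
    subst h
    apply hneA
    exact hg.symm.trans hrA37
  have h38 : j ≠ 38 := by
    intro h
    subst h
    apply hneB
    exact hg.symm.trans hrB38
  have h := hchkT_idx j hj' h37 h38
  unfold trel at h
  rw [hg] at h
  exact h

theorem hchkTA : ∀ p < 3510, wapp Fi22a.px (expand (twist rA)) p = wapp Fi22a.px [0] p := by
  have h := ht37
  unfold trel at h
  rw [hrA37] at h
  exact h

theorem hchkTB : ∀ p < 3510, wapp Fi22a.px (expand (twist rB)) p = wapp Fi22a.px [0] p := by
  have h := ht38
  unfold trel at h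
  rw [hrB38] at h
  exact h

theorem prod_s'_eq_one (b : List ℕ) (hb : b ∈ TCP.U62.base) (hA : b ≠ rA) (hB : b ≠ rB) :
    (b.map s').prod = 1 := by
  apply Subtype.ext
  rw [coe_prod_s']
  have h := mk_eq_of_wapp (expand (twist b)) [] (hltT b hb) (by simp)
    (fun p hp => by rw [hchkT b hb hA hB p hp]; rfl)
  rw [h, wordElt_nil, map_one]
  rfl

theorem prod_s'_rA : (rA.map s').prod = a' := by
  apply Subtype.ext
  rw [coe_prod_s']
  exact mk_eq_of_wapp (expand (twist rA)) [0] (hltT rA hrA) (by decide) hchkTA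

theorem prod_s'_rB : (rB.map s').prod = a' := by
  apply Subtype.ext
  rw [coe_prod_s']
  exact mk_eq_of_wapp (expand (twist rB)) [0] (hltT rB hrB) (by decide) hchkTB

theorem prod_s_rB : (rB.map s).prod = 1 := prod_s_eq_one rB hrB rB_ne_rA

/-- the images of the twisted generators in the quotient -/
noncomputable def fq' (i : ℕ) : H ⧸ N := QuotientGroup.mk (s' i)

theorem hrelq' : ∀ b ∈ TCP.U62.base, (b.map fq').prod = 1 := by
  intro b hb
  have e : (b.map fq').prod = QuotientGroup.mk' N (b.map s').prod := by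
    rw [map_list_prod, List.map_map]
    rfl
  rw [e]
  by_cases hA : b = rA
  · rw [hA, prod_s'_rA, QuotientGroup.mk'_apply, QuotientGroup.eq_one_iff]
    exact Subgroup.mem_zpowers a'
  · by_cases hB : b = rB
    · rw [hB, prod_s'_rB, QuotientGroup.mk'_apply, QuotientGroup.eq_one_iff]
      exact Subgroup.mem_zpowers a'
    · rw [prod_s'_eq_one b hb hA hB, map_one]

/-- the second homomorphism from the presented unitary group to the quotient -/
noncomputable def gamma' : TCP.U62.G →* H ⧸ N := wgHom fq' TCP.U62.hbl hrelq'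

theorem gamma'_of (i : Fin 8) :
    gamma' (PresentedGroup.mk (wrels 8 TCP.U62.base) (FreeGroup.of i)) = fq' i.val :=
  wgHom_of fq' TCP.U62.hbl hrelq' i

theorem s'_zero : s' 0 = s 0 := by
  show (([0] : List ℕ).map s).prod = s 0
  simp

theorem gamma'_ne :
    gamma' (PresentedGroup.mk (wrels 8 TCP.U62.base) (FreeGroup.of ⟨0, by decide⟩)) ≠ 1 := by
  rw [gamma'_of]
  have h := gamma_ne
  rw [gamma_of] at h
  show fq' 0 ≠ 1
  unfold fq'
  rw [s'_zero]
  exact h

theorem gamma'_bijective : Function.Bijective gamma' := by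
  have hinj : Function.Injective gamma' :=
    injective_of_simple gamma' U62Simple.simple.1 gamma'_ne
  have hfin : Finite TCP.U62.G :=
    Nat.finite_of_card_ne_zero (by rw [U62Simple.simple.2]; norm_num)
  rw [Nat.bijective_iff_injective_and_card]
  exact ⟨hinj, by rw [U62Simple.simple.2, card_Q]⟩

section quot
variable {G : Type*} [Group G] (e : G ≃* H ⧸ N)

theorem ker_quot : (e.symm.toMonoidHom.comp (QuotientGroup.mk' N)).ker = N := by
  ext x
  rw [MonoidHom.mem_ker, MonoidHom.comp_apply, MulEquiv.coe_toMonoidHom,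
    EmbeddingLike.map_eq_one_iff, QuotientGroup.mk'_apply, QuotientGroup.eq_one_iff]

theorem isStem_quot : Cfsg.IsStemExtension (e.symm.toMonoidHom.comp (QuotientGroup.mk' N)) := by
  refine ⟨e.symm.surjective.comp (QuotientGroup.mk'_surjective N), ?_, ?_⟩
  · rw [ker_quot, Subgroup.zpowers_le]
    exact a'_central
  · rw [ker_quot, Subgroup.zpowers_le]
    exact a'_mem_commutator

end quot

/-- the first double cover -/
noncomputable def sig1 : H →* TCP.U62.G :=
  (MulEquiv.ofBijective gamma gamma_bijective).symm.toMonoidHom.comp (QuotientGroup.mk' N)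

/-- the second double cover -/
noncomputable def sig2 : H →* TCP.U62.G :=
  (MulEquiv.ofBijective gamma' gamma'_bijective).symm.toMonoidHom.comp (QuotientGroup.mk' N)

theorem ker_sig1 : sig1.ker = N := ker_quot _

theorem ker_sig2 : sig2.ker = N := ker_quot _

theorem sig1_isStem : Cfsg.IsStemExtension sig1 := isStem_quot _

theorem sig2_isStem : Cfsg.IsStemExtension sig2 := isStem_quot _

theorem sig1_s (i : Fin 8) :
    sig1 (s i.val) = PresentedGroup.mk (wrels 8 TCP.U62.base) (FreeGroup.of i) := by
  unfold sig1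
  rw [MonoidHom.comp_apply, MulEquiv.coe_toMonoidHom, MulEquiv.symm_apply_eq]
  exact (gamma_of i).symm

theorem sig2_s' (i : Fin 8) :
    sig2 (s' i.val) = PresentedGroup.mk (wrels 8 TCP.U62.base) (FreeGroup.of i) := by
  unfold sig2
  rw [MonoidHom.comp_apply, MulEquiv.coe_toMonoidHom, MulEquiv.symm_apply_eq]
  exact (gamma'_of i).symm

theorem s_eq_one (i : ℕ) (hi : 8 ≤ i) : s i = 1 := by
  apply Subtype.ext
  show el i = 1
  have : cw i = [] := by
    unfold cw
    rw [List.getD_eq_default _ _ (by simp; omega)]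
  unfold el
  rw [this, wordElt_nil, map_one]

theorem s'_eq_one (i : ℕ) (hi : 8 ≤ i) : s' i = 1 := by
  have : twl i = [] := by
    unfold twl
    rw [List.getD_eq_default _ _ (by simp; omega)]
  unfold s'
  rw [this]
  rfl

theorem sig_eq (i : ℕ) : sig1 (s i) = sig2 (s' i) := by
  by_cases hi : i < 8
  · exact (sig1_s ⟨i, hi⟩).trans (sig2_s' ⟨i, hi⟩).symm
  · rw [s_eq_one i (by omega), s'_eq_one i (by omega), map_one, map_one]

/-- the fibre product of the two double covers -/
noncomputable abbrev P : Subgroup (H × H) := fibreProd sig1 sig2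

/-- the generators of the fibre product -/
noncomputable def sh (i : ℕ) : P := ⟨(s i, s' i), sig_eq i⟩

theorem coe_prod_sh (b : List ℕ) :
    ((b.map sh).prod : P).val = ((b.map s).prod, (b.map s').prod) := by
  induction b with
  | nil => rfl
  | cons c b ih =>
    rw [List.map_cons, List.prod_cons, Subgroup.coe_mul, ih]
    rfl

theorem prod_sh_eq_one (b : List ℕ) (hb : b ∈ TCP.U62.base) (hA : b ≠ rA) (hB : b ≠ rB) :
    (b.map sh).prod = 1 := by
  apply Subtype.ext
  rw [coe_prod_sh, prod_s_eq_one b hb hA, prod_s'_eq_one b hb hA hB]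
  rfl

theorem coe_prod_sh_rA : ((rA.map sh).prod : P).val = (a', a') := by
  rw [coe_prod_sh, prod_s_rA, prod_s'_rA]

theorem coe_prod_sh_rB : ((rB.map sh).prod : P).val = (1, a') := by
  rw [coe_prod_sh, prod_s_rB, prod_s'_rB]

theorem ne_of_length {b : List ℕ} (h : b.length < 30) : b ≠ rA ∧ b ≠ rB := by
  constructor
  · intro e
    rw [e] at h
    revert h
    decide
  · intro e
    rw [e] at h
    revert h
    decide

/-- the images of two generators in a commutative quotient are equal if they are joined -/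
theorem ab_eq' {A : Type*} [CommGroup A] (π : P →* A) (i j : ℕ)
    (hi : [i, i] ∈ TCP.U62.base) (hj : [j, j] ∈ TCP.U62.base)
    (hij : [i, j, i, j, i, j] ∈ TCP.U62.base) : π (sh i) = π (sh j) := by
  have e1 := prod_sh_eq_one [i, i] hi (ne_of_length (by simp)).1 (ne_of_length (by simp)).2
  have e2 := prod_sh_eq_one [j, j] hj (ne_of_length (by simp)).1 (ne_of_length (by simp)).2
  have e3 := prod_sh_eq_one [i, j, i, j, i, j] hij (ne_of_length (by simp)).1
    (ne_of_length (by simp)).2
  simp only [List.map_cons, List.map_nil, List.prod_cons, List.prod_nil, mul_one] at e1 e2 e3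
  apply eq_of_braid
  · rw [← map_mul, e1, map_one]
  · rw [← map_mul, e2, map_one]
  · rw [← map_mul, ← map_pow, pow_succ, pow_two]
    have : sh i * sh j * (sh i * sh j) * (sh i * sh j) =
        sh i * (sh j * (sh i * (sh j * (sh i * sh j)))) := by
      group
    rw [this, e3, map_one]

theorem ab_all {A : Type*} [CommGroup A] (π : P →* A) : ∀ i < 8, π (sh i) = π (sh 0) := by
  have h01 := ab_eq' π 0 1 (by decide +kernel) (by decide +kernel) (by decide +kernel)
  have h12 := ab_eq' π 1 2 (by decide +kernel) (by decide +kernel) (by decide +kernel)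
  have h15 := ab_eq' π 1 5 (by decide +kernel) (by decide +kernel) (by decide +kernel)
  have h23 := ab_eq' π 2 3 (by decide +kernel) (by decide +kernel) (by decide +kernel)
  have h34 := ab_eq' π 3 4 (by decide +kernel) (by decide +kernel) (by decide +kernel)
  have h37 := ab_eq' π 3 7 (by decide +kernel) (by decide +kernel) (by decide +kernel)
  have h56 := ab_eq' π 5 6 (by decide +kernel) (by decide +kernel) (by decide +kernel)
  intro i hi
  interval_cases i
  · rfl
  · exact h01.symm
  · exact (h01.trans h12).symm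
  · exact (h01.trans (h12.trans h23)).symm
  · exact (h01.trans (h12.trans (h23.trans h34))).symm
  · exact (h01.trans h15).symm
  · exact (h01.trans (h15.trans h56)).symm
  · exact (h01.trans (h12.trans (h23.trans h37))).symm

theorem sh_sq : sh 0 * sh 0 = 1 := by
  have e1 := prod_sh_eq_one [0, 0] (by decide +kernel) (ne_of_length (by simp)).1
    (ne_of_length (by simp)).2
  simpa only [List.map_cons, List.map_nil, List.prod_cons, List.prod_nil, mul_one] using e1

/-- a word of even length in the generators lies in the commutator subgroup -/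
theorem prod_sh_mem (b : List ℕ) (hb : ∀ c ∈ b, c < 8) (hlen : Even b.length) :
    (b.map sh).prod ∈ commutator P := by
  rw [← Abelianization.ker_of, MonoidHom.mem_ker, map_list_prod, List.map_map]
  have h1 : b.map (⇑(Abelianization.of : P →* Abelianization P) ∘ sh) =
      List.replicate b.length (Abelianization.of (sh 0)) := by
    rw [List.eq_replicate_iff]
    refine ⟨List.length_map _, ?_⟩
    intro x hx
    obtain ⟨c, hc, rfl⟩ := List.mem_map.mp hx
    exact ab_all Abelianization.of c (hb c hc)
  rw [h1, List.prod_replicate]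
  obtain ⟨k, hk⟩ := hlen
  rw [hk, ← two_mul, pow_mul, pow_two, ← map_mul, sh_sq, map_one, one_pow]

theorem hltA' : ∀ c ∈ rA, c < 8 := by decide

theorem hltB' : ∀ c ∈ rB, c < 8 := by decide

theorem hw1 : ∀ c ∈ sig1.ker, ∃ x ∈ commutator P, (x : H × H) = (c, 1) := by
  intro c hc
  rw [ker_sig1] at hc
  rcases mem_zpowers_of_sq a'_mul_self hc with rfl | rfl
  · exact ⟨1, Subgroup.one_mem _, rfl⟩
  · refine ⟨(rA.map sh).prod * (rB.map sh).prod, Subgroup.mul_mem _
      (prod_sh_mem rA hltA' (by decide)) (prod_sh_mem rB hltB' (by decide)), ?_⟩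
    rw [Subgroup.coe_mul, coe_prod_sh_rA, coe_prod_sh_rB, Prod.mk_mul_mk, mul_one, a'_mul_self]

theorem hw2 : ∀ c ∈ sig2.ker, ∃ x ∈ commutator P, (x : H × H) = (1, c) := by
  intro c hc
  rw [ker_sig2] at hc
  rcases mem_zpowers_of_sq a'_mul_self hc with rfl | rfl
  · exact ⟨1, Subgroup.one_mem _, rfl⟩
  · exact ⟨(rB.map sh).prod, prod_sh_mem rB hltB' (by decide), coe_prod_sh_rB⟩

/-- the fibre product of the two double covers is a stem extension -/
theorem isStem : Cfsg.IsStemExtension (fibreHom sig1 sig2) :=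
  fibreHom_isStem_of_mem sig1 sig2 sig1_isStem sig2_isStem hw1 hw2

/-- its kernel -/
noncomputable def kerEquiv : (fibreHom sig1 sig2).ker ≃* N × N :=
  (kerFibreEquiv sig1 sig2).trans
    (MulEquiv.prodCongr (MulEquiv.subgroupCongr ker_sig1) (MulEquiv.subgroupCongr ker_sig2))

theorem card_ker : Nat.card (fibreHom sig1 sig2).ker = 4 := by
  rw [Nat.card_congr kerEquiv.toEquiv, Nat.card_prod, card_N]

end Cfsg.Agent.Lib.Helper6.Mult.U62E2
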