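import Cfsg.Agent.Lib.Helper6.Mult.Fi22A
import Cfsg.Agent.Lib.Helper6.Mult.PM5
import Cfsg.Agent.Lib.Helper6.Mult.PM9
import Cfsg.Agent.Lib.Helper6.Mult.U62E2b
import Cfsg.Agent.Lib.Helper6.Mult.U62E3
import Cfsg.Agent.Lib.Helper6.Mult.U62C
import Cfsg.Agent.Lib.Helper6.MultD.FI22Ap2I
import Cfsg.Agent.Lib.Helper6.MultD.FI22Ap2L
import Cfsg.Agent.Lib.Helper6.MultD.FI22Ap5I
import Cfsg.Agent.Lib.Helper6.MultD.FI22Ap5L
import Cfsg.Agent.Lib.Helper1.Stem21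

set_option autoImplicit false
set_option maxRecDepth 100000

/-! # The stabilizer of a point in the presented group `Fi22` and its stem extensions -/

namespace Cfsg.Agent.Lib.Helper6.Fi22Mu

open Cfsg.Spor Cfsg.Agent.Lib.Helper6.TC Cfsg.Agent.Lib.Helper6.TCD Cfsg.Agent.Lib.Helper6.PM
open Cfsg.Agent.Lib.Helper6.MultD Cfsg.Agent.Lib.Helper6.Fi22M
open Cfsg.Agent.Lib.Helper1 Cfsg.Agent.Lib.Helper1.MatCode Cfsg.Agent.Lib.Helper1.StemSA
open Cfsg.Agent.Lib.Helper6.TCP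

open scoped Pointwise

universe u

theorem PL_zero : PLFI22Ap2 0 = 0 ∧ PLFI22Ap5 0 = 0 := by decide +kernel

/-- the stabilizer of the first point -/
noncomputable abbrev K : Subgroup fi22Model.G :=
  MulAction.stabilizer fi22Model.G (0 : Fin fi22Model.n)

theorem pt_zero (PL : ℕ → ℕ) (h : PL 0 = 0) : pt fi22Model PL 0 = (0 : Fin fi22Model.n) := by
  unfold pt
  rw [h]
  rfl

theorem card_K : Nat.card K = 18393661440 := by
  have h := card_stab_pts fi22Model DFI22Ap2 chk_structFI22Ap2 wsFI22Ap2 pmFI22Ap2 lwFI22Ap2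
    coreFI22Ap2 (by decide) PLFI22Ap2 PLIFI22Ap2 chk_ptsFI22Ap2
  rw [pt_zero PLFI22Ap2 PL_zero.1] at h
  have e : DFI22Ap2.m = 3510 := rfl
  rw [e] at h
  have hc : Nat.card fi22Model.G = 64561751654400 := card_Fi22
  rw [hc] at h
  change Nat.card K * 3510 = 64561751654400 at h
  omega

/-- the centraliser of the first generator -/
noncomputable abbrev H : Subgroup fi22Model.G := Fi22U62.H

theorem hfix0 : ∀ w ∈ Cfsg.Agent.S1687.subw, wapp Fi22a.px w 0 = 0 := by decide +kernel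

theorem H_le_K : H ≤ K := by
  have hS : ∀ w ∈ Cfsg.Agent.S1687.subw, fi22Model.elt w ∈ K := by
    intro w hw
    exact MulAction.mem_stabilizer_iff.mpr
      (fi22Model.elt_smul w (Cfsg.Agent.S1687.hsw' w hw).1 0 0 (hfix0 w hw))
  intro x hx
  obtain ⟨y, hy, rfl⟩ := Subgroup.mem_map.mp hx
  have hle : Subgroup.closure Cfsg.Agent.S1687.S ≤
      Subgroup.comap (PresentedGroup.mk TCP.Fi22.Rels) (K : Subgroup Fi22) :=
    (Subgroup.closure_le _).mpr fun s hs => by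
      obtain ⟨w, hw, rfl⟩ := Cfsg.Agent.S1687.hsw s hs
      exact hS w hw
  exact hle hy

theorem H_eq_K : H = K :=
  Subgroup.eq_of_le_of_card_ge H_le_K (by rw [card_K]; exact Fi22U62.card_H.ge)

theorem H_perfect : commutator ↥H = ⊤ :=
  Stem.perfect_of_stem Mult.U62E2.sig1 Mult.U62E2.sig1_isStem U62E3.perfect_G

theorem H_bound2 (Γ' : Type u) [Group Γ'] [Finite Γ'] (σ' : Γ' →* ↥H)
    (hσ' : Cfsg.IsStemExtension σ') (hk : IsPGroup 2 σ'.ker) : Nat.card σ'.ker ≤ 2 := by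
  haveI : Fact (Nat.Prime 2) := ⟨Nat.prime_two⟩
  have hc : Nat.card Mult.U62E2.sig1.ker = 2 := by
    rw [Mult.U62E2.ker_sig1]
    exact Fi22U62.card_N
  have hpk : IsPGroup 2 Mult.U62E2.sig1.ker := IsPGroup.of_card (n := 1) (by rw [hc, pow_one])
  have h := bound_of_central_quotient.{u} Mult.U62E2.sig1 Mult.U62E2.sig1_isStem.1
    Mult.U62E2.sig1_isStem.2.1 H_perfect 2 hpk 4
    (fun Γ _ _ σ hσ hk => U62Mu.bound2 Γ σ hσ hk) Γ' σ' hσ' hk
  rw [hc] at h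
  have h4 : Nat.card σ'.ker * 2 ≤ 4 := h
  omega

theorem H_bound5 (Γ' : Type u) [Group Γ'] [Finite Γ'] (σ' : Γ' →* ↥H)
    (hσ' : Cfsg.IsStemExtension σ') (hk : IsPGroup 5 σ'.ker) : Nat.card σ'.ker ≤ 1 := by
  haveI : Fact (Nat.Prime 5) := ⟨Nat.prime_five⟩
  have hH : Nat.card ↥H = 18393661440 := Fi22U62.card_H
  have h := Stem.card_ker_eq_one_of_not_sq_dvd σ' hσ' 5 hk (by
    rw [hH]
    norm_num)
  exact h.le

end Cfsg.Agent.Lib.Helper6.Fi22Mu
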