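import Cfsg.Agent.Lib.Helper6.Mult.PM3
import Cfsg.Agent.Lib.Helper6.Spor.O73Ord

set_option autoImplicit false
set_option maxRecDepth 100000

/-! # The presented group `O73` acting on 364 points, as a model -/

namespace Cfsg.Agent.Lib.Helper6.O73M

open Cfsg.Agent.Lib.Helper6.TC Cfsg.Agent.Lib.Helper6.TCD Cfsg.Agent.Lib.Helper6.PM
open Cfsg.Agent.Lib.Helper6.TCP.O73

/-- the faithful permutation representation on 364 points -/
noncomputable def phi : G →* Equiv.Perm (Fin 364) := Classical.choose O73Ord.rep

theorem phi_spec : (∀ w, (∀ c ∈ w, c < 8) → ∀ p : Fin 364,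
      ((phi (PresentedGroup.mk Rels (wordElt gc w)))⁻¹ p).val = wapp O73a.px w p.val) ∧
    Function.Injective phi ∧ Nat.card G = 4585351680 ∧ Finite G := by
  have h := Classical.choose_spec O73Ord.rep
  exact ⟨h.1, h.2.2.2.1, h.2.2.2.2.1, h.2.2.2.2.2⟩

instance finite_G : Finite G := phi_spec.2.2.2

theorem card_G : Nat.card G = 4585351680 := phi_spec.2.2.1

/-- the element of the group given by a word of columns -/
noncomputable def elt (w : List ℕ) : G := PresentedGroup.mk Rels (wordElt gc w)

theorem closure_letters : Subgroup.closure {g : G | ∃ c < 8, g = elt [c]} = ⊤ := by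
  rw [eq_top_iff, ← PresentedGroup.closure_range_of]
  apply Subgroup.closure_mono
  rintro _ ⟨i, rfl⟩
  refine ⟨i.val, i.isLt, ?_⟩
  unfold elt
  rw [wordElt_cons, wordElt_nil, mul_one, ceOf_gcF, Fin.ofNat_val_eq_self]
  rfl

/-- the model of the group -/
noncomputable def o73Model : PModel where
  G := G
  n := 364
  nl := 8
  px := O73a.px
  elt := elt
  phi := phi
  elt_nil := by
    unfold elt
    rw [wordElt_nil, map_one]
  elt_append := fun u v => by
    unfold elt
    rw [wordElt_append, map_mul]
  px_lt := fun c hc q hq => O73Idx.hP.hlt c hc q hq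
  phi_inv_val := phi_spec.1
  phi_injective := phi_spec.2.1
  closure_letters := closure_letters

end Cfsg.Agent.Lib.Helper6.O73M
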