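import Cfsg.Agent.Lib.Helper6.Mult.O73B
import Cfsg.Agent.Lib.Helper6.MultD.O73Ap2I
import Cfsg.Agent.Lib.Helper6.MultD.O73Ap3I
import Cfsg.Agent.Lib.Helper6.MultD.O73Ap3L
import Cfsg.Agent.Lib.Helper6.MultD.O73Ap3S
import Cfsg.Agent.Lib.Helper6.MultD.O73Bp2I
import Cfsg.Agent.Lib.Helper6.MultD.O73Bp3I
import Cfsg.Agent.Lib.Helper6.MultD.O73Bp3L
import Cfsg.Agent.Lib.Helper6.MultD.O73Bp3S
import Cfsg.Agent.Lib.Helper6.MultD.O73Cp2I
import Cfsg.Agent.Lib.Helper6.MultD.O73Cp3I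
import Cfsg.Agent.Lib.Helper1.Stem14
import Cfsg.Agent.Lib.Helper1.Stem17
import Cfsg.Agent.Lib.Helper1.Stem21

set_option autoImplicit false
set_option maxRecDepth 100000

/-! # The kernels of the stem extensions of the presented group `O73` are cyclic of order
dividing 6 -/

namespace Cfsg.Agent.Lib.Helper6.O73Mu

open Cfsg.Agent.Lib.Helper6.TC Cfsg.Agent.Lib.Helper6.TCD Cfsg.Agent.Lib.Helper6.PM
open Cfsg.Agent.Lib.Helper6.MultD Cfsg.Agent.Lib.Helper6.O73M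
open Cfsg.Agent.Lib.Helper1 Cfsg.Agent.Lib.Helper1.MatCode Cfsg.Agent.Lib.Helper1.StemSA

open scoped Pointwise

universe u

/-- the orders of the generators are coprime to the prime -/
theorem hord_of_chk (D : SAData) (p : ℕ)
    (h : ((List.range D.k).all fun i => Nat.gcd (D.ords.getD i 0) p == 1) = true) :
    ∀ i < D.k, Nat.Coprime (D.ords.getD i 0) p := by
  simp only [List.all_eq_true, List.mem_range, beq_iff_eq] at h
  exact h

theorem hordAll : (∀ i < DO73Cp2.k, Nat.Coprime (DO73Cp2.ords.getD i 0) 2) ∧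
    (∀ i < DO73Cp3.k, Nat.Coprime (DO73Cp3.ords.getD i 0) 3) ∧
    (∀ i < DO73Bp2.k, Nat.Coprime (DO73Bp2.ords.getD i 0) 2) ∧
    (∀ i < DO73Bp3.k, Nat.Coprime (DO73Bp3.ords.getD i 0) 3) ∧
    (∀ i < DO73Ap2.k, Nat.Coprime (DO73Ap2.ords.getD i 0) 2) ∧
    (∀ i < DO73Ap3.k, Nat.Coprime (DO73Ap3.ords.getD i 0) 3) :=
  ⟨hord_of_chk _ _ (by decide +kernel), hord_of_chk _ _ (by decide +kernel),
    hord_of_chk _ _ (by decide +kernel), hord_of_chk _ _ (by decide +kernel),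
    hord_of_chk _ _ (by decide +kernel), hord_of_chk _ _ (by decide +kernel)⟩

theorem esAll : CO73Cp2.es.sum = 1 ∧ CO73Cp3.es.sum = 0 ∧ CO73Bp2.es.sum = 1 ∧
    CO73Bp3.es.sum = 0 ∧ CO73Ap2.es.sum = 1 ∧ CO73Ap3.es.sum = 1 := by
  decide +kernel

/-! ## The stem extensions of the subgroup `U4(2)` -/

theorem comm_quot_top {K : Type*} [Group K] : ∀ x y : K ⧸ (⊤ : Subgroup K), x * y = y * x := by
  intro x y
  haveI : Subsingleton (K ⧸ (⊤ : Subgroup K)) := QuotientGroup.subsingleton_quotient_top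
  exact Subsingleton.elim _ _

theorem U_bound2 (Γ' : Type u) [Group Γ'] [Finite Γ'] (σ' : Γ' →* ↥U1)
    (hσ' : Cfsg.IsStemExtension σ') (hk : IsPGroup 2 σ'.ker) : Nat.card σ'.ker ≤ 2 := by
  haveI : Fact (Nat.Prime 2) := ⟨Nat.prime_two⟩
  have h : Nat.card σ'.ker * 2 ^ 0 ≤ 2 ^ CO73Cp2.es.sum := bound_sets_powP.{u} o73U 2 DO73Cp2 CO73Cp2
    rfl chk_certO73Cp2 chk_structO73Cp2 wsO73Cp2 pmO73Cp2 lwO73Cp2 coreO73Cp2 (by decide)
    hordAll.1 masksO73Cp2 chk_setsO73Cp2 chk_distinctO73Cp2 0 81 (by norm_num) (by norm_num)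
    KT rfl (card_KT.trans (by norm_num)) 1 (by rw [orderOf_one, pow_zero]) ⊤
    (by rw [Subgroup.card_top, card_KT]) comm_quot_top Γ' σ' hσ' hk
  rw [esAll.1] at h
  omega

theorem U_bound3 (Γ' : Type u) [Group Γ'] [Finite Γ'] (σ' : Γ' →* ↥U1)
    (hσ' : Cfsg.IsStemExtension σ') (hk : IsPGroup 3 σ'.ker) : Nat.card σ'.ker ≤ 1 := by
  haveI : Fact (Nat.Prime 3) := ⟨Nat.prime_three⟩
  have h : Nat.card σ'.ker * 3 ^ 0 ≤ 3 ^ CO73Cp3.es.sum := bound_sets_powP.{u} o73U 3 DO73Cp3 CO73Cp3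
    rfl chk_certO73Cp3 chk_structO73Cp3 wsO73Cp3 pmO73Cp3 lwO73Cp3 coreO73Cp3 (by decide)
    hordAll.2.1 masksO73Cp3 chk_setsO73Cp3 chk_distinctO73Cp3 0 64 (by norm_num) (by norm_num)
    KE rfl (card_KE.trans (by norm_num)) 1 (by rw [orderOf_one, pow_zero]) ⊤
    (by rw [Subgroup.card_top, card_KE]) comm_quot_top Γ' σ' hσ' hk
  rw [esAll.2.1] at h
  omega

/-! ## The stem extensions of the subgroup `L4(3)` -/

theorem L_bound2 (Γ' : Type u) [Group Γ'] [Finite Γ'] (σ' : Γ' →* ↥L1)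
    (hσ' : Cfsg.IsStemExtension σ') (hk : IsPGroup 2 σ'.ker) : Nat.card σ'.ker ≤ 2 := by
  haveI : Fact (Nat.Prime 2) := ⟨Nat.prime_two⟩
  obtain ⟨Q, iQ, iC, q, hq, hQ, hker⟩ := exists_quotB
  have h : Nat.card σ'.ker * 2 ^ 1 ≤ 2 ^ CO73Bp2.es.sum * 2 := bound_sets_n2.{u} o73L 2 DO73Bp2 CO73Bp2
    rfl chk_certO73Bp2 chk_structO73Bp2 wsO73Bp2 pmO73Bp2 lwO73Bp2 coreO73Bp2 (by decide)
    hordAll.2.2.1 masksO73Bp2 chk_setsO73Bp2 chk_distinctO73Bp2 KB rfl q hq 1 hQ U1 U1_le_KB hker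
    U1_perfect 2 U_bound2 Γ' σ' hσ' hk
  rw [esAll.2.2.1] at h
  omega

theorem L_bound3 (Γ' : Type u) [Group Γ'] [Finite Γ'] (σ' : Γ' →* ↥L1)
    (hσ' : Cfsg.IsStemExtension σ') (hk : IsPGroup 3 σ'.ker) : Nat.card σ'.ker ≤ 1 := by
  haveI : Fact (Nat.Prime 3) := ⟨Nat.prime_three⟩
  obtain ⟨Q, iQ, iC, q, hq, hQ, hker⟩ := exists_quotB
  have h : Nat.card σ'.ker ≤ 3 ^ CO73Bp3.es.sum * 1 := bound_sets_cyc.{u} o73L 3 DO73Bp3 CO73Bp3
    rfl chk_certO73Bp3 chk_structO73Bp3 wsO73Bp3 pmO73Bp3 lwO73Bp3 coreO73Bp3 (by decide)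
    hordAll.2.2.2.1 masksO73Bp3 chk_setsO73Bp3 chk_distinctO73Bp3 KB KB_eq3 q U1 U1_le_KB hker
    U1_perfect 1 U_bound3 Γ' σ' hσ' hk
  rw [esAll.2.2.2.1] at h
  omega

/-! ## The stem extensions of the group -/

theorem bound2 (Γ : Type u) [Group Γ] [Finite Γ] (σ : Γ →* o73Model.G)
    (hσ : Cfsg.IsStemExtension σ) (hk : IsPGroup 2 σ.ker) : Nat.card σ.ker ≤ 2 := by
  haveI : Fact (Nat.Prime 2) := ⟨Nat.prime_two⟩
  obtain ⟨Q, iQ, iC, q, hq, hQ, hker⟩ := exists_quotA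
  have h : Nat.card σ.ker * 2 ^ 1 ≤ 2 ^ CO73Ap2.es.sum * 2 := bound_sets_n2.{u} o73Model 2 DO73Ap2
    CO73Ap2 rfl chk_certO73Ap2 chk_structO73Ap2 wsO73Ap2 pmO73Ap2 lwO73Ap2 coreO73Ap2 (by decide)
    hordAll.2.2.2.2.1 masksO73Ap2 chk_setsO73Ap2 chk_distinctO73Ap2 KA rfl q hq 1 hQ L1 L1_le_KA
    hker L1_perfect 2 L_bound2 Γ σ hσ hk
  rw [esAll.2.2.2.2.1] at h
  omega

theorem bound3 (Γ : Type u) [Group Γ] [Finite Γ] (σ : Γ →* o73Model.G)
    (hσ : Cfsg.IsStemExtension σ) (hk : IsPGroup 3 σ.ker) : Nat.card σ.ker ≤ 3 := by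
  haveI : Fact (Nat.Prime 3) := ⟨Nat.prime_three⟩
  obtain ⟨Q, iQ, iC, q, hq, hQ, hker⟩ := exists_quotA
  have h : Nat.card σ.ker ≤ 3 ^ CO73Ap3.es.sum * 1 := bound_sets_cyc.{u} o73Model 3 DO73Ap3
    CO73Ap3 rfl chk_certO73Ap3 chk_structO73Ap3 wsO73Ap3 pmO73Ap3 lwO73Ap3 coreO73Ap3 (by decide)
    hordAll.2.2.2.2.2 masksO73Ap3 chk_setsO73Ap3 chk_distinctO73Ap3 KA KA_eq3 q L1 L1_le_KA
    hker L1_perfect 1 L_bound3 Γ σ hσ hk
  rw [esAll.2.2.2.2.2] at h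
  omega

/-! ## The multiplier -/

theorem not_sq_dvd (p : ℕ) (hp : p.Prime) (h2 : p ≠ 2) (h3 : p ≠ 3) :
    ¬ p * p ∣ 4585351680 := by
  intro h
  have hd : p ∣ 4585351680 := dvd_trans (dvd_mul_right p p) h
  have e : (4585351680 : ℕ) = 2 ^ 9 * 3 ^ 9 * 5 * 7 * 13 := by norm_num
  rw [e] at hd
  rcases (Nat.Prime.dvd_mul hp).mp hd with hd | hd
  · rcases (Nat.Prime.dvd_mul hp).mp hd with hd | hd
    · rcases (Nat.Prime.dvd_mul hp).mp hd with hd | hd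
      · rcases (Nat.Prime.dvd_mul hp).mp hd with hd | hd
        · exact h2 ((Nat.prime_dvd_prime_iff_eq hp Nat.prime_two).mp (hp.dvd_of_dvd_pow hd))
        · exact h3 ((Nat.prime_dvd_prime_iff_eq hp Nat.prime_three).mp (hp.dvd_of_dvd_pow hd))
      · have := (Nat.prime_dvd_prime_iff_eq hp Nat.prime_five).mp hd
        subst this
        norm_num at h
    · have := (Nat.prime_dvd_prime_iff_eq hp (by norm_num : Nat.Prime 7)).mp hd
      subst this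
      norm_num at h
  · have := (Nat.prime_dvd_prime_iff_eq hp (by norm_num : Nat.Prime 13)).mp hd
    subst this
    norm_num at h

theorem isCyclic_of_card_dvd_six {H : Type*} [Group H] [Finite H] (hc : ∀ x y : H, x * y = y * x)
    (hd : Nat.card H ∣ 6) : IsCyclic H := by
  have hmem : Nat.card H ∈ Nat.divisors 6 := Nat.mem_divisors.mpr ⟨hd, by norm_num⟩
  have e : Nat.divisors 6 = {1, 2, 3, 6} := by decide
  rw [e] at hmem
  simp only [Finset.mem_insert, Finset.mem_singleton] at hmem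
  haveI : Fact (Nat.Prime 2) := ⟨Nat.prime_two⟩
  haveI : Fact (Nat.Prime 3) := ⟨Nat.prime_three⟩
  rcases hmem with h | h | h | h
  · haveI : Subsingleton H := (Nat.card_eq_one_iff_unique.mp h).1
    exact isCyclic_of_subsingleton
  · exact isCyclic_of_prime_card (p := 2) h
  · exact isCyclic_of_prime_card (p := 3) h
  · obtain ⟨x, hx⟩ := exists_prime_orderOf_dvd_card' (G := H) 2 (by rw [h]; norm_num)
    obtain ⟨y, hy⟩ := exists_prime_orderOf_dvd_card' (G := H) 3 (by rw [h]; norm_num)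
    have hxy : orderOf (x * y) = 6 := by
      have h1 := Commute.orderOf_mul_eq_mul_orderOf_of_coprime (hc x y) (by rw [hx, hy]; norm_num)
      rw [h1, hx, hy]
    exact isCyclic_of_orderOf_eq_card (x * y) (by rw [hxy, h])

theorem pow_dvd_six_of_le {p a b : ℕ} (hb : p ^ b ∣ 6) (h : p ^ a ≤ p ^ b) (hp : 1 < p) :
    p ^ a ∣ 6 := by
  have : a ≤ b := (Nat.pow_le_pow_iff_right hp).mp h
  exact (pow_dvd_pow p this).trans hb

/-- the kernel of a stem extension of the presented group is cyclic of order dividing 6 -/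
theorem hub (Γ : Type u) [Group Γ] [Finite Γ] (σ : Γ →* TCP.O73.G)
    (hσ : Cfsg.IsStemExtension σ) : IsCyclic σ.ker ∧ Nat.card σ.ker ∣ 6 := by
  have hd : Nat.card σ.ker ∣ 6 := by
    apply Stem.card_dvd_of_primary σ 6 (by norm_num) ?_ hσ
    intro p hp Γ' _ _ σ' hσ' hk
    by_cases h2 : p = 2
    · subst h2
      have h1 : Nat.card σ'.ker ≤ 2 := bound2 Γ' σ' hσ' hk
      obtain ⟨a, ha⟩ := IsPGroup.iff_card.mp hk
      rw [ha] at h1 ⊢
      exact pow_dvd_six_of_le (b := 1) (by norm_num) (by rw [pow_one]; exact h1) (by norm_num)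
    · by_cases h3 : p = 3
      · subst h3
        have h1 : Nat.card σ'.ker ≤ 3 := bound3 Γ' σ' hσ' hk
        obtain ⟨a, ha⟩ := IsPGroup.iff_card.mp hk
        rw [ha] at h1 ⊢
        exact pow_dvd_six_of_le (b := 1) (by norm_num) (by rw [pow_one]; exact h1) (by norm_num)
      · have h1 : Nat.card σ'.ker = 1 := by
          apply Stem.card_ker_eq_one_of_not_sq_dvd σ' hσ' p hk
          rw [O73M.card_G]
          exact not_sq_dvd p hp.out h2 h3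
        rw [h1]
        exact one_dvd 6
  refine ⟨?_, hd⟩
  apply isCyclic_of_card_dvd_six ?_ hd
  intro x y
  have hx := hσ.2.1 x.2
  rw [Subgroup.mem_center_iff] at hx
  exact Subtype.ext (hx y.1).symm

end Cfsg.Agent.Lib.Helper6.O73Mu
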