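import Cfsg.Agent.Lib.Helper6.Mult.Fi22B
import Cfsg.Agent.Lib.Helper6.Spor.Fi22O73
import Cfsg.Agent.Lib.Helper6.Mult.O73C
import Cfsg.Agent.S1685

set_option autoImplicit false
set_option maxRecDepth 100000

/-! # The kernels of the stem extensions of the presented group `Fi22` are cyclic of order
dividing 6 -/

namespace Cfsg.Agent.Lib.Helper6.Fi22Mu

open Cfsg.Spor Cfsg.Agent.Lib.Helper6.TC Cfsg.Agent.Lib.Helper6.TCD Cfsg.Agent.Lib.Helper6.PM
open Cfsg.Agent.Lib.Helper6.MultD Cfsg.Agent.Lib.Helper6.Fi22M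
open Cfsg.Agent.Lib.Helper1 Cfsg.Agent.Lib.Helper1.MatCode Cfsg.Agent.Lib.Helper1.StemSA
open Cfsg.Agent.Lib.Helper6.TCP

open scoped Pointwise

universe u

theorem hordAll : (∀ i < DFI22Ap2.k, Nat.Coprime (DFI22Ap2.ords.getD i 0) 2) ∧
    (∀ i < DFI22Ap5.k, Nat.Coprime (DFI22Ap5.ords.getD i 0) 5) :=
  ⟨O73Mu.hord_of_chk _ _ (by decide +kernel), O73Mu.hord_of_chk _ _ (by decide +kernel)⟩

theorem esAll : CFI22Ap2.es.sum = 0 ∧ CFI22Ap5.es.sum = 0 := by decide +kernel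

theorem hker_triv : ∀ k : K, (1 : K →* Unit) k = 1 ↔ (k : fi22Model.G) ∈ H := by
  intro k
  rw [H_eq_K]
  exact ⟨fun _ => k.2, fun _ => rfl⟩

theorem bound2 (Γ : Type u) [Group Γ] [Finite Γ] (σ : Γ →* fi22Model.G)
    (hσ : Cfsg.IsStemExtension σ) (hk : IsPGroup 2 σ.ker) : Nat.card σ.ker ≤ 2 := by
  haveI : Fact (Nat.Prime 2) := ⟨Nat.prime_two⟩
  haveI : IsCyclic Unit := isCyclic_of_subsingleton
  have h : Nat.card σ.ker ≤ 2 ^ CFI22Ap2.es.sum * 2 := bound_pts_cyc.{u} fi22Model 2 DFI22Ap2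
    CFI22Ap2 rfl chk_certFI22Ap2 chk_structFI22Ap2 wsFI22Ap2 pmFI22Ap2 lwFI22Ap2 coreFI22Ap2
    (by decide) hordAll.1 PLFI22Ap2 PLIFI22Ap2 chk_ptsFI22Ap2 K
    (by rw [pt_zero PLFI22Ap2 PL_zero.1]) (1 : K →* Unit) H H_le_K hker_triv H_perfect 2
    H_bound2 Γ σ hσ hk
  rw [esAll.1] at h
  omega

theorem bound5 (Γ : Type u) [Group Γ] [Finite Γ] (σ : Γ →* fi22Model.G)
    (hσ : Cfsg.IsStemExtension σ) (hk : IsPGroup 5 σ.ker) : Nat.card σ.ker = 1 := by
  haveI : Fact (Nat.Prime 5) := ⟨Nat.prime_five⟩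
  haveI : IsCyclic Unit := isCyclic_of_subsingleton
  have h : Nat.card σ.ker ≤ 5 ^ CFI22Ap5.es.sum * 1 := bound_pts_cyc.{u} fi22Model 5 DFI22Ap5
    CFI22Ap5 rfl chk_certFI22Ap5 chk_structFI22Ap5 wsFI22Ap5 pmFI22Ap5 lwFI22Ap5 coreFI22Ap5
    (by decide) hordAll.2 PLFI22Ap5 PLIFI22Ap5 chk_ptsFI22Ap5 K
    (by rw [pt_zero PLFI22Ap5 PL_zero.2]) (1 : K →* Unit) H H_le_K hker_triv H_perfect 1
    H_bound5 Γ σ hσ hk
  rw [esAll.2] at h
  have hpos : 0 < Nat.card σ.ker := Nat.card_pos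
  omega

/-! ## The prime 3: the subgroup `PΩ(7, 3)` of index 14080 -/

/-- the subgroup generated by `b, …, i` -/
noncomputable abbrev L : Subgroup Fi22 := subH TCP.Fi22.Rels Cfsg.Agent.S1685.S

theorem index_L : L.index = 14080 := Cfsg.Agent.S1685.result

/-- the subgroup is the presented orthogonal group -/
noncomputable def eL : ↥L ≃* TCP.O73.G :=
  (MulEquiv.subgroupCongr Fi22O73.psi_range).symm.trans
    (MonoidHom.ofInjective Fi22O73.psi_injective).symm

theorem perfect_O73 : commutator TCP.O73.G = ⊤ := by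
  haveI := O73Simple.simple.1
  apply U62E3.perfect_of_simple_not_prime
  rw [O73Simple.simple.2]
  norm_num

theorem L_perfect : commutator ↥L = ⊤ := by
  have h := Stem.map_commutator_of_surjective eL.symm.toMonoidHom eL.symm.surjective
  rw [perfect_O73, ← MonoidHom.range_eq_map] at h
  rw [← h]
  exact MonoidHom.range_eq_top.mpr eL.symm.surjective

theorem L_bound3 (Γ' : Type u) [Group Γ'] [Finite Γ'] (σ' : Γ' →* ↥L)
    (hσ' : Cfsg.IsStemExtension σ') (hk : IsPGroup 3 σ'.ker) : Nat.card σ'.ker ≤ 3 := by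
  have h1 := Stem.isStem_comp_equiv (MulEquiv.refl Γ') eL σ' hσ'
  have e2 := Stem.kerEquiv (MulEquiv.refl Γ') eL σ'
  have hk' : IsPGroup 3 (eL.toMonoidHom.comp (σ'.comp (MulEquiv.refl Γ').toMonoidHom)).ker :=
    hk.of_equiv e2.symm
  have h2 := O73Mu.bound3 Γ' _ h1 hk'
  exact (Nat.card_congr e2.toEquiv).ge.trans h2

theorem bound3 (Γ : Type u) [Group Γ] [Finite Γ] (σ : Γ →* Fi22)
    (hσ : Cfsg.IsStemExtension σ) (hk : IsPGroup 3 σ.ker) : Nat.card σ.ker ≤ 3 := by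
  haveI : Fact (Nat.Prime 3) := ⟨Nat.prime_three⟩
  exact bound_of_subgroup_coprime.{u} 3 L L_perfect (by rw [index_L]; norm_num) 3 L_bound3 Γ σ hσ hk

/-! ## The multiplier -/

theorem not_sq_dvd (p : ℕ) (hp : p.Prime) (h2 : p ≠ 2) (h3 : p ≠ 3) (h5 : p ≠ 5) :
    ¬ p * p ∣ 64561751654400 := by
  intro h
  have hd : p ∣ 64561751654400 := dvd_trans (dvd_mul_right p p) h
  have e : (64561751654400 : ℕ) = 2 ^ 17 * 3 ^ 9 * 5 ^ 2 * 7 * 11 * 13 := by norm_num
  rw [e] at hd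
  rcases (Nat.Prime.dvd_mul hp).mp hd with hd | hd
  · rcases (Nat.Prime.dvd_mul hp).mp hd with hd | hd
    · rcases (Nat.Prime.dvd_mul hp).mp hd with hd | hd
      · rcases (Nat.Prime.dvd_mul hp).mp hd with hd | hd
        · rcases (Nat.Prime.dvd_mul hp).mp hd with hd | hd
          · exact h2 ((Nat.prime_dvd_prime_iff_eq hp Nat.prime_two).mp (hp.dvd_of_dvd_pow hd))
          · exact h3 ((Nat.prime_dvd_prime_iff_eq hp Nat.prime_three).mp (hp.dvd_of_dvd_pow hd))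
        · exact h5 ((Nat.prime_dvd_prime_iff_eq hp Nat.prime_five).mp (hp.dvd_of_dvd_pow hd))
      · have := (Nat.prime_dvd_prime_iff_eq hp (by norm_num : Nat.Prime 7)).mp hd
        subst this
        norm_num at h
    · have := (Nat.prime_dvd_prime_iff_eq hp (by norm_num : Nat.Prime 11)).mp hd
      subst this
      norm_num at h
  · have := (Nat.prime_dvd_prime_iff_eq hp (by norm_num : Nat.Prime 13)).mp hd
    subst this
    norm_num at h

/-- the kernel of a stem extension of the presented group is cyclic of order dividing 6 -/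
theorem hub (Γ : Type u) [Group Γ] [Finite Γ] (σ : Γ →* Cfsg.Spor.Fi22)
    (hσ : Cfsg.IsStemExtension σ) : IsCyclic σ.ker ∧ Nat.card σ.ker ∣ 6 := by
  have hd : Nat.card σ.ker ∣ 6 := by
    apply Stem.card_dvd_of_primary σ 6 (by norm_num) ?_ hσ
    intro p hp Γ' _ _ σ' hσ' hk
    by_cases h2 : p = 2
    · subst h2
      have h1 : Nat.card σ'.ker ≤ 2 := bound2 Γ' σ' hσ' hk
      obtain ⟨a, ha⟩ := IsPGroup.iff_card.mp hk
      rw [ha] at h1 ⊢
      exact O73Mu.pow_dvd_six_of_le (b := 1) (by norm_num) (by rw [pow_one]; exact h1)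
        (by norm_num)
    · by_cases h3 : p = 3
      · subst h3
        have h1 : Nat.card σ'.ker ≤ 3 := bound3 Γ' σ' hσ' hk
        obtain ⟨a, ha⟩ := IsPGroup.iff_card.mp hk
        rw [ha] at h1 ⊢
        exact O73Mu.pow_dvd_six_of_le (b := 1) (by norm_num) (by rw [pow_one]; exact h1)
          (by norm_num)
      · by_cases h5 : p = 5
        · subst h5
          have h1 : Nat.card σ'.ker = 1 := bound5 Γ' σ' hσ' hk
          rw [h1]
          exact one_dvd 6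
        · have h1 : Nat.card σ'.ker = 1 := by
            apply Stem.card_ker_eq_one_of_not_sq_dvd σ' hσ' p hk
            rw [Fi22M.card_Fi22]
            exact not_sq_dvd p hp.out h2 h3 h5
          rw [h1]
          exact one_dvd 6
  refine ⟨?_, hd⟩
  apply O73Mu.isCyclic_of_card_dvd_six ?_ hd
  intro x y
  have hx := hσ.2.1 x.2
  rw [Subgroup.mem_center_iff] at hx
  exact Subtype.ext (hx y.1).symm

end Cfsg.Agent.Lib.Helper6.Fi22Mu
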