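import Cfsg.Agent.Lib.Helper6.TCP.Fi223
import Cfsg.Agent.Lib.Helper6.Mult.Fi22A
import Cfsg.Agent.Lib.Helper6.Mult.Cover1
import Cfsg.Agent.Lib.Helper6.WP10

set_option autoImplicit false
set_option maxRecDepth 100000

/-! # A central extension of the Fischer group `Fi22` by a cyclic group of order 3: the maps -/

namespace Cfsg.Agent.Lib.Helper6.Fi22E3

open Cfsg Cfsg.Spor Cfsg.Agent.Lib.Helper6.TC Cfsg.Agent.Lib.Helper6.TCD Cfsg.Agent.Lib.Helper6.TCP
open Cfsg.Agent.Lib.Helper6.PM

/-- the extension -/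
abbrev Γ : Type := Fi223.G

/-- the generators -/
noncomputable def gen (c : ℕ) : Γ := PresentedGroup.mk Fi223.Rels (ceOf Fi223.gc c)

/-- the central element -/
noncomputable def z : Γ := gen 9

theorem mk_wordElt (w : List ℕ) :
    PresentedGroup.mk Fi223.Rels (wordElt Fi223.gc w) = (w.map gen).prod := by
  induction w with
  | nil => simp [wordElt_nil]
  | cons c w ih =>
    rw [wordElt_cons, map_mul, ih, List.map_cons, List.prod_cons]
    rfl

theorem base_prod : ∀ b ∈ Fi223.base, (b.map gen).prod = 1 := by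
  intro b hb
  rw [← mk_wordElt]
  exact Fi223.hbase b hb

theorem gen_inv (c : ℕ) (hc : c < 11) : gen (invc Fi223.INV c) = (gen c)⁻¹ := Fi223.hinvG c hc

theorem gen10 : gen 10 = z⁻¹ := gen_inv 9 (by decide)

theorem gen_self (c : ℕ) (hc : c < 9) : gen c = (gen c)⁻¹ := by
  have h := gen_inv c (by omega)
  have e : invc Fi223.INV c = c := by interval_cases c <;> decide
  rw [e] at h
  exact h

theorem comm_of_rel {G : Type*} [Group G] {a a' x x' : G} (h1 : a' = a⁻¹) (h2 : x' = x⁻¹)
    (h : a * (x * (a' * (x' * 1))) = 1) : a * x = x * a := by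
  subst h1 h2
  calc a * x = (a * (x * (a⁻¹ * (x⁻¹ * 1)))) * (x * a) := by group
    _ = x * a := by rw [h, one_mul]

theorem gen_comm_z (c : ℕ) (hc : c < 11) : gen c * z = z * gen c := by
  have hs : ∀ c' : ℕ, [c', 9, c', 10] ∈ Fi223.base → c' < 9 → gen c' * z = z * gen c' := by
    intro c' hb hc'
    have h := base_prod _ hb
    simp only [List.map_cons, List.map_nil, List.prod_cons, List.prod_nil] at h
    exact comm_of_rel (gen_self c' hc') gen10 h
  have hinv : ∀ g : Γ, g * z = z * g → g⁻¹ * z = z * g⁻¹ := by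
    intro g hg
    calc g⁻¹ * z = g⁻¹ * (z * g) * g⁻¹ := by group
      _ = g⁻¹ * (g * z) * g⁻¹ := by rw [hg]
      _ = z * g⁻¹ := by group
  interval_cases c
  · exact hs 0 (by decide +kernel) (by decide)
  · exact hs 1 (by decide +kernel) (by decide)
  · exact hs 2 (by decide +kernel) (by decide)
  · exact hs 3 (by decide +kernel) (by decide)
  · exact hs 4 (by decide +kernel) (by decide)
  · exact hs 5 (by decide +kernel) (by decide)
  · exact hs 6 (by decide +kernel) (by decide)
  · exact hs 7 (by decide +kernel) (by decide)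
  · exact hs 8 (by decide +kernel) (by decide)
  · rfl
  · rw [gen10]
    exact hinv _ rfl

theorem of_eq_gen (i : Fin 11) : (PresentedGroup.of i : Γ) = gen i.val := by
  unfold gen
  rw [ceOf_gcF, Fin.ofNat_val_eq_self]
  rfl

theorem z_central : z ∈ Subgroup.center Γ := by
  rw [Subgroup.mem_center_iff]
  intro g
  have h : g ∈ Subgroup.centralizer ({z} : Set Γ) := by
    have htop : Subgroup.closure (Set.range (PresentedGroup.of (rels := Fi223.Rels))) = ⊤ :=
      PresentedGroup.closure_range_of _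
    have hle : Subgroup.closure (Set.range (PresentedGroup.of (rels := Fi223.Rels))) ≤
        Subgroup.centralizer ({z} : Set Γ) := by
      rw [Subgroup.closure_le]
      rintro _ ⟨i, rfl⟩
      rw [SetLike.mem_coe, Subgroup.mem_centralizer_iff]
      intro y hy
      rw [Set.mem_singleton_iff] at hy
      subst hy
      rw [of_eq_gen]
      exact (gen_comm_z i.val i.isLt).symm
    rw [htop] at hle
    exact hle (Subgroup.mem_top g)
  rw [Subgroup.mem_centralizer_iff] at h
  exact (h z rfl).symm

instance : (Subgroup.zpowers z).Normal := Cover.normal_zpowers_of_central z_central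

/-! ## The map to the Fischer group -/

/-- the words of the columns -/
def cw (c : ℕ) : List ℕ := if c < 9 then [c] else []

theorem hflat : ∀ b ∈ Fi223.base, b.flatMap cw = [] ∨ b.flatMap cw ∈ TCP.Fi22.base := by
  decide +kernel

theorem hrelσ : ∀ b ∈ Fi223.base,
    PresentedGroup.mk TCP.Fi22.Rels (wordElt TCP.Fi22.gc (b.flatMap cw)) = 1 := by
  intro b hb
  rcases hflat b hb with h | h
  · rw [h, wordElt_nil, map_one]
  · exact TCP.Fi22.hbase _ h

/-- the map onto the Fischer group -/
noncomputable def σ : Γ →* Fi22 := wpHomW cw Fi223.hbl hrelσ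

theorem σ_gen (c : ℕ) (hc : c < 11) :
    σ (gen c) = PresentedGroup.mk TCP.Fi22.Rels (wordElt TCP.Fi22.gc (cw c)) := by
  have h := wpHomW_of (rels := TCP.Fi22.Rels) (gc := TCP.Fi22.gc) cw Fi223.hbl hrelσ
    (Fin.ofNat 11 c)
  rw [Fin.val_ofNat, Nat.mod_eq_of_lt hc] at h
  exact h

theorem σ_z : σ z = 1 := by
  unfold z
  rw [σ_gen 9 (by decide)]
  show PresentedGroup.mk TCP.Fi22.Rels (wordElt TCP.Fi22.gc []) = 1
  rw [wordElt_nil, map_one]

theorem σ_surjective : Function.Surjective σ := by
  rw [← MonoidHom.range_eq_top, eq_top_iff, ← Fi22M.closure_letters, Subgroup.closure_le]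
  rintro _ ⟨c, hc, rfl⟩
  refine ⟨gen c, ?_⟩
  rw [σ_gen c (by omega)]
  unfold cw
  rw [if_pos hc]
  rfl

end Cfsg.Agent.Lib.Helper6.Fi22E3
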