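import Cfsg.Agent.Lib.Helper6.Mult.Fi22E3a

set_option autoImplicit false
set_option maxRecDepth 100000

/-! # A central extension of the Fischer group `Fi22` by a cyclic group of order 3: the kernel -/

namespace Cfsg.Agent.Lib.Helper6.Fi22E3

open Cfsg Cfsg.Spor Cfsg.Agent.Lib.Helper6.TC Cfsg.Agent.Lib.Helper6.TCD Cfsg.Agent.Lib.Helper6.TCP

/-- the quotient by the central element -/
abbrev Q : Type := Γ ⧸ Subgroup.zpowers z

/-- the images of the generators -/
noncomputable def q (c : ℕ) : Q := QuotientGroup.mk' (Subgroup.zpowers z) (gen c)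

theorem q9 : q 9 = 1 := (QuotientGroup.eq_one_iff _).mpr (Subgroup.mem_zpowers z)

theorem q10 : q 10 = 1 := by
  unfold q
  rw [gen10, map_inv]
  have : QuotientGroup.mk' (Subgroup.zpowers z) z = 1 :=
    (QuotientGroup.eq_one_iff _).mpr (Subgroup.mem_zpowers z)
  rw [this, inv_one]

theorem qprod_eq_one (w : List ℕ) (μ : ℕ) (h : w ++ List.replicate μ 10 ∈ Fi223.base) :
    (w.map q).prod = 1 := by
  have h1 := congrArg (QuotientGroup.mk' (Subgroup.zpowers z)) (base_prod _ h)
  rw [map_list_prod, map_one, List.map_map, List.map_append, List.prod_append,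
    List.map_replicate, List.prod_replicate] at h1
  have h2 : ((QuotientGroup.mk' (Subgroup.zpowers z)) ∘ gen) 10 = 1 := q10
  rw [h2, one_pow, mul_one] at h1
  exact h1

theorem qprod_rotate (b : List ℕ) (h : (b.map q).prod = 1) : ((b.rotate 1).map q).prod = 1 := by
  cases b with
  | nil => simpa using h
  | cons c t =>
    rw [List.rotate_cons_succ, List.rotate_zero, List.map_append, List.prod_append]
    rw [List.map_cons, List.prod_cons] at h
    simp only [List.map_cons, List.map_nil, List.prod_cons, List.prod_nil, mul_one]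
    calc (t.map q).prod * q c = (q c)⁻¹ * (q c * (t.map q).prod) * q c := by group
      _ = 1 := by rw [h]; group

/-- the map from the free group -/
noncomputable def ψ₀ : FreeGroup Fi22.Gen →* Q := FreeGroup.lift (fun x => q (TCP.Fi22.col x))

theorem ψ₀_of (x : Fi22.Gen) : ψ₀ (FreeGroup.of x) = q (TCP.Fi22.col x) := by
  unfold ψ₀
  rw [FreeGroup.lift_apply_of]

theorem col_gen (c : ℕ) (hc : c < 9) : TCP.Fi22.col (TCP.Fi22.gen c) = c := by
  interval_cases c <;> rfl

theorem ψ₀_wordElt (w : List ℕ) (hw : ∀ c ∈ w, c < 9) :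
    ψ₀ (wordElt TCP.Fi22.gc w) = (w.map q).prod := by
  induction w with
  | nil => simp [wordElt_nil]
  | cons c w ih =>
    rw [wordElt_cons, map_mul, ih (fun d hd => hw d (List.mem_cons_of_mem _ hd)),
      show ceOf TCP.Fi22.gc c = FreeGroup.of (TCP.Fi22.gen c) from rfl,
      ψ₀_of, col_gen c (hw c List.mem_cons_self), List.map_cons, List.prod_cons]

theorem base3 : ∀ b ∈ TCP.Fi22.base, ∃ μ < 3, b ++ List.replicate μ 10 ∈ Fi223.base := by
  decide +kernel

theorem qprod_base (b : List ℕ) (hb : b ∈ TCP.Fi22.base) : (b.map q).prod = 1 := by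
  obtain ⟨μ, _, h⟩ := base3 b hb
  exact qprod_eq_one b μ h

theorem hrelτ : ∀ r ∈ TCP.Fi22.Rels, ψ₀ r = 1 := by
  intro r hr
  rcases hr with hr | hr
  · obtain ⟨x, _, y, _, rfl⟩ := hr
    rw [← wordElt_pairw (TCP.Fi22.gc_col x) (TCP.Fi22.gc_col y), ψ₀_wordElt]
    · rcases TCP.Fi22.pair_cover x y with h | ⟨b, hb, h⟩
      · exact qprod_base _ h
      · rw [h]
        exact qprod_rotate b (qprod_base b hb)
    · intro c hc
      rcases mem_pairw hc with rfl | rfl
      · exact TCP.Fi22.col_lt x
      · exact TCP.Fi22.col_lt y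
  · have hr' : r ∈ Fi22.extra := hr
    simp only [Fi22.extra, List.mem_cons, List.mem_nil_iff, or_false] at hr'
    rcases hr' with rfl | rfl | rfl
    · rw [← TCP.Fi22.wordElt_u1, ← wordElt_flatten_replicate,
        ψ₀_wordElt _ (TCP.Fi22.hbl _ TCP.Fi22.extra_mem.1)]
      exact qprod_base _ TCP.Fi22.extra_mem.1
    · rw [← TCP.Fi22.wordElt_u2, ← wordElt_flatten_replicate,
        ψ₀_wordElt _ (TCP.Fi22.hbl _ TCP.Fi22.extra_mem.2.1)]
      exact qprod_base _ TCP.Fi22.extra_mem.2.1
    · rw [← TCP.Fi22.wordElt_u3, ← wordElt_flatten_replicate,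
        ψ₀_wordElt _ (TCP.Fi22.hbl _ TCP.Fi22.extra_mem.2.2)]
      exact qprod_base _ TCP.Fi22.extra_mem.2.2

/-- the map from the Fischer group to the quotient -/
noncomputable def τ : Fi22 →* Q := PresentedGroup.toGroup hrelτ

theorem τ_mk (x : FreeGroup Fi22.Gen) : τ (PresentedGroup.mk TCP.Fi22.Rels x) = ψ₀ x := rfl

theorem τσ_gen (c : ℕ) (hc : c < 11) : τ (σ (gen c)) = q c := by
  rw [σ_gen c hc, τ_mk]
  unfold cw
  by_cases h9 : c < 9
  · rw [if_pos h9, ψ₀_wordElt _ (by intro d hd; rw [List.mem_singleton] at hd; omega)]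
    simp
  · rw [if_neg h9, wordElt_nil, map_one]
    have : c = 9 ∨ c = 10 := by omega
    rcases this with rfl | rfl
    · exact q9.symm
    · exact q10.symm

theorem hτσ : ∀ x : Γ, τ (σ x) = (QuotientGroup.mk x : Q) := by
  have h : τ.comp σ = QuotientGroup.mk' (Subgroup.zpowers z) := by
    apply PresentedGroup.ext
    intro i
    rw [of_eq_gen]
    exact τσ_gen i.val i.isLt
  intro x
  exact DFunLike.congr_fun h x

theorem ker_σ : σ.ker = Subgroup.zpowers z := Cover.ker_eq_zpowers σ z σ_z τ hτσ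

/-! ## The central element is a product of commutators -/

/-- the images of the generators in the abelianization, written additively -/
noncomputable def a (c : ℕ) : Additive (Abelianization Γ) :=
  Additive.ofMul (Abelianization.of (gen c))

theorem ab_sum (b : List ℕ) :
    Additive.ofMul (Abelianization.of ((b.map gen).prod)) = (b.map a).sum := by
  induction b with
  | nil => simp
  | cons c b ih =>
    rw [List.map_cons, List.prod_cons, map_mul, ofMul_mul, ih, List.map_cons, List.sum_cons]
    rfl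

theorem base_sum (b : List ℕ) (hb : b ∈ Fi223.base) : (b.map a).sum = 0 := by
  rw [← ab_sum, base_prod b hb, map_one, ofMul_one]

theorem flat_sum (w : List ℕ) (n : ℕ) :
    (((List.replicate n w).flatten).map a).sum = n • (w.map a).sum := by
  induction n with
  | zero => simp
  | succ k ih =>
    rw [List.replicate_succ, List.flatten_cons, List.map_append, List.sum_append, ih, succ_nsmul,
      add_comm]

theorem key_add {A : Type*} [AddCommGroup A] (a1 a2 a3 a4 a5 a7 a8 a9 a10 : A)
    (h1 : a1 + a1 = 0) (h2 : a2 + a2 = 0) (h3 : a3 + a3 = 0)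
    (h4 : a4 + a4 = 0) (h5 : a5 + a5 = 0) (h7 : a7 + a7 = 0) (h8 : a8 + a8 = 0)
    (hsp : 10 • (a3 + (a2 + (a1 + (a3 + (a4 + (a5 + (a3 + (a7 + a8)))))))) + a10 = 0)
    (h910 : a9 + a10 = 0) : a9 = 0 := by
  have hX : 10 • (a3 + (a2 + (a1 + (a3 + (a4 + (a5 + (a3 + (a7 + a8)))))))) =
      5 • (a1 + a1) + 5 • (a2 + a2) + 15 • (a3 + a3) + 5 • (a4 + a4) + 5 • (a5 + a5) +
        5 • (a7 + a7) + 5 • (a8 + a8) := by abel
  rw [hX, h1, h2, h3, h4, h5, h7, h8] at hsp
  simp only [smul_zero, add_zero, zero_add] at hsp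
  rw [hsp, add_zero] at h910
  exact h910

theorem a9_zero : a 9 = 0 := by
  have s := fun b hb => base_sum b hb
  have c1 := s [1, 1] (by decide +kernel)
  have c2 := s [2, 2] (by decide +kernel)
  have c3 := s [3, 3] (by decide +kernel)
  have c4 := s [4, 4] (by decide +kernel)
  have c5 := s [5, 5] (by decide +kernel)
  have c7 := s [7, 7] (by decide +kernel)
  have c8 := s [8, 8] (by decide +kernel)
  have c910 := s [9, 10] (by decide +kernel)
  have hspm : (List.replicate 10 [3, 2, 1, 3, 4, 5, 3, 7, 8]).flatten ++ [10] ∈ Fi223.base := by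
    decide +kernel
  have csp := s _ hspm
  rw [List.map_append, List.sum_append, flat_sum] at csp
  simp only [List.map_cons, List.map_nil, List.sum_cons, List.sum_nil, add_zero]
    at c1 c2 c3 c4 c5 c7 c8 c910 csp
  exact key_add (a 1) (a 2) (a 3) (a 4) (a 5) (a 7) (a 8) (a 9) (a 10) c1 c2 c3 c4 c5 c7 c8 csp c910

theorem z_mem_commutator : z ∈ commutator Γ := by
  apply Cover.mem_commutator_of_abelianization
  have h := a9_zero
  unfold a at h
  rw [ofMul_eq_zero] at h
  exact h

end Cfsg.Agent.Lib.Helper6.Fi22E3
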