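import Cfsg.Agent.Lib.Helper6.Mult.Fi22C
import Cfsg.Agent.Lib.Helper6.Mult.Fi22E3c
import Cfsg.Agent.S1688
import Cfsg.Agent.S1696
import Cfsg.Agent.Lib.Helper1.Stem14
import Cfsg.Agent.Lib.Helper1.Stem16

set_option autoImplicit false
set_option maxRecDepth 100000

/-! # The Schur multiplier of the Fischer group `Fi22` is cyclic of order 6 -/

namespace Cfsg.Agent.Lib.Helper6.Fi22Mu

open Cfsg.Spor Cfsg.Agent.Lib.Helper6.TC Cfsg.Agent.Lib.Helper6.TCD Cfsg.Agent.Lib.Helper6.PM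
open Cfsg.Agent.Lib.Helper1

universe u

theorem perfect_Fi22 : commutator Fi22 = ⊤ := by
  haveI : IsSimpleGroup Fi22 := Cfsg.Agent.S1696.result.1
  apply U62E3.perfect_of_simple_not_prime
  rw [Fi22M.card_Fi22]
  norm_num

/-- a stem extension of the presented group with a cyclic kernel of order 2: the centraliser of a
generator of the presented group `Fi23` -/
theorem exists_cover2 : ∃ (Γ₀ : Type) (_ : Group Γ₀) (_ : Finite Γ₀) (σ₀ : Γ₀ →* Fi22),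
    Cfsg.IsStemExtension σ₀ ∧ IsCyclic σ₀.ker ∧ Nat.card σ₀.ker = 2 := by
  obtain ⟨σ, hσ, hc, hcard⟩ := exists_stem_of_nonsplit perfect_Fi22 Cfsg.Agent.S1688.result
  haveI : Finite Fi23 := Fi23UB.card_le.1
  exact ⟨_, inferInstance, inferInstance, σ, hσ, hc, hcard⟩

/-- a stem extension of the presented group with a cyclic kernel of order 6: the fibre product of
the ones with kernels of orders 2 and 3 -/
theorem exists_cover6 : ∃ (Γ₀ : Type) (_ : Group Γ₀) (_ : Finite Γ₀) (σ₀ : Γ₀ →* Fi22),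
    Cfsg.IsStemExtension σ₀ ∧ IsCyclic σ₀.ker ∧ Nat.card σ₀.ker = 6 := by
  obtain ⟨Γ₂, i1, i2, σ₂, hσ₂, hc₂, hcard₂⟩ := exists_cover2
  obtain ⟨Γ₃, j1, j2, σ₃, hσ₃, hc₃, hcard₃⟩ := Fi22E3.exists_cover
  have hcop : Nat.Coprime (Nat.card σ₂.ker) (Nat.card σ₃.ker) := by
    rw [hcard₂, hcard₃]
    norm_num
  obtain ⟨hcyc, hcard⟩ := Stem.fibreHom_ker_cyclic σ₂ σ₃ hc₂ hc₃ hcop
  refine ⟨Stem.fibreProd σ₂ σ₃, inferInstance, inferInstance, Stem.fibreHom σ₂ σ₃,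
    Stem.fibreHom_isStem σ₂ σ₃ hσ₂ hσ₃ hcop, hcyc, ?_⟩
  rw [hcard, hcard₂, hcard₃]

/-- the Schur multiplier of the Fischer group `Fi22` is cyclic of order 6 -/
theorem multiplier : Cfsg.HasCyclicSchurMultiplier Fi22 6 :=
  Stem.hasCyclicSchurMultiplier_of_equiv (MulEquiv.refl Fi22) 6 exists_cover6
    (fun Γ _ _ σ hσ => hub Γ σ hσ)

end Cfsg.Agent.Lib.Helper6.Fi22Mu
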