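import Cfsg.Agent.Lib.Helper6.Mult.PM3
import Cfsg.Agent.Lib.Helper6.Spor.Fi23Ord

set_option autoImplicit false
set_option maxRecDepth 100000

/-! # The presented group `Fi23` acting on 31671 points, as a model -/

namespace Cfsg.Agent.Lib.Helper6.Fi23M

open Cfsg.Spor Cfsg.Agent.Lib.Helper6.TC Cfsg.Agent.Lib.Helper6.TCD Cfsg.Agent.Lib.Helper6.PM
open Cfsg.Agent.Lib.Helper6.TCP.Fi23

/-- the faithful permutation representation on 31671 points -/
noncomputable def phi : Fi23 →* Equiv.Perm (Fin 31671) := Classical.choose Fi23Ord.rep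

theorem phi_spec : (∀ w, (∀ c ∈ w, c < 10) → ∀ p : Fin 31671,
      ((phi (PresentedGroup.mk Rels (wordElt gc w)))⁻¹ p).val = wapp Fi23a.px w p.val) ∧
    Function.Injective phi ∧ Nat.card Fi23 = 4089470473293004800 ∧ Finite Fi23 := by
  have h := Classical.choose_spec Fi23Ord.rep
  exact ⟨h.1, h.2.2.1, h.2.2.2.1, h.2.2.2.2⟩

instance finite_Fi23 : Finite Fi23 := phi_spec.2.2.2

theorem card_Fi23 : Nat.card Fi23 = 4089470473293004800 := phi_spec.2.2.1

/-- the element of the group given by a word of columns -/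
noncomputable def elt (w : List ℕ) : Fi23 := PresentedGroup.mk Rels (wordElt gc w)

theorem closure_letters : Subgroup.closure {g : Fi23 | ∃ c < 10, g = elt [c]} = ⊤ := by
  rw [eq_top_iff, ← PresentedGroup.closure_range_of]
  apply Subgroup.closure_mono
  rintro _ ⟨x, rfl⟩
  refine ⟨col x, col_lt x, ?_⟩
  unfold elt
  rw [wordElt_cons, wordElt_nil, mul_one]
  congr 1
  cases x <;> rfl

/-- the model of the group -/
noncomputable def fi23Model : PModel where
  G := Fi23
  n := 31671
  nl := 10
  px := Fi23a.px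
  elt := elt
  phi := phi
  elt_nil := by
    unfold elt
    rw [wordElt_nil, map_one]
  elt_append := fun u v => by
    unfold elt
    rw [wordElt_append, map_mul]
  px_lt := fun c hc q hq => Cfsg.Agent.S1689.hP.hlt c hc q hq
  phi_inv_val := phi_spec.1
  phi_injective := phi_spec.2.1
  closure_letters := closure_letters

end Cfsg.Agent.Lib.Helper6.Fi23M
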