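import Cfsg.Agent.Lib.Helper6.Mult.PM10

set_option autoImplicit false
set_option maxRecDepth 100000

/-! # Groups with a faithful permutation action given by tables: checks on all the points, cut
in ranges of points -/

namespace Cfsg.Agent.Lib.Helper6.PM

open Cfsg.Agent.Lib.Helper6.TC

/-- a test on the numbers `lo, …, lo + len - 1` -/
noncomputable def allBR (f : ℕ → Bool) (lo len : ℕ) : Bool := allB (fun q => f (lo + q)) len

/-- a test on all the numbers below `n`, from the tests on ranges covering them -/
theorem forall_of_allBR (f : ℕ → Bool) (n : ℕ) (cuts : List (ℕ × ℕ)) (hc : chkCuts n cuts = true)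
    (h : ∀ c ∈ cuts, allBR f c.1 c.2 = true) : ∀ q < n, f q = true := by
  intro q hq
  have h0 := allB_spec hc q hq
  rw [List.any_eq_true] at h0
  obtain ⟨c, hcm, hcq⟩ := h0
  rw [Bool.and_eq_true, decide_eq_true_eq, decide_eq_true_eq] at hcq
  have h1 := allB_spec (h c hcm) (q - c.1) (by omega)
  have e : c.1 + (q - c.1) = q := by omega
  rw [e] at h1
  exact h1

variable (M : PModel) (ws : List (List ℕ)) (pm : ℕ → ℕ → ℕ)

/-- the test of the table of a generator at a point -/
noncomputable def tabAt (i q : ℕ) : Bool := wappS M.px (ws.getD i []) q == pm i q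

/-- the check of the table of a generator, from the tests on ranges of points -/
theorem chkTab_of_R (i : ℕ) (cuts : List (ℕ × ℕ)) (hc : chkCuts M.n cuts = true)
    (hl : ((ws.getD i []).all fun c => decide (c < M.nl)) = true)
    (h : ∀ c ∈ cuts, allBR (tabAt M ws pm i) c.1 c.2 = true) : chkTab M ws pm i = true := by
  unfold chkTab
  rw [Bool.and_eq_true]
  refine ⟨hl, ?_⟩
  rw [List.all_eq_true]
  intro q hq
  rw [List.mem_range] at hq
  exact forall_of_allBR (tabAt M ws pm i) M.n cuts hc h q hq

/-- the check of the table of a generator, from the tests at the points -/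
theorem chkTab_of_forall (i : ℕ)
    (hl : ((ws.getD i []).all fun c => decide (c < M.nl)) = true)
    (h : ∀ q < M.n, tabAt M ws pm i q = true) : chkTab M ws pm i = true := by
  unfold chkTab
  rw [Bool.and_eq_true]
  refine ⟨hl, ?_⟩
  rw [List.all_eq_true]
  intro q hq
  rw [List.mem_range] at hq
  exact h q hq

end Cfsg.Agent.Lib.Helper6.PM
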