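import Cfsg.Agent.Lib.Helper6.Mult.O83A
import Cfsg.Agent.Lib.Helper6.Mult.Fi23A
import Cfsg.Agent.Lib.Helper6.MultD.FI23X
import Cfsg.Agent.Lib.Helper6.MultD.FI23Hp3I
import Cfsg.Agent.Lib.Helper6.MultD.FI23Hp3L
import Cfsg.Agent.Lib.Helper6.MultD.FI23Hp3S

set_option autoImplicit false
set_option maxRecDepth 100000

/-! # The presented group `Fi23`: its subgroup `O8+(3):S3` generated by the image of the presented
group `Y422` and a conjugate of the letter `a`; the kernels of the stem extensions of the presented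
group `Fi23` which are `3`-groups are trivial -/

namespace Cfsg.Agent.Lib.Helper6.Fi23Mu

open Cfsg.Spor
open Cfsg.Agent.Lib.Helper6.TC Cfsg.Agent.Lib.Helper6.TCD Cfsg.Agent.Lib.Helper6.PM
open Cfsg.Agent.Lib.Helper6.MultD Cfsg.Agent.Lib.Helper6.Y422M Cfsg.Agent.Lib.Helper6.Fi23M
open Cfsg.Agent.Lib.Helper6.O83Mu
open Cfsg.Agent.Lib.Helper1 Cfsg.Agent.Lib.Helper1.MatCode Cfsg.Agent.Lib.Helper1.StemSA

open scoped Pointwise

universe u

/-! ## The homomorphism from the presented group `Y422` -/

/-- the element of a word in the auxiliary elements which fixes all the points is trivial -/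
theorem eltQ_eq_one (u : List ℕ) (hu : ∀ c ∈ u, c < wsFI23Q.length)
    (h : ∀ q < 31671, wapp pmFI23Q u q = q) : fi23H.elt (expand wsFI23Q u) = 1 := by
  rw [← fi23H.elt_nil]
  apply fi23H.elt_eq_of_wapp _ _ (expand_lt wsFI23Q fi23H.nl tabFI23Q.1 u) (by simp)
  intro q hq
  rw [(PM.wapp_expand fi23H wsFI23Q pmFI23Q tabFI23Q u hu q hq).1]
  exact h q hq

theorem hrelη : ∀ b ∈ TCP.Y422.base,
    PresentedGroup.mk TCP.Fi23.Rels (wordElt TCP.Fi23.gc (b.flatMap cw23)) = 1 := by
  intro b hb
  rw [← List.take_append_drop 45 TCP.Y422.base, List.mem_append] at hb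
  rcases hb with hb | hb
  · have h := chk_rot23
    simp only [List.all_eq_true, List.any_eq_true, List.mem_range, beq_iff_eq] at h
    obtain ⟨b', hb', i, _, e⟩ := h b hb
    rw [e]
    exact mk_wordElt_rotate b' i (TCP.Fi23.hbase b' hb')
  · rw [chk_long23] at hb
    simp only [List.mem_cons, List.mem_nil_iff, or_false] at hb
    rcases hb with rfl | rfl
    · have h1 : fi23H.elt (expand wsFI23Q [6, 15, 7, 15]) = 1 :=
        eltQ_eq_one _ (by decide) (fun q hq => by
          have h2 := chk_longA23 q hq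
          unfold fLongA23 at h2
          rw [Nat.beq_eq, wappS_eq] at h2
          exact h2)
      exact congrArg Subtype.val h1
    · have h1 : fi23H.elt (expand wsFI23Q [16, 6, 16, 6, 16, 6]) = 1 :=
        eltQ_eq_one _ (by decide) (fun q hq => by
          have h2 := chk_longB23 q hq
          unfold fLongB23 at h2
          rw [Nat.beq_eq, wappS_eq] at h2
          exact h2)
      exact congrArg Subtype.val h1

/-- the homomorphism from the presented group `Y422` -/
noncomputable def eta : y422Model.G →* fi23Model.G :=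
  wpHomW (rels := TCP.Fi23.Rels) (gc := TCP.Fi23.gc) cw23 TCP.Y422.hbl hrelη

theorem eta_elt (w : List ℕ) (hw : ∀ c ∈ w, c < 9) :
    eta (y422Model.elt w) = fi23Model.elt (w.flatMap cw23) := by
  show FreeGroup.lift (fun i : Fin 9 => PresentedGroup.mk TCP.Fi23.Rels
    (wordElt TCP.Fi23.gc (cw23 i.val))) (wordElt (gcF 9) w) = _
  exact lift_wordElt_flatMap cw23 w hw

/-! ## The homomorphism is injective -/

theorem beta_facts : ∀ q < 1080, binv23 (beta23 q) = q ∧ beta23 q < 31671 := by
  have h := chk_binv23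
  simp only [List.all_eq_true, List.mem_range, Bool.and_eq_true, beq_iff_eq,
    decide_eq_true_eq] at h
  exact h

theorem beta_letter : ∀ c < 9, ∀ q < 1080,
    beta23 (Y422a.px c q) = wapp Fi23a.px (cw23 c) (beta23 q) := by
  have h := chk_beta23
  simp only [List.all_eq_true, List.mem_range, beq_iff_eq, wappS_eq] at h
  exact h

/-- the images of the 1080 points of the presented group `Y422` -/
def betaF (q : Fin y422Model.n) : Fin fi23Model.n := ⟨beta23 q.val, (beta_facts q.val q.isLt).2⟩

theorem betaF_injective : Function.Injective betaF := by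
  intro q q' h
  have h1 : beta23 q.val = beta23 q'.val := congrArg Fin.val h
  apply Fin.ext
  rw [← (beta_facts q.val q.isLt).1, ← (beta_facts q'.val q'.isLt).1, h1]

/-- the elements for which the map of the points is equivariant -/
noncomputable def equivSub : Subgroup y422Model.G where
  carrier := {g | ∀ q, betaF (g • q) = eta g • betaF q}
  one_mem' := by
    intro q
    rw [one_smul, map_one, one_smul]
  mul_mem' := by
    intro g h hg hh q
    rw [mul_smul, hg, hh, map_mul, mul_smul]
  inv_mem' := by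
    intro g hg q
    have h1 := hg (g⁻¹ • q)
    rw [smul_inv_smul] at h1
    rw [map_inv, h1, inv_smul_smul]

theorem cw23_letter_lt (c : ℕ) (hc : c < 9) : ∀ d ∈ cw23 c, d < 10 := by
  interval_cases c <;> decide

theorem equivSub_eq_top : equivSub = ⊤ := by
  rw [eq_top_iff, ← y422Model.closure_letters, Subgroup.closure_le]
  rintro _ ⟨c, hc, rfl⟩
  have hc' : c < 9 := hc
  rw [SetLike.mem_coe, ← inv_inv (y422Model.elt [c])]
  apply equivSub.inv_mem
  intro q
  have hl : ∀ d ∈ [c], d < y422Model.nl := by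
    intro d hd
    rw [List.mem_singleton] at hd
    rw [hd]
    exact hc
  apply Fin.ext
  rw [map_inv, eta_elt [c] (fun d hd => hl d hd), List.flatMap_cons, List.flatMap_nil,
    List.append_nil, fi23Model.inv_elt_smul_val (cw23 c) (cw23_letter_lt c hc')]
  show beta23 ((y422Model.elt [c])⁻¹ • q).val = _
  rw [y422Model.inv_elt_smul_val [c] hl]
  exact beta_letter c hc' q.val q.isLt

theorem eta_injective : Function.Injective eta := by
  rw [← MonoidHom.ker_eq_bot_iff, eq_bot_iff]
  intro g hg
  rw [MonoidHom.mem_ker] at hg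
  rw [Subgroup.mem_bot]
  have h1 : g ∈ equivSub := by
    rw [equivSub_eq_top]
    exact Subgroup.mem_top g
  apply y422Model.faithfulG.eq_of_smul_eq_smul
  intro q
  have h2 := h1 q
  rw [hg, one_smul] at h2
  rw [one_smul]
  exact betaF_injective h2

/-! ## The subgroup `O8+(3):S3` -/

/-- the subgroup `O8+(3):S3` -/
noncomputable abbrev HH : Subgroup fi23Model.G := PM.subH fi23Model wsFI23H

theorem eta_mem (g : y422Model.G) : eta g ∈ HH := by
  have h : (⊤ : Subgroup y422Model.G) ≤ HH.comap eta := by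
    rw [← y422Model.closure_letters, Subgroup.closure_le]
    rintro _ ⟨c, hc, rfl⟩
    have hc' : c < 9 := hc
    rw [SetLike.mem_coe, Subgroup.mem_comap, eta_elt [c] (by
      intro d hd
      rw [List.mem_singleton] at hd
      rw [hd]
      exact hc'), List.flatMap_cons, List.flatMap_nil, List.append_nil]
    exact Subgroup.subset_closure ⟨c, by
      show c < 10
      omega, rfl⟩
  exact h (Subgroup.mem_top g)

/-- the homomorphism from the presented group `Y422` to the subgroup -/
noncomputable def eta' : y422Model.G →* fi23H.G := eta.codRestrict HH eta_mem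

theorem eta'_injective : Function.Injective eta' := by
  intro x y h
  apply eta_injective
  exact congrArg Subtype.val h

theorem eta'_elt (w : List ℕ) (hw : ∀ c ∈ w, c < 9) : eta' (y422Model.elt w) = fi23H.elt w := by
  apply Subtype.ext
  show eta (y422Model.elt w) = fi23Model.elt (expand wsFI23H w)
  rw [eta_elt w hw]
  rfl

/-! ## The stabilizer of the first of the three sets -/

/-- the stabilizer of the first set -/
noncomputable abbrev ST1 : Subgroup fi23H.G :=
  MulAction.stabilizer fi23H.G (ptS fi23H masksFI23Hp3 0)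

theorem card_ST1_mul : Nat.card ST1 * 3 = Nat.card fi23H.G :=
  card_stab_sets fi23H DFI23Hp3 chk_structFI23Hp3 wsFI23Hp3 pmFI23Hp3 lwFI23Hp3 coreFI23Hp3
    (by decide) masksFI23Hp3 chk_setsFI23Hp3 chk_distinctFI23Hp3

theorem letterH_lt (i : ℕ) (hi : i < 10) : ∀ c ∈ [i], c < fi23H.nl := by
  intro c hc
  rw [List.mem_singleton] at hc
  rw [hc]
  exact hi

theorem word9_lt (w : List ℕ) (hw : ∀ c ∈ w, c < 9) : ∀ c ∈ w, c < fi23H.nl := by
  intro c hc
  have := hw c hc
  show c < 10
  omega

theorem fixT23 (c : ℕ) (hc : c < 9) : ∀ q < 31671,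
    (masksFI23Hp3 0).testBit q = (masksFI23Hp3 0).testBit (pmFI23H c q) := by
  intro q hq
  apply testBit_eq_of_bitN
  interval_cases c
  · exact chk_fixT23_0 q hq
  · exact chk_fixT23_1 q hq
  · exact chk_fixT23_2 q hq
  · exact chk_fixT23_3 q hq
  · exact chk_fixT23_4 q hq
  · exact chk_fixT23_5 q hq
  · exact chk_fixT23_6 q hq
  · exact chk_fixT23_7 q hq
  · exact chk_fixT23_8 q hq

theorem range_le_ST1 : eta'.range ≤ ST1 := by
  rw [MonoidHom.range_eq_map, ← y422Model.closure_letters, MonoidHom.map_closure,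
    Subgroup.closure_le]
  rintro _ ⟨_, ⟨c, hc, rfl⟩, rfl⟩
  have hc' : c < 9 := hc
  have hl : ∀ d ∈ [c], d < 9 := by
    intro d hd
    rw [List.mem_singleton] at hd
    rw [hd]
    exact hc'
  rw [SetLike.mem_coe, eta'_elt [c] hl, MulAction.mem_stabilizer_iff]
  exact elt_smul_maskSet fi23H [c] (letterH_lt c (by omega)) (pmFI23H c) (fun _ _ => rfl) _ _
    (fun q hq => fixT23 c hc' q hq)

/-! ## The cosets of the image of the presented group `Y422` -/

/-- the representatives of the cosets -/
noncomputable def ur (j : ℕ) : fi23H.G := fi23H.elt (uw23.getD j [])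

theorem ur_zero : ur 0 = 1 := fi23H.elt_nil

theorem uw_lt (j : ℕ) (hj : j < 3) : ∀ c ∈ uw23.getD j [], c < fi23H.nl := by
  interval_cases j <;> decide

theorem schJ_lt (j s : ℕ) (hj : j < 3) (hs : s < 10) : (schJ23.getD j []).getD s 0 < 3 := by
  interval_cases j <;> interval_cases s <;> decide

theorem letter_sq (c : ℕ) (hc : c < 10) : fi23H.elt [c] * fi23H.elt [c] = 1 := by
  have h := hpow fi23H DFI23Hp3 wsFI23Hp3 pmFI23Hp3 lwFI23Hp3 coreFI23Hp3 c hc
  rw [gs_getD] at h
  have e1 : wsFI23Hp3.getD c [] = [c] := by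
    interval_cases c <;> rfl
  have e2 : DFI23Hp3.ords.getD c 0 = 2 := by
    interval_cases c <;> rfl
  rw [e1, e2, pow_two] at h
  exact h

theorem letter_inv (c : ℕ) (hc : c < 10) : (fi23H.elt [c])⁻¹ = fi23H.elt [c] :=
  inv_eq_of_mul_eq_one_left (letter_sq c hc)

/-- the element of the reversed word is the inverse -/
theorem elt_reverse (w : List ℕ) (hw : ∀ c ∈ w, c < 10) :
    fi23H.elt w.reverse = (fi23H.elt w)⁻¹ := by
  induction w with
  | nil => rw [List.reverse_nil, fi23H.elt_nil, inv_one]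
  | cons c w ih =>
    rw [List.reverse_cons, fi23H.elt_append, ih (fun d hd => hw d (List.mem_cons_of_mem _ hd)),
      fi23H.elt_cons c w, mul_inv_rev, letter_inv c (hw c List.mem_cons_self)]

/-- the generators for which the relation is checked on the points -/
def schDirect (j s : ℕ) : Prop := j < 2 ∨ s = 5 ∨ s = 9

instance (j s : ℕ) : Decidable (schDirect j s) := by
  unfold schDirect
  infer_instance

/-- the words of the elements of the stabilizer in the products of the representatives by the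
generators -/
def schW (j s : ℕ) : List ℕ :=
  if schDirect j s then expand wsFI23Q ((schWQ23.getD j []).getD s [])
  else (expand wsFI23Q ((schWQ23.getD 1 []).getD s [])).reverse

theorem schWQ_lt (j s : ℕ) (hj : j < 3) (hs : s < 10) :
    ∀ c ∈ (schWQ23.getD j []).getD s [], c < wsFI23Q.length := by
  have h : ((List.range 3).all fun j => (List.range 10).all fun s =>
      ((schWQ23.getD j []).getD s []).all fun c => decide (c < wsFI23Q.length)) = true := by
    decide +kernel
  simp only [List.all_eq_true, List.mem_range, decide_eq_true_eq] at h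
  exact h j hj s hs

theorem expandQ_lt (j s : ℕ) (hj : j < 3) (hs : s < 10) :
    ∀ c ∈ expand wsFI23Q ((schWQ23.getD j []).getD s []), c < 9 := by
  have h := chk_schW23
  simp only [List.all_eq_true, List.mem_range, decide_eq_true_eq] at h
  exact h j hj s hs

theorem schW_lt (j s : ℕ) (hj : j < 3) (hs : s < 10) : ∀ c ∈ schW j s, c < 9 := by
  unfold schW
  split_ifs with hd
  · exact expandQ_lt j s hj hs
  · intro c hc
    rw [List.mem_reverse] at hc
    exact expandQ_lt 1 s (by norm_num) hs c hc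

theorem sch_direct (j s : ℕ) (hj : j < 3) (hs : s < 10) (hd : schDirect j s) :
    ∀ q < 31671, fSch23 j s q = true := by
  interval_cases j <;> interval_cases s
  · exact chk_sch23_0_0
  · exact chk_sch23_0_1
  · exact chk_sch23_0_2
  · exact chk_sch23_0_3
  · exact chk_sch23_0_4
  · exact chk_sch23_0_5
  · exact chk_sch23_0_6
  · exact chk_sch23_0_7
  · exact chk_sch23_0_8
  · exact chk_sch23_0_9
  · exact chk_sch23_1_0
  · exact chk_sch23_1_1
  · exact chk_sch23_1_2
  · exact chk_sch23_1_3
  · exact chk_sch23_1_4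
  · exact chk_sch23_1_5
  · exact chk_sch23_1_6
  · exact chk_sch23_1_7
  · exact chk_sch23_1_8
  · exact chk_sch23_1_9
  · exact absurd hd (by decide)
  · exact absurd hd (by decide)
  · exact absurd hd (by decide)
  · exact absurd hd (by decide)
  · exact absurd hd (by decide)
  · exact chk_sch23_2_5
  · exact absurd hd (by decide)
  · exact absurd hd (by decide)
  · exact absurd hd (by decide)
  · exact chk_sch23_2_9

theorem sch_eq_direct (j s : ℕ) (hj : j < 3) (hs : s < 10) (hd : schDirect j s) :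
    ur j * fi23H.elt [s] = fi23H.elt (expand wsFI23Q ((schWQ23.getD j []).getD s [])) *
      ur ((schJ23.getD j []).getD s 0) := by
  unfold ur
  rw [← fi23H.elt_append, ← fi23H.elt_append]
  apply fi23H.elt_eq_of_wapp
  · intro c hc
    rw [List.mem_append, List.mem_singleton] at hc
    rcases hc with hc | hc
    · exact uw_lt j hj c hc
    · rw [hc]
      exact hs
  · intro c hc
    rw [List.mem_append] at hc
    rcases hc with hc | hc
    · exact word9_lt _ (expandQ_lt j s hj hs) c hc
    · exact uw_lt _ (schJ_lt j s hj hs) c hc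
  · intro q hq
    have h := sch_direct j s hj hs hd q hq
    unfold fSch23 at h
    rw [Nat.beq_eq, wappS_eq, wappS_eq, wappS_eq] at h
    rw [wapp_append (expand wsFI23Q ((schWQ23.getD j []).getD s [])),
      (PM.wapp_expand fi23H wsFI23Q pmFI23Q tabFI23Q _ (schWQ_lt j s hj hs) q hq).1]
    exact h

theorem sch_eq (j s : ℕ) (hj : j < 3) (hs : s < 10) :
    ur j * fi23H.elt [s] = fi23H.elt (schW j s) * ur ((schJ23.getD j []).getD s 0) := by
  unfold schW
  split_ifs with hd
  · exact sch_eq_direct j s hj hs hd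
  · -- the third representative: from the relation of the second one
    have hj2 : j = 2 := by
      unfold schDirect at hd
      omega
    subst hj2
    have h1 := sch_eq_direct 1 s (by norm_num) hs (Or.inl (by norm_num))
    have hJ1 : (schJ23.getD 1 []).getD s 0 = 2 := by
      unfold schDirect at hd
      interval_cases s <;> first | rfl | exact absurd hd (by decide)
    have hJ2 : (schJ23.getD 2 []).getD s 0 = 1 := by
      unfold schDirect at hd
      interval_cases s <;> first | rfl | exact absurd hd (by decide)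
    rw [hJ1] at h1
    rw [hJ2, elt_reverse _ (word9_lt _ (expandQ_lt 1 s (by norm_num) hs))]
    have e1 : ur 1 = fi23H.elt [9] := rfl
    have e2 : ur 2 = fi23H.elt [9] * fi23H.elt [5] := fi23H.elt_cons 9 [5]
    rw [e1, e2] at h1
    rw [e1, e2]
    have hX := letter_inv s hs
    have h9 := letter_inv 9 (by norm_num)
    have h5 := letter_inv 5 (by norm_num)
    have hW : fi23H.elt (expand wsFI23Q ((schWQ23.getD 1 []).getD s [])) =
        fi23H.elt [9] * fi23H.elt [s] * (fi23H.elt [9] * fi23H.elt [5])⁻¹ :=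
      eq_mul_inv_of_mul_eq h1.symm
    rw [hW]
    have key : ∀ a b c : fi23H.G, a⁻¹ = a → c⁻¹ = c →
        a * b * c = (a * c * (a * b)⁻¹)⁻¹ * a := by
      intro a b c ha hc
      have e : (a * c * (a * b)⁻¹)⁻¹ * a = a * b * c⁻¹ * a⁻¹ * a := by group
      rw [e, hc]
      group
    exact key _ _ _ h9 hX

theorem elt9_mem_range (w : List ℕ) (hw : ∀ c ∈ w, c < 9) : fi23H.elt w ∈ eta'.range :=
  ⟨y422Model.elt w, eta'_elt w hw⟩

theorem exists_rep (g : fi23H.G) : ∃ j < 3, g * (ur j)⁻¹ ∈ eta'.range := by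
  have hg : g ∈ Subgroup.closure {x : fi23H.G | ∃ c < fi23H.nl, x = fi23H.elt [c]} := by
    rw [fi23H.closure_letters]
    exact Subgroup.mem_top g
  have step : ∀ x : fi23H.G, ∀ c < 10, (∃ j < 3, x * (ur j)⁻¹ ∈ eta'.range) →
      ∃ j < 3, x * fi23H.elt [c] * (ur j)⁻¹ ∈ eta'.range := by
    rintro x c hc ⟨j, hj, hx⟩
    refine ⟨(schJ23.getD j []).getD c 0, schJ_lt j c hj hc, ?_⟩
    have e : x * fi23H.elt [c] * (ur ((schJ23.getD j []).getD c 0))⁻¹ =
        x * (ur j)⁻¹ * fi23H.elt (schW j c) := by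
      have h1 := sch_eq j c hj hc
      have h2 : fi23H.elt [c] = (ur j)⁻¹ * (fi23H.elt (schW j c) *
          ur ((schJ23.getD j []).getD c 0)) := by
        rw [← h1]
        group
      rw [h2]
      group
    rw [e]
    exact mul_mem hx (elt9_mem_range _ (schW_lt j c hj hc))
  induction hg using Subgroup.closure_induction_right with
  | one =>
    refine ⟨0, by norm_num, ?_⟩
    rw [ur_zero, inv_one, mul_one]
    exact one_mem _
  | mul_right x hx y hy ih =>
    obtain ⟨c, hc, rfl⟩ := hy
    exact step x c hc ih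
  | mul_inv_cancel x hx y hy ih =>
    obtain ⟨c, hc, rfl⟩ := hy
    have e : (fi23H.elt [c])⁻¹ = fi23H.elt [c] := by
      rw [inv_eq_iff_mul_eq_one]
      exact letter_sq c hc
    rw [e]
    exact step x c hc ih

theorem ptS_ne : ptS fi23H masksFI23Hp3 1 ≠ ptS fi23H masksFI23Hp3 0 := by
  intro h
  have := ptS_inj fi23H masksFI23Hp3 DFI23Hp3.m chk_distinctFI23Hp3 1 (by decide) 0 (by decide) h
  omega

theorem smul9 : fi23H.elt [9] • ptS fi23H masksFI23Hp3 0 = ptS fi23H masksFI23Hp3 1 :=
  elt_smul_ptS fi23H wsFI23Hp3 pmFI23Hp3 masksFI23Hp3 DFI23Hp3.m DFI23Hp3.pi coreFI23Hp3.2.1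
    chk_setsFI23Hp3 9 (by decide) 0 (by decide)

theorem smul5 : fi23H.elt [5] • ptS fi23H masksFI23Hp3 0 = ptS fi23H masksFI23Hp3 0 :=
  elt_smul_ptS fi23H wsFI23Hp3 pmFI23Hp3 masksFI23Hp3 DFI23Hp3.m DFI23Hp3.pi coreFI23Hp3.2.1
    chk_setsFI23Hp3 5 (by decide) 0 (by decide)

theorem ur1_not_mem : ur 1 ∉ ST1 := by
  intro h
  rw [MulAction.mem_stabilizer_iff] at h
  have h2 : ur 1 = fi23H.elt [9] := rfl
  rw [h2, smul9] at h
  exact ptS_ne h

theorem ur2_not_mem : ur 2 ∉ ST1 := by
  intro h
  rw [MulAction.mem_stabilizer_iff] at h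
  have h2 : ur 2 = fi23H.elt [9] * fi23H.elt [5] := fi23H.elt_cons 9 [5]
  rw [h2, mul_smul, smul5, smul9] at h
  exact ptS_ne h

theorem ST1_le_range : ST1 ≤ eta'.range := by
  intro g hg
  obtain ⟨j, hj, hr⟩ := exists_rep g
  have h1 : ur j ∈ ST1 := by
    have e : ur j = (g * (ur j)⁻¹)⁻¹ * g := by group
    rw [e]
    exact mul_mem (inv_mem (range_le_ST1 hr)) hg
  interval_cases j
  · rw [ur_zero, inv_one, mul_one] at hr
    exact hr
  · exact absurd h1 ur1_not_mem
  · exact absurd h1 ur2_not_mem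

theorem ST1_eq : ST1 = eta'.range := le_antisymm ST1_le_range range_le_ST1

theorem card_ST1 : Nat.card ST1 = 9904359628800 := by
  rw [ST1_eq, ← Nat.card_congr (MonoidHom.ofInjective eta'_injective).toEquiv]
  exact Y422M.card_G

/-! ## The image of the subgroup `O8+(3)` -/

/-- the image of the subgroup `O8+(3)` -/
noncomputable abbrev K1 : Subgroup fi23H.G := O83Mu.W1.map eta'

theorem K1_le : K1 ≤ ST1 := (Subgroup.map_le_range eta' O83Mu.W1).trans range_le_ST1

/-- the image of the subgroup `O8+(3)` is isomorphic to it -/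
noncomputable def equivK1 : ↥O83Mu.W1 ≃* ↥K1 := O83Mu.W1.equivMapOfInjective eta' eta'_injective

theorem card_K1 : Nat.card ↥K1 = 4952179814400 := by
  rw [← Nat.card_congr equivK1.toEquiv]
  exact O83Mu.cards.2.2

theorem K1_perfect : commutator ↥K1 = ⊤ := perfect_of_equiv equivK1 O83Mu.W1_perfect

theorem K1_bound3 (Γ' : Type u) [Group Γ'] [Finite Γ'] (σ' : Γ' →* ↥K1)
    (hσ' : Cfsg.IsStemExtension σ') (hk : IsPGroup 3 σ'.ker) : Nat.card σ'.ker ≤ 1 :=
  bound_of_equiv equivK1.symm 3 1 O83Mu.W_bound3 Γ' σ' hσ' hk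

/-! ## The stem extensions of the subgroup `O8+(3):S3`, and of the group -/

theorem esH23 : CFI23Hp3.es.sum = 0 := by decide +kernel

theorem hordH23 : ∀ i < DFI23Hp3.k, Nat.Coprime (DFI23Hp3.ords.getD i 0) 3 :=
  O73Mu.hord_of_chk _ _ (by decide +kernel)

theorem H_bound3 (Γ : Type u) [Group Γ] [Finite Γ] (σ : Γ →* ↥HH)
    (hσ : Cfsg.IsStemExtension σ) (hk : IsPGroup 3 σ.ker) : Nat.card σ.ker ≤ 1 := by
  haveI : Fact (Nat.Prime 3) := ⟨Nat.prime_three⟩
  obtain ⟨Q, iQ, iC, q, hq, hQ, hker⟩ := exists_quot_two ST1 K1 K1_le (by rw [card_ST1, card_K1])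
  have h : Nat.card σ.ker ≤ 3 ^ CFI23Hp3.es.sum * 1 := bound_sets_cyc.{u} fi23H 3 DFI23Hp3 CFI23Hp3
    rfl chk_certFI23Hp3 chk_structFI23Hp3 wsFI23Hp3 pmFI23Hp3 lwFI23Hp3 coreFI23Hp3 (by decide)
    hordH23 masksFI23Hp3 chk_setsFI23Hp3 chk_distinctFI23Hp3 ST1 rfl q K1 K1_le hker K1_perfect 1
    K1_bound3 Γ σ hσ hk
  rw [esH23] at h
  omega

theorem card_HH : Nat.card ↥HH = 29713078886400 := by
  have h := card_ST1_mul
  rw [card_ST1] at h
  have e : Nat.card fi23H.G = Nat.card ↥HH := rfl
  rw [e] at h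
  omega

/-- the kernels of the stem extensions of the presented group `Fi23` which are `3`-groups are
trivial -/
theorem bound3 (Γ : Type u) [Group Γ] [Finite Γ] (σ : Γ →* Fi23)
    (hσ : Cfsg.IsStemExtension σ) (hk : IsPGroup 3 σ.ker) : Nat.card σ.ker ≤ 1 := by
  haveI : Fact (Nat.Prime 3) := ⟨Nat.prime_three⟩
  have hidx : ¬ 3 ∣ (HH : Subgroup fi23Model.G).index := by
    have h := Subgroup.card_mul_index HH
    rw [card_HH] at h
    have h23 : Nat.card Fi23 = 4089470473293004800 := Fi23M.card_Fi23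
    have e : Nat.card fi23Model.G = Nat.card Fi23 := rfl
    rw [e, h23] at h
    have h2 : (HH : Subgroup fi23Model.G).index = 137632 := by omega
    rw [h2]
    norm_num
  exact Cfsg.Agent.Lib.Helper5.StemRes.card_ker_le_of_index_coprime σ hσ 3 hk HH hidx 1 H_bound3

end Cfsg.Agent.Lib.Helper6.Fi23Mu
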