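import Cfsg.Agent.Lib.Helper6.Mult.Fi23B
import Cfsg.Agent.Lib.Helper6.Mult.DCov
import Cfsg.Agent.Lib.Helper6.Mult.U62E3
import Cfsg.Agent.Lib.Helper1.Stem17
import Cfsg.Agent.Lib.Helper1.Stem21
import Cfsg.Agent.S1688
import Cfsg.Agent.S2053

set_option autoImplicit false
set_option maxRecDepth 100000

/-! # The stem extensions of the presented group `Fi23` are trivial -/

namespace Cfsg.Agent.Lib.Helper6.Fi23Mu

open Cfsg.Spor
open Cfsg.Agent.Lib.Helper6.TC Cfsg.Agent.Lib.Helper6.TCD Cfsg.Agent.Lib.Helper6.PM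
open Cfsg.Agent.Lib.Helper1

/-- the subgroup `2.Fi22` generated by the letters `a, …, i` -/
noncomputable abbrev K2 : Subgroup Fi23 := subH TCP.Fi23.Rels Fi23UB.S

theorem dcK2 : Cfsg.IsNonsplitDoubleCover ↥K2 Fi22 := Cfsg.Agent.S1688.result

theorem index_K2 : K2.index = 31671 := Cfsg.Agent.S1689.result.1

theorem card22 : Nat.card Fi22 = 64561751654400 := Cfsg.Agent.S1696.result.2

theorem perfect22 : commutator Fi22 = ⊤ := by
  haveI : IsSimpleGroup Fi22 := Cfsg.Agent.S1696.result.1
  apply U62E3.perfect_of_simple_not_prime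
  rw [card22]
  norm_num

/-- the kernels of the stem extensions of the subgroup `2.Fi22` have orders dividing 3 -/
theorem K2_bound (Γ : Type) [Group Γ] [Finite Γ] (σ : Γ →* ↥K2)
    (hσ : Cfsg.IsStemExtension σ) : Nat.card σ.ker ∣ 3 := by
  haveI : Finite Fi23 := Fi23M.finite_Fi23
  have h : Nat.card σ.ker * 2 ∣ 6 := by
    apply DCov.card_ker_mul_two_dvd dcK2 perfect22 6 ?_ Γ σ hσ
    intro Γ' _ _ τ hτ
    obtain ⟨π, hπ⟩ := Cfsg.Agent.S2053.result.2 Γ' τ hτ
    constructor
    · exact isCyclic_of_surjective π hπ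
    · have h1 := Subgroup.card_mul_index π.ker
      rw [Subgroup.index_ker, MonoidHom.range_eq_top.mpr hπ, Subgroup.card_top] at h1
      have h6 : Nat.card (Multiplicative (ZMod 6)) = 6 := by
        rw [Nat.card_eq_fintype_card]
        rfl
      rw [h6] at h1
      exact ⟨_, by rw [mul_comm]; exact h1.symm⟩
  exact (Nat.mul_dvd_mul_iff_right (by norm_num : 0 < 2)).mp (by simpa using h)

theorem not_sq_dvd (p : ℕ) (hp : p.Prime) (h2 : p ≠ 2) (h3 : p ≠ 3) (h5 : p ≠ 5) :
    ¬ p * p ∣ 4089470473293004800 := by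
  intro h
  have hd : p ∣ 4089470473293004800 := dvd_trans (dvd_mul_right p p) h
  have e : (4089470473293004800 : ℕ) = 2 ^ 18 * 3 ^ 13 * 5 ^ 2 * 7 * 11 * 13 * 17 * 23 := by
    norm_num
  rw [e] at hd
  have key : ∀ q : ℕ, q.Prime → p ∣ q → p = q := fun q hq hpq =>
    (Nat.prime_dvd_prime_iff_eq hp hq).mp hpq
  rcases (Nat.Prime.dvd_mul hp).mp hd with hd | hd
  · rcases (Nat.Prime.dvd_mul hp).mp hd with hd | hd
    · rcases (Nat.Prime.dvd_mul hp).mp hd with hd | hd
      · rcases (Nat.Prime.dvd_mul hp).mp hd with hd | hd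
        · rcases (Nat.Prime.dvd_mul hp).mp hd with hd | hd
          · rcases (Nat.Prime.dvd_mul hp).mp hd with hd | hd
            · rcases (Nat.Prime.dvd_mul hp).mp hd with hd | hd
              · exact h2 (key 2 Nat.prime_two (hp.dvd_of_dvd_pow hd))
              · exact h3 (key 3 Nat.prime_three (hp.dvd_of_dvd_pow hd))
            · exact h5 (key 5 Nat.prime_five (hp.dvd_of_dvd_pow hd))
          · have := key 7 (by norm_num) hd
            subst this
            norm_num at h
        · have := key 11 (by norm_num) hd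
          subst this
          norm_num at h
      · have := key 13 (by norm_num) hd
        subst this
        norm_num at h
    · have := key 17 (by norm_num) hd
      subst this
      norm_num at h
  · have := key 23 (by norm_num) hd
    subst this
    norm_num at h

/-- the kernel of a stem extension of the presented group `Fi23` is trivial -/
theorem card_ker_eq_one (Γ : Type) [Group Γ] [Finite Γ] (σ : Γ →* Fi23)
    (hσ : Cfsg.IsStemExtension σ) : Nat.card σ.ker = 1 := by
  haveI : Finite Fi23 := Fi23M.finite_Fi23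
  have hd : Nat.card σ.ker ∣ 1 := by
    apply Stem.card_dvd_of_primary σ 1 (by norm_num) ?_ hσ
    intro p hp Γ' _ _ σ' hσ' hk
    have hone : Nat.card σ'.ker = 1 := by
      by_cases h3 : p = 3
      · subst h3
        have h1 : Nat.card σ'.ker ≤ 1 := bound3 Γ' σ' hσ' hk
        have h0 : 0 < Nat.card σ'.ker := Nat.card_pos
        omega
      · by_cases h25 : p = 2 ∨ p = 5
        · have hidx : ¬ p ∣ K2.index := by
            rw [index_K2]
            rcases h25 with rfl | rfl <;> norm_num
          have h1 : Nat.card σ'.ker ≤ 1 := by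
            apply Cfsg.Agent.Lib.Helper5.StemRes.card_ker_le_of_index_coprime σ' hσ' p hk K2 hidx 1
            intro Γ'' _ _ σ'' hσ'' hk''
            have hd3 := K2_bound Γ'' σ'' hσ''
            obtain ⟨a, ha⟩ := IsPGroup.iff_card.mp hk''
            rw [ha] at hd3 ⊢
            rcases Nat.eq_zero_or_pos a with h0 | h0
            · rw [h0, pow_zero]
            · exfalso
              have hp3 : p ∣ 3 := dvd_trans (dvd_pow_self p (by omega)) hd3
              exact h3 ((Nat.prime_dvd_prime_iff_eq hp.out Nat.prime_three).mp hp3)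
          have h0 : 0 < Nat.card σ'.ker := Nat.card_pos
          omega
        · push_neg at h25
          apply Stem.card_ker_eq_one_of_not_sq_dvd σ' hσ' p hk
          rw [Fi23M.card_Fi23]
          exact not_sq_dvd p hp.out h25.1 h3 h25.2
    rw [hone]
  exact Nat.eq_one_of_dvd_one hd

/-- the multiplier of the presented group `Fi23` is trivial -/
theorem multiplier : Cfsg.HasCyclicSchurMultiplier Fi23 1 := by
  haveI : Finite Fi23 := Fi23M.finite_Fi23
  apply Stem.hasCyclicSchurMultiplier_of_equiv (MulEquiv.refl Fi23) 1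
  · refine ⟨Fi23, inferInstance, inferInstance, MonoidHom.id Fi23, ?_, ?_, ?_⟩
    · refine ⟨Function.surjective_id, ?_, ?_⟩
      · rw [MonoidHom.ker_id]
        exact bot_le
      · rw [MonoidHom.ker_id]
        exact bot_le
    · rw [MonoidHom.ker_id]
      exact isCyclic_of_subsingleton
    · rw [MonoidHom.ker_id]
      exact Subgroup.card_bot
  · intro Γ _ _ σ hσ
    have h1 := card_ker_eq_one Γ σ hσ
    constructor
    · haveI : Subsingleton σ.ker := (Nat.card_eq_one_iff_unique.mp h1).1
      exact isCyclic_of_subsingleton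
    · rw [h1]

end Cfsg.Agent.Lib.Helper6.Fi23Mu
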