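import Cfsg.Agent.Lib.Helper6.Mult.PM4
import Cfsg.Agent.Lib.Helper6.Mult.PM5
import Cfsg.Agent.Lib.Helper6.MultD.HESML
import Cfsg.Agent.Lib.Helper6.MultD.HEp2L
import Cfsg.Agent.Lib.Helper6.MultD.HEp2H
import Cfsg.Agent.Lib.Helper6.MultD.HEp3D
import Cfsg.Agent.Lib.Helper6.MultD.HEp5D
import Cfsg.Agent.Lib.Helper6.MultD.HEp7D
import Cfsg.Agent.Lib.Helper6.Spor.HeS44
import Cfsg.Agent.Lib.Helper6.Spor.S44Simple

set_option autoImplicit false
set_option maxRecDepth 100000

/-! # The presented group `He`: the stabilizer `S4(4):2` of a point and its subgroup `S4(4)` -/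

namespace Cfsg.Agent.Lib.Helper6.HeM

open Cfsg.Spor Cfsg.Agent.Lib.Helper6.TC Cfsg.Agent.Lib.Helper6.TCD Cfsg.Agent.Lib.Helper6.PM
open Cfsg.Agent.Lib.Helper6.MultD Cfsg.Agent.Lib.Helper6.Simp
open Cfsg.Agent.Lib.Helper1 Cfsg.Agent.Lib.Helper1.MatCode Cfsg.Agent.Lib.Helper1.StemSA

theorem card_heModel : Nat.card heModel.G = 4030387200 := card_He

/-- the stabilizer of the first point, a group `S4(4):2` -/
noncomputable abbrev K : Subgroup heModel.G := MulAction.stabilizer heModel.G (0 : Fin heModel.n)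

theorem PL_zero : PLHEp2 0 = 0 ∧ PLHEp3 0 = 0 ∧ PLHEp5 0 = 0 ∧ PLHEp7 0 = 0 := by decide +kernel

theorem pt_zero (PL : ℕ → ℕ) (h : PL 0 = 0) : pt heModel PL 0 = (0 : Fin heModel.n) := by
  unfold pt
  rw [h]
  rfl

theorem card_K : Nat.card K = 1958400 := by
  have h := card_stab_pts heModel DHEp2 chk_structHEp2 wsHEp2 pmHEp2 lwHEp2 coreHEp2
    (by decide) PLHEp2 PLIHEp2 chk_ptsHEp2
  rw [pt_zero PLHEp2 PL_zero.1, card_heModel] at h
  have e : DHEp2.m = 2058 := rfl
  rw [e] at h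
  change Nat.card K * 2058 = 4030387200 at h
  omega

/-- the subgroup `S4(4)` -/
noncomputable abbrev K1 : Subgroup heModel.G := PM.subH heModel wsHESM

theorem fixHESM : ∀ i < 8, pmHESM i 0 = 0 := by decide +kernel

theorem K1_le_K : K1 ≤ K := by
  unfold K1 PM.subH
  rw [Subgroup.closure_le]
  rintro _ ⟨i, hi, rfl⟩
  rw [SetLike.mem_coe, MulAction.mem_stabilizer_iff]
  apply heModel.elt_smul
  · apply tabHESM.1
    rw [List.getD_eq_getElem _ _ hi]
    exact List.getElem_mem _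
  · have h := tabHESM.2 i hi 0 (by decide)
    rw [fixHESM i hi] at h
    exact h

theorem ws_cw : ∀ i < 8, wsHESM.getD i [] = HeS44.cw i := by
  intro i hi
  interval_cases i <;> rfl

/-- the subgroup is the image of the presented group `S44` -/
theorem K1_eq_range : K1 = HeS44.psi.range := by
  unfold K1 PM.subH
  rw [MonoidHom.range_eq_map, ← PresentedGroup.closure_range_of, MonoidHom.map_closure]
  congr 1
  ext g
  simp only [Set.mem_setOf_eq, Set.mem_image, Set.mem_range]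
  constructor
  · rintro ⟨i, hi, rfl⟩
    have hi' : i < 8 := hi
    refine ⟨_, ⟨⟨i, hi'⟩, rfl⟩, ?_⟩
    have := wpHomW_of HeS44.cw TCP.S44.hbl HeS44.hrel ⟨i, hi'⟩
    rw [ws_cw i hi']
    exact this
  · rintro ⟨_, ⟨i, rfl⟩, rfl⟩
    refine ⟨i.val, i.isLt, ?_⟩
    have := wpHomW_of HeS44.cw TCP.S44.hbl HeS44.hrel i
    rw [ws_cw i.val i.isLt]
    exact this

/-- the isomorphism of the presented group `S44` with the subgroup -/
noncomputable def equivK1 : TCP.S44.G ≃* ↥K1 :=
  (MonoidHom.ofInjective HeS44.psi_injective).trans (MulEquiv.subgroupCongr K1_eq_range.symm)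

theorem card_K1 : Nat.card ↥K1 = 979200 := by
  rw [← Nat.card_congr equivK1.toEquiv]
  exact S44Simple.simple.2

theorem card_heS : Nat.card heS.G = 979200 := card_K1

theorem comm_chk : wapp Hea.px [2, 3] 1 ≠ wapp Hea.px [3, 2] 1 := by decide +kernel

theorem K1_perfect : commutator ↥K1 = ⊤ := by
  haveI : IsSimpleGroup TCP.S44.G := S44Simple.simple.1
  haveI : IsSimpleGroup ↥K1 := equivK1.symm.isSimpleGroup
  have h1 : heModel.elt (wsHESM.getD 1 []) ∈ K1 := Subgroup.subset_closure ⟨1, by decide, rfl⟩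
  have h2 : heModel.elt (wsHESM.getD 2 []) ∈ K1 := Subgroup.subset_closure ⟨2, by decide, rfl⟩
  apply perfect_of_simple (⟨_, h1⟩ : ↥K1) ⟨_, h2⟩
  intro h
  have h' : heModel.elt [2] * heModel.elt [3] = heModel.elt [3] * heModel.elt [2] :=
    congrArg Subtype.val h
  rw [← heModel.elt_append, ← heModel.elt_append] at h'
  have e1 := heModel.phi_inv_val ([2] ++ [3]) (by decide) ⟨1, by decide⟩
  have e2 := heModel.phi_inv_val ([3] ++ [2]) (by decide) ⟨1, by decide⟩
  rw [h'] at e1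
  exact comm_chk (e1.symm.trans e2)

/-- the quotient of order two of the stabilizer by the subgroup -/
theorem exists_quot : ∃ (Q : Type) (_ : Group Q) (_ : IsCyclic Q) (q : K →* Q),
    Function.Surjective q ∧ Nat.card Q = 2 ^ 1 ∧ ∀ k : K, q k = 1 ↔ (k : heModel.G) ∈ K1 :=
  exists_quot_two K K1 K1_le_K (by rw [card_K, card_K1])

end Cfsg.Agent.Lib.Helper6.HeM
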