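import Cfsg.Agent.Lib.Helper6.Mult.HeB
import Cfsg.Agent.Lib.Helper6.MultD.HELp2X
import Cfsg.Agent.Lib.Helper6.MultD.HELp2L
import Cfsg.Agent.Lib.Helper6.MultD.HESp2L
import Cfsg.Agent.Lib.Helper6.MultD.HESp2S
import Cfsg.Agent.Lib.Helper6.MultD.HESp2H
import Cfsg.Agent.Lib.Helper6.MultD.HELp2H

set_option autoImplicit false
set_option maxRecDepth 100000

/-! # The presented group `He`: the subgroup `L2(16)` of the subgroup `S4(4)` -/

namespace Cfsg.Agent.Lib.Helper6.HeM

open Cfsg.Spor Cfsg.Agent.Lib.Helper6.TC Cfsg.Agent.Lib.Helper6.TCD Cfsg.Agent.Lib.Helper6.PM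
open Cfsg.Agent.Lib.Helper6.MultD Cfsg.Agent.Lib.Helper6.Simp
open Cfsg.Agent.Lib.Helper1 Cfsg.Agent.Lib.Helper1.MatCode Cfsg.Agent.Lib.Helper1.StemSA

open scoped Pointwise

/-- the stabilizer of the first set in the subgroup `S4(4)`, a group `L2(16):2` -/
noncomputable abbrev KS : Subgroup heS.G := MulAction.stabilizer heS.G (ptS heS masksHESp2 0)

theorem card_KS : Nat.card KS = 8160 := by
  have h := card_stab_sets heS DHESp2 chk_structHESp2 wsHESp2 pmHESp2 lwHESp2 coreHESp2
    (by decide) masksHESp2 chk_setsHESp2 chk_distinctHESp2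
  rw [card_heS] at h
  have e : DHESp2.m = 120 := rfl
  rw [e] at h
  change Nat.card KS * 120 = 979200 at h
  omega

/-- the subgroup `L2(16)` -/
noncomputable abbrev K2 : Subgroup heS.G := PM.subH heS wsmHELp2

theorem wsm_lt (i : ℕ) (hi : i < wsmHELp2.length) : ∀ c ∈ wsmHELp2.getD i [], c < heS.nl := by
  apply tabHELM.1
  rw [List.getD_eq_getElem _ _ hi]
  exact List.getElem_mem _

theorem K2_le_KS : K2 ≤ KS := by
  unfold K2 PM.subH
  rw [Subgroup.closure_le]
  rintro _ ⟨i, hi, rfl⟩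
  rw [SetLike.mem_coe, MulAction.mem_stabilizer_iff]
  have h := chk_fixO
  simp only [List.all_eq_true, List.mem_range, beq_iff_eq] at h
  have hi' : i < 2 := hi
  exact elt_smul_maskSet heS _ (wsm_lt i hi) (pmHELp2 i) (tabHELM.2 i hi) _ _
    (fun q hq => h i hi' q hq)

/-- the element of the stabilizer which is not in the subgroup -/
noncomputable def gc' : heS.G := heS.elt cwHELp2

theorem cw_facts : (∀ c ∈ cwHELp2, c < heS.nl) ∧
    ∀ q < heS.n, wapp heS.px cwHELp2 q = ctHELp2 q := by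
  have h := chk_ct
  simp only [Bool.and_eq_true, List.all_eq_true, decide_eq_true_eq, List.mem_range, beq_iff_eq,
    wappS_eq] at h
  exact h

theorem gc'_mem_KS : gc' ∈ KS := by
  rw [MulAction.mem_stabilizer_iff]
  have h := chk_cO
  simp only [Bool.and_eq_true, List.all_eq_true, List.mem_range, beq_iff_eq] at h
  exact elt_smul_maskSet heS _ cw_facts.1 ctHELp2 cw_facts.2 _ _ (fun q hq => (h q hq).1)

theorem K2_le_fam : K2 ≤ MulAction.stabilizer heS.G (family heS famHELp2 136) := by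
  apply subH_le_stabilizer_family heS wsmHELp2 pmHELp2 famHELp2 136 piFHELp2 tabHELM
  · intro i hi
    have hi' : i < 2 := hi
    interval_cases i
    · exact chk_famHELp2_0
    · exact chk_famHELp2_1
  · intro i hi j hj
    have h := chk_piF
    simp only [List.all_eq_true, List.mem_range, decide_eq_true_eq] at h
    exact h i hi j hj

theorem gc'_not_mem_fam : gc' ∉ MulAction.stabilizer heS.G (family heS famHELp2 136) := by
  have h := chk_cO
  simp only [Bool.and_eq_true, List.all_eq_true, List.mem_range, beq_iff_eq] at h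
  have h2 := chk_cm
  simp only [List.all_eq_true, List.mem_range, bne_iff_ne, ne_eq] at h2
  apply not_mem_stabilizer_family heS famHELp2 136 gc' cmHELp2 (by norm_num)
  · exact elt_smul_maskSet heS _ cw_facts.1 ctHELp2 cw_facts.2 _ _ (fun q hq => (h q hq).2)
  · intro j hj
    exact h2 j hj

theorem K2_ne_KS : K2 ≠ KS := by
  intro h
  apply gc'_not_mem_fam
  apply K2_le_fam
  rw [h]
  exact gc'_mem_KS

/-! ## The stabilizer of a point in the subgroup `L2(16)` -/

/-- the generators of the subgroup `L2(16)` -/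
noncomputable abbrev gsL : List heL.G := gs heL wsHELp2

theorem hgenL : Subgroup.closure {g : heL.G | ∃ i < DHELp2.k, g = gsL.getD i 1} = ⊤ :=
  hgen heL DHELp2 wsHELp2 pmHELp2 lwHELp2 coreHELp2

theorem pi_actL : ∀ i < DHELp2.k, ∀ j < DHELp2.m,
    gsL.getD i 1 • pt heL PLHELp2 j = pt heL PLHELp2 (DHELp2.pi i j) :=
  pi_act heL DHELp2 wsHELp2 pmHELp2 PLHELp2 PLIHELp2 coreHELp2.2.1 coreHELp2.1 chk_structHELp2
    chk_ptsHELp2

theorem ptL_inj : ∀ j < DHELp2.m, ∀ j' < DHELp2.m,
    pt heL PLHELp2 j = pt heL PLHELp2 j' → j = j' :=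
  pt_inj heL DHELp2 wsHELp2 pmHELp2 PLHELp2 PLIHELp2 chk_ptsHELp2

/-- the stabilizer of the first point, a dihedral group of order 30 -/
noncomputable abbrev KL : Subgroup heL.G := MulAction.stabilizer heL.G (pt heL PLHELp2 0)

theorem card_KL_mul : Nat.card KL * 136 = Nat.card heL.G :=
  card_stab_pts heL DHELp2 chk_structHELp2 wsHELp2 pmHELp2 lwHELp2 coreHELp2 (by decide)
    PLHELp2 PLIHELp2 chk_ptsHELp2

/-- the element of order 15 and the involution of the stabilizer -/
noncomputable def g15 : heL.G := wordProd gsL w15HELp2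

noncomputable def g2 : heL.G := wordProd gsL w2HELp2

theorem w_lt : (∀ i ∈ w15HELp2, i < DHELp2.k) ∧ (∀ i ∈ w2HELp2, i < DHELp2.k) := by decide

theorem wordProd_smulL (w : List ℕ) (hw : ∀ i ∈ w, i < DHELp2.k) (j : ℕ) (hj : j < DHELp2.m) :
    DHELp2.actW w j < DHELp2.m ∧
      wordProd gsL w • pt heL PLHELp2 j = pt heL PLHELp2 (DHELp2.actW w j) :=
  StemZB.smul_wordProd DHELp2 chk_structHELp2 (pt heL PLHELp2) gsL pi_actL w hw j hj

theorem g15_mem : g15 ∈ KL := by
  rw [MulAction.mem_stabilizer_iff]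
  have h := (wordProd_smulL w15HELp2 w_lt.1 0 (by decide)).2
  rw [chk_stabL.1] at h
  exact h

theorem g2_mem : g2 ∈ KL := by
  rw [MulAction.mem_stabilizer_iff]
  have h := (wordProd_smulL w2HELp2 w_lt.2 0 (by decide)).2
  rw [chk_stabL.2.1] at h
  exact h

theorem ne_one_of_move (w : List ℕ) (hw : ∀ i ∈ w, i < DHELp2.k) (j : ℕ) (hj : j < DHELp2.m)
    (h : DHELp2.actW w j ≠ j) : wordProd gsL w ≠ 1 := by
  intro h1
  obtain ⟨hlt, hact⟩ := wordProd_smulL w hw j hj
  rw [h1, one_smul] at hact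
  exact h (ptL_inj _ hj _ hlt hact).symm

theorem eq_one_of_pm (w : List ℕ) (hw : ∀ i ∈ w, i < DHELp2.k)
    (h : ∀ q < heL.n, wapp pmHELp2 w q = q) : wordProd gsL w = 1 := by
  have h1 := wordProd_eq_of_pm heL DHELp2 wsHELp2 pmHELp2 lwHELp2 coreHELp2 w [] hw (by simp)
    (fun q hq => by rw [h q hq]; rfl)
  rwa [wordProd_nil] at h1

theorem g2_sq : g2 ^ 2 = 1 := by
  have h := chk_w2
  simp only [List.all_eq_true, List.mem_range, beq_iff_eq, wappS_eq] at h
  have h1 := eq_one_of_pm (w2HELp2 ++ w2HELp2) (by decide) h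
  rw [wordProd_append] at h1
  rw [pow_two]
  exact h1

theorem orderOf_g2 : orderOf g2 = 2 := by
  haveI : Fact (Nat.Prime 2) := ⟨by norm_num⟩
  exact orderOf_eq_prime g2_sq (ne_one_of_move w2HELp2 w_lt.2 1 (by decide) chk_stabL.2.2.1)

theorem wordProd_flatten_replicate (w : List ℕ) (n : ℕ) :
    wordProd gsL (List.replicate n w).flatten = (wordProd gsL w) ^ n := by
  induction n with
  | zero => simp [wordProd_nil]
  | succ k ih => rw [List.replicate_succ, List.flatten_cons, wordProd_append, ih, pow_succ']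

theorem g15_pow : g15 ^ 15 = 1 := by
  have h := chk_w15
  simp only [List.all_eq_true, List.mem_range, beq_iff_eq, wappS_eq] at h
  have h1 := eq_one_of_pm (List.replicate 15 w15HELp2).flatten (by decide) h
  rwa [wordProd_flatten_replicate] at h1

theorem g15_pow3 : g15 ^ 3 ≠ 1 := by
  have h := ne_one_of_move (w15HELp2 ++ w15HELp2 ++ w15HELp2) (by decide) 1 (by decide)
    chk_stabL.2.2.2.1
  rw [wordProd_append, wordProd_append] at h
  intro h3
  apply h
  rw [← h3]
  show g15 * g15 * g15 = g15 ^ 3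
  rw [pow_succ, pow_two]

theorem g15_pow5 : g15 ^ 5 ≠ 1 := by
  have h := ne_one_of_move (w15HELp2 ++ w15HELp2 ++ w15HELp2 ++ w15HELp2 ++ w15HELp2) (by decide)
    1 (by decide) chk_stabL.2.2.2.2
  rw [wordProd_append, wordProd_append, wordProd_append, wordProd_append] at h
  intro h5
  apply h
  rw [← h5]
  show g15 * g15 * g15 * g15 * g15 = g15 ^ 5
  rw [pow_succ, pow_succ, pow_succ, pow_two]

theorem orderOf_g15 : orderOf g15 = 15 := by
  have hd : orderOf g15 ∣ 15 := orderOf_dvd_of_pow_eq_one g15_pow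
  have hmem : orderOf g15 ∈ Nat.divisors 15 := Nat.mem_divisors.mpr ⟨hd, by norm_num⟩
  have e : Nat.divisors 15 = {1, 3, 5, 15} := by decide
  rw [e] at hmem
  simp only [Finset.mem_insert, Finset.mem_singleton] at hmem
  rcases hmem with h | h | h | h
  · exfalso
    apply g15_pow3
    rw [orderOf_eq_one_iff.mp h, one_pow]
  · exfalso
    apply g15_pow3
    rw [← h]
    exact pow_orderOf_eq_one g15
  · exfalso
    apply g15_pow5
    rw [← h]
    exact pow_orderOf_eq_one g15
  · exact h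

theorem dvd_card_KL : 30 ∣ Nat.card KL := by
  have h15 : 15 ∣ Nat.card KL := by
    have := Subgroup.orderOf_dvd_natCard KL g15_mem
    rwa [orderOf_g15] at this
  have h2 : 2 ∣ Nat.card KL := by
    have := Subgroup.orderOf_dvd_natCard KL g2_mem
    rwa [orderOf_g2] at this
  exact Nat.Coprime.mul_dvd_of_dvd_of_dvd (by norm_num) h2 h15

theorem card_K2 : Nat.card ↥K2 = 4080 := by
  apply card_eq_of_dvd_of_ne KS K2 K2_le_KS K2_ne_KS 4080 (by rw [card_KS])
  have h := card_KL_mul
  obtain ⟨c, hc⟩ := dvd_card_KL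
  have e : Nat.card ↥K2 = Nat.card heL.G := rfl
  rw [e, ← h, hc]
  exact ⟨c, by ring⟩

theorem card_heL : Nat.card heL.G = 4080 := card_K2

theorem card_KL : Nat.card KL = 30 := by
  have h := card_KL_mul
  rw [card_heL] at h
  omega

/-- the subgroup `L2(16)` is perfect -/
theorem K2_perfect : commutator ↥K2 = ⊤ := by
  have hx : (gsL.getD 0 1) ^ 3 = 1 :=
    hpow heL DHELp2 wsHELp2 pmHELp2 lwHELp2 coreHELp2 0 (by decide)
  have hy : (gsL.getD 1 1) ^ 17 = 1 :=
    hpow heL DHELp2 wsHELp2 pmHELp2 lwHELp2 coreHELp2 1 (by decide)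
  have hr : wordProd gsL [1, 0, 1] = wordProd gsL [0, 0] :=
    hrel heL DHELp2 wsHELp2 pmHELp2 lwHELp2 chk_structHELp2 coreHELp2 ([1, 0, 1], [0, 0])
      (by decide)
  simp only [wordProd_cons, wordProd_nil, mul_one] at hr
  show commutator heL.G = ⊤
  apply perfect_of_coprime (gsL.getD 0 1) (gsL.getD 1 1) ?_ 3 17 2 hx hy ?_
    (by norm_num) (by norm_num) (by norm_num)
  · rw [← hgenL]
    congr 1
    ext g
    simp only [Set.mem_insert_iff, Set.mem_singleton_iff, Set.mem_ofPred_eq]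
    constructor
    · rintro (rfl | rfl)
      · exact ⟨0, by decide, rfl⟩
      · exact ⟨1, by decide, rfl⟩
    · rintro ⟨i, hi, rfl⟩
      have hi' : i < 2 := hi
      interval_cases i
      · exact Or.inl rfl
      · exact Or.inr rfl
  · rw [pow_two]
    calc gsL.getD 0 1 * gsL.getD 1 1 * (gsL.getD 0 1 * gsL.getD 1 1)
        = gsL.getD 0 1 * (gsL.getD 1 1 * gsL.getD 0 1 * gsL.getD 1 1) := by group
      _ = gsL.getD 0 1 * (gsL.getD 0 1 * gsL.getD 0 1) := by rw [mul_assoc (gsL.getD 1 1), hr]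
      _ = (gsL.getD 0 1) ^ 3 := by rw [pow_succ, pow_two, mul_assoc]
      _ = 1 := hx

/-- the quotient of order two of the stabilizer by the subgroup -/
theorem exists_quotS : ∃ (Q : Type) (_ : Group Q) (_ : IsCyclic Q) (q : KS →* Q),
    Function.Surjective q ∧ Nat.card Q = 2 ^ 1 ∧ ∀ k : KS, q k = 1 ↔ (k : heS.G) ∈ K2 :=
  exists_quot_two KS K2 K2_le_KS (by rw [card_KS, card_K2])

end Cfsg.Agent.Lib.Helper6.HeM
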