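import Cfsg.Agent.Lib.Helper6.Mult.HeC
import Cfsg.Agent.Lib.Helper6.MultD.HELp2I
import Cfsg.Agent.Lib.Helper6.MultD.HESp2I
import Cfsg.Agent.Lib.Helper6.MultD.HESp3I
import Cfsg.Agent.Lib.Helper6.MultD.HESp5I
import Cfsg.Agent.Lib.Helper6.MultD.HESp3L
import Cfsg.Agent.Lib.Helper6.MultD.HESp5L
import Cfsg.Agent.Lib.Helper6.MultD.HESp3S
import Cfsg.Agent.Lib.Helper6.MultD.HESp5S
import Cfsg.Agent.Lib.Helper6.MultD.HEp2I
import Cfsg.Agent.Lib.Helper6.MultD.HEp3I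
import Cfsg.Agent.Lib.Helper6.MultD.HEp5I
import Cfsg.Agent.Lib.Helper6.MultD.HEp7I
import Cfsg.Agent.Lib.Helper6.MultD.HEp3L
import Cfsg.Agent.Lib.Helper6.MultD.HEp5L
import Cfsg.Agent.Lib.Helper6.MultD.HEp7L
import Cfsg.Agent.Lib.Helper1.Stem14
import Cfsg.Agent.Lib.Helper1.Stem17
import Cfsg.Agent.Lib.Helper1.Stem21

set_option autoImplicit false
set_option maxRecDepth 100000

/-! # The Schur multiplier of the presented group `He` is trivial -/

namespace Cfsg.Agent.Lib.Helper6.HeM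

open Cfsg.Spor Cfsg.Agent.Lib.Helper6.TC Cfsg.Agent.Lib.Helper6.TCD Cfsg.Agent.Lib.Helper6.PM
open Cfsg.Agent.Lib.Helper6.MultD Cfsg.Agent.Lib.Helper6.Simp
open Cfsg.Agent.Lib.Helper1 Cfsg.Agent.Lib.Helper1.MatCode Cfsg.Agent.Lib.Helper1.StemSA

open scoped Pointwise

universe u

/-- the orders of the generators are coprime to the prime -/
theorem hord_of_chk (D : SAData) (p : ℕ)
    (h : ((List.range D.k).all fun i => Nat.gcd (D.ords.getD i 0) p == 1) = true) :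
    ∀ i < D.k, Nat.Coprime (D.ords.getD i 0) p := by
  simp only [List.all_eq_true, List.mem_range, beq_iff_eq] at h
  exact h

theorem hordAll : (∀ i < DHELp2.k, Nat.Coprime (DHELp2.ords.getD i 0) 2) ∧
    (∀ i < DHESp2.k, Nat.Coprime (DHESp2.ords.getD i 0) 2) ∧
    (∀ i < DHESp3.k, Nat.Coprime (DHESp3.ords.getD i 0) 3) ∧
    (∀ i < DHESp5.k, Nat.Coprime (DHESp5.ords.getD i 0) 5) ∧
    (∀ i < DHEp2.k, Nat.Coprime (DHEp2.ords.getD i 0) 2) ∧
    (∀ i < DHEp3.k, Nat.Coprime (DHEp3.ords.getD i 0) 3) ∧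
    (∀ i < DHEp5.k, Nat.Coprime (DHEp5.ords.getD i 0) 5) ∧
    (∀ i < DHEp7.k, Nat.Coprime (DHEp7.ords.getD i 0) 7) :=
  ⟨hord_of_chk _ _ (by decide +kernel), hord_of_chk _ _ (by decide +kernel),
    hord_of_chk _ _ (by decide +kernel), hord_of_chk _ _ (by decide +kernel),
    hord_of_chk _ _ (by decide +kernel), hord_of_chk _ _ (by decide +kernel),
    hord_of_chk _ _ (by decide +kernel), hord_of_chk _ _ (by decide +kernel)⟩

theorem esAll : CHELp2.es.sum = 1 ∧ CHESp2.es.sum = 1 ∧ CHESp3.es.sum = 0 ∧ CHESp5.es.sum = 0 ∧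
    CHEp2.es.sum = 1 ∧ CHEp3.es.sum = 0 ∧ CHEp5.es.sum = 0 ∧ CHEp7.es.sum = 0 := by
  decide +kernel

/-! ## The stem extensions of the subgroup `L2(16)` -/

/-- the involution, in the stabilizer of a point of the orbit of 136 points -/
noncomputable def c2 : KL := ⟨g2, g2_mem⟩

/-- the element of order 15, in the stabilizer of a point of the orbit of 136 points -/
noncomputable def c15 : KL := ⟨g15, g15_mem⟩

theorem orderOf_c2 : orderOf c2 = 2 ^ 1 := by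
  rw [pow_one, ← orderOf_g2]
  exact Subgroup.orderOf_mk g2 g2_mem

/-- the subgroup of order 15 of the stabilizer -/
noncomputable def NL : Subgroup KL := Subgroup.zpowers c15

theorem card_NL : Nat.card NL = 15 := by
  rw [NL, Nat.card_zpowers, ← orderOf_g15]
  exact Subgroup.orderOf_mk _ g15_mem

theorem index_NL : NL.index = 2 := by
  have h := Subgroup.card_mul_index NL
  rw [card_NL, card_KL] at h
  omega

instance NL_normal : NL.Normal := Subgroup.normal_of_index_eq_two index_NL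

theorem comm_quot_NL : ∀ x y : KL ⧸ NL, x * y = y * x :=
  comm_of_card_two (by rw [← Subgroup.index_eq_card, index_NL])

/-- a stem extension of the subgroup `L2(16)` whose kernel is a 2-group is trivial -/
theorem K2_bound2 (Γ' : Type u) [Group Γ'] [Finite Γ'] (σ' : Γ' →* ↥K2)
    (hσ' : Cfsg.IsStemExtension σ') (hk : IsPGroup 2 σ'.ker) : Nat.card σ'.ker ≤ 1 := by
  haveI : Fact (Nat.Prime 2) := ⟨Nat.prime_two⟩
  have h : Nat.card σ'.ker * 2 ^ 1 ≤ 2 ^ CHELp2.es.sum := bound_pts_powP.{u} heL 2 DHELp2 CHELp2 rfl chk_certHELp2 chk_structHELp2 wsHELp2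
    pmHELp2 lwHELp2 coreHELp2 (by decide) hordAll.1 PLHELp2 PLIHELp2 chk_ptsHELp2 1 15
    (by norm_num) (by norm_num) KL rfl (by rw [card_KL]; norm_num) c2 orderOf_c2 NL card_NL
    comm_quot_NL Γ' σ' hσ' hk
  rw [esAll.1] at h
  omega

/-- a stem extension of the subgroup `L2(16)` whose kernel is a 3-group is trivial -/
theorem K2_bound3 (Γ' : Type u) [Group Γ'] [Finite Γ'] (σ' : Γ' →* ↥K2)
    (hσ' : Cfsg.IsStemExtension σ') (hk : IsPGroup 3 σ'.ker) : Nat.card σ'.ker ≤ 1 := by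
  haveI : Fact (Nat.Prime 3) := ⟨Nat.prime_three⟩
  have h : Nat.card σ'.ker = 1 :=
    Stem.card_ker_eq_one_of_not_sq_dvd σ' hσ' 3 hk (by rw [card_K2]; norm_num)
  omega

/-- a stem extension of the subgroup `L2(16)` whose kernel is a 5-group is trivial -/
theorem K2_bound5 (Γ' : Type u) [Group Γ'] [Finite Γ'] (σ' : Γ' →* ↥K2)
    (hσ' : Cfsg.IsStemExtension σ') (hk : IsPGroup 5 σ'.ker) : Nat.card σ'.ker ≤ 1 := by
  haveI : Fact (Nat.Prime 5) := ⟨Nat.prime_five⟩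
  have h : Nat.card σ'.ker = 1 :=
    Stem.card_ker_eq_one_of_not_sq_dvd σ' hσ' 5 hk (by rw [card_K2]; norm_num)
  omega

/-! ## The stem extensions of the subgroup `S4(4)` -/

theorem KS_eq3 : KS = MulAction.stabilizer heS.G (ptS heS masksHESp3 0) := by
  unfold KS ptS
  rw [chk_masks0.1]

theorem KS_eq5 : KS = MulAction.stabilizer heS.G (ptS heS masksHESp5 0) := by
  unfold KS ptS
  rw [chk_masks0.2]

/-- a stem extension of the subgroup `S4(4)` whose kernel is a 2-group is trivial -/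
theorem K1_bound2 (Γ' : Type u) [Group Γ'] [Finite Γ'] (σ' : Γ' →* ↥K1)
    (hσ' : Cfsg.IsStemExtension σ') (hk : IsPGroup 2 σ'.ker) : Nat.card σ'.ker ≤ 1 := by
  haveI : Fact (Nat.Prime 2) := ⟨Nat.prime_two⟩
  obtain ⟨Q, iQ, iC, q, hq, hQ, hker⟩ := exists_quotS
  have h : Nat.card σ'.ker * 2 ^ 1 ≤ 2 ^ CHESp2.es.sum * 1 := bound_sets_n2.{u} heS 2 DHESp2 CHESp2 rfl chk_certHESp2 chk_structHESp2 wsHESp2
    pmHESp2 lwHESp2 coreHESp2 (by decide) hordAll.2.1 masksHESp2 chk_setsHESp2 chk_distinctHESp2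
    KS rfl q hq 1 hQ K2 K2_le_KS hker K2_perfect 1 K2_bound2 Γ' σ' hσ' hk
  rw [esAll.2.1] at h
  omega

/-- a stem extension of the subgroup `S4(4)` whose kernel is a 3-group is trivial -/
theorem K1_bound3 (Γ' : Type u) [Group Γ'] [Finite Γ'] (σ' : Γ' →* ↥K1)
    (hσ' : Cfsg.IsStemExtension σ') (hk : IsPGroup 3 σ'.ker) : Nat.card σ'.ker ≤ 1 := by
  haveI : Fact (Nat.Prime 3) := ⟨Nat.prime_three⟩
  obtain ⟨Q, iQ, iC, q, hq, hQ, hker⟩ := exists_quotS
  have h : Nat.card σ'.ker ≤ 3 ^ CHESp3.es.sum * 1 := bound_sets_cyc.{u} heS 3 DHESp3 CHESp3 rfl chk_certHESp3 chk_structHESp3 wsHESp3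
    pmHESp3 lwHESp3 coreHESp3 (by decide) hordAll.2.2.1 masksHESp3 chk_setsHESp3
    chk_distinctHESp3 KS KS_eq3 q K2 K2_le_KS hker K2_perfect 1 K2_bound3 Γ' σ' hσ' hk
  rw [esAll.2.2.1] at h
  omega

/-- a stem extension of the subgroup `S4(4)` whose kernel is a 5-group is trivial -/
theorem K1_bound5 (Γ' : Type u) [Group Γ'] [Finite Γ'] (σ' : Γ' →* ↥K1)
    (hσ' : Cfsg.IsStemExtension σ') (hk : IsPGroup 5 σ'.ker) : Nat.card σ'.ker ≤ 1 := by
  haveI : Fact (Nat.Prime 5) := ⟨Nat.prime_five⟩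
  obtain ⟨Q, iQ, iC, q, hq, hQ, hker⟩ := exists_quotS
  have h : Nat.card σ'.ker ≤ 5 ^ CHESp5.es.sum * 1 := bound_sets_cyc.{u} heS 5 DHESp5 CHESp5 rfl chk_certHESp5 chk_structHESp5 wsHESp5
    pmHESp5 lwHESp5 coreHESp5 (by decide) hordAll.2.2.2.1 masksHESp5 chk_setsHESp5
    chk_distinctHESp5 KS KS_eq5 q K2 K2_le_KS hker K2_perfect 1 K2_bound5 Γ' σ' hσ' hk
  rw [esAll.2.2.2.1] at h
  omega

/-- a stem extension of the subgroup `S4(4)` whose kernel is a 7-group is trivial -/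
theorem K1_bound7 (Γ' : Type u) [Group Γ'] [Finite Γ'] (σ' : Γ' →* ↥K1)
    (hσ' : Cfsg.IsStemExtension σ') (hk : IsPGroup 7 σ'.ker) : Nat.card σ'.ker ≤ 1 := by
  haveI : Fact (Nat.Prime 7) := ⟨by norm_num⟩
  have h : Nat.card σ'.ker = 1 :=
    Stem.card_ker_eq_one_of_not_sq_dvd σ' hσ' 7 hk (by rw [card_K1]; norm_num)
  omega

/-! ## The stem extensions of the group -/

/-- a stem extension of the group whose kernel is a 2-group is trivial -/
theorem bound2 (Γ : Type u) [Group Γ] [Finite Γ] (σ : Γ →* heModel.G)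
    (hσ : Cfsg.IsStemExtension σ) (hk : IsPGroup 2 σ.ker) : Nat.card σ.ker = 1 := by
  haveI : Fact (Nat.Prime 2) := ⟨Nat.prime_two⟩
  obtain ⟨Q, iQ, iC, q, hq, hQ, hker⟩ := exists_quot
  have h : Nat.card σ.ker * 2 ^ 1 ≤ 2 ^ CHEp2.es.sum * 1 := bound_pts_n2.{u} heModel 2 DHEp2 CHEp2 rfl chk_certHEp2 chk_structHEp2 wsHEp2
    pmHEp2 lwHEp2 coreHEp2 (by decide) hordAll.2.2.2.2.1 PLHEp2 PLIHEp2 chk_ptsHEp2
    K (by rw [pt_zero PLHEp2 PL_zero.1]) q hq 1 hQ K1 K1_le_K hker K1_perfect 1 K1_bound2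
    Γ σ hσ hk
  rw [esAll.2.2.2.2.1] at h
  have hpos : 0 < Nat.card σ.ker := Nat.card_pos
  omega

/-- a stem extension of the group whose kernel is a 3-group is trivial -/
theorem bound3 (Γ : Type u) [Group Γ] [Finite Γ] (σ : Γ →* heModel.G)
    (hσ : Cfsg.IsStemExtension σ) (hk : IsPGroup 3 σ.ker) : Nat.card σ.ker = 1 := by
  haveI : Fact (Nat.Prime 3) := ⟨Nat.prime_three⟩
  obtain ⟨Q, iQ, iC, q, hq, hQ, hker⟩ := exists_quot
  have h : Nat.card σ.ker ≤ 3 ^ CHEp3.es.sum * 1 := bound_pts_cyc.{u} heModel 3 DHEp3 CHEp3 rfl chk_certHEp3 chk_structHEp3 wsHEp3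
    pmHEp3 lwHEp3 coreHEp3 (by decide) hordAll.2.2.2.2.2.1 PLHEp3 PLIHEp3 chk_ptsHEp3
    K (by rw [pt_zero PLHEp3 PL_zero.2.1]) q K1 K1_le_K hker K1_perfect 1 K1_bound3
    Γ σ hσ hk
  rw [esAll.2.2.2.2.2.1] at h
  have hpos : 0 < Nat.card σ.ker := Nat.card_pos
  omega

/-- a stem extension of the group whose kernel is a 5-group is trivial -/
theorem bound5 (Γ : Type u) [Group Γ] [Finite Γ] (σ : Γ →* heModel.G)
    (hσ : Cfsg.IsStemExtension σ) (hk : IsPGroup 5 σ.ker) : Nat.card σ.ker = 1 := by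
  haveI : Fact (Nat.Prime 5) := ⟨Nat.prime_five⟩
  obtain ⟨Q, iQ, iC, q, hq, hQ, hker⟩ := exists_quot
  have h : Nat.card σ.ker ≤ 5 ^ CHEp5.es.sum * 1 := bound_pts_cyc.{u} heModel 5 DHEp5 CHEp5 rfl chk_certHEp5 chk_structHEp5 wsHEp5
    pmHEp5 lwHEp5 coreHEp5 (by decide) hordAll.2.2.2.2.2.2.1 PLHEp5 PLIHEp5 chk_ptsHEp5
    K (by rw [pt_zero PLHEp5 PL_zero.2.2.1]) q K1 K1_le_K hker K1_perfect 1 K1_bound5
    Γ σ hσ hk
  rw [esAll.2.2.2.2.2.2.1] at h
  have hpos : 0 < Nat.card σ.ker := Nat.card_pos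
  omega

/-- a stem extension of the group whose kernel is a 7-group is trivial -/
theorem bound7 (Γ : Type u) [Group Γ] [Finite Γ] (σ : Γ →* heModel.G)
    (hσ : Cfsg.IsStemExtension σ) (hk : IsPGroup 7 σ.ker) : Nat.card σ.ker = 1 := by
  haveI : Fact (Nat.Prime 7) := ⟨by norm_num⟩
  obtain ⟨Q, iQ, iC, q, hq, hQ, hker⟩ := exists_quot
  have h : Nat.card σ.ker ≤ 7 ^ CHEp7.es.sum * 1 := bound_pts_cyc.{u} heModel 7 DHEp7 CHEp7 rfl chk_certHEp7 chk_structHEp7 wsHEp7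
    pmHEp7 lwHEp7 coreHEp7 (by decide) hordAll.2.2.2.2.2.2.2 PLHEp7 PLIHEp7 chk_ptsHEp7
    K (by rw [pt_zero PLHEp7 PL_zero.2.2.2]) q K1 K1_le_K hker K1_perfect 1 K1_bound7
    Γ σ hσ hk
  rw [esAll.2.2.2.2.2.2.2] at h
  have hpos : 0 < Nat.card σ.ker := Nat.card_pos
  omega

/-! ## The multiplier -/

theorem not_sq_dvd (p : ℕ) (hp : p.Prime) (h2 : p ≠ 2) (h3 : p ≠ 3) (h5 : p ≠ 5) (h7 : p ≠ 7) :
    ¬ p * p ∣ 4030387200 := by
  intro h
  have hd : p ∣ 4030387200 := dvd_trans (dvd_mul_right p p) h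
  have e : (4030387200 : ℕ) = 2 ^ 10 * 3 ^ 3 * 5 ^ 2 * 7 ^ 3 * 17 := by norm_num
  rw [e] at hd
  rcases (Nat.Prime.dvd_mul hp).mp hd with hd | hd
  · rcases (Nat.Prime.dvd_mul hp).mp hd with hd | hd
    · rcases (Nat.Prime.dvd_mul hp).mp hd with hd | hd
      · rcases (Nat.Prime.dvd_mul hp).mp hd with hd | hd
        · exact h2 ((Nat.prime_dvd_prime_iff_eq hp Nat.prime_two).mp (hp.dvd_of_dvd_pow hd))
        · exact h3 ((Nat.prime_dvd_prime_iff_eq hp Nat.prime_three).mp (hp.dvd_of_dvd_pow hd))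
      · exact h5 ((Nat.prime_dvd_prime_iff_eq hp Nat.prime_five).mp (hp.dvd_of_dvd_pow hd))
    · exact h7 ((Nat.prime_dvd_prime_iff_eq hp (by norm_num : Nat.Prime 7)).mp
        (hp.dvd_of_dvd_pow hd))
  · have := (Nat.prime_dvd_prime_iff_eq hp (by norm_num : Nat.Prime 17)).mp hd
    subst this
    norm_num at h

/-- the kernel of a stem extension of the group is trivial -/
theorem hub (Γ : Type u) [Group Γ] [Finite Γ] (σ : Γ →* He) (hσ : Cfsg.IsStemExtension σ) :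
    IsCyclic σ.ker ∧ Nat.card σ.ker ∣ 1 := by
  have hd : Nat.card σ.ker ∣ 1 := by
    apply Stem.card_dvd_of_primary σ 1 (by norm_num) ?_ hσ
    intro p hp Γ' _ _ σ' hσ' hk
    by_cases h2 : p = 2
    · subst h2
      have h1 : Nat.card σ'.ker = 1 := bound2 Γ' σ' hσ' hk
      rw [h1]
    · by_cases h3 : p = 3
      · subst h3
        have h1 : Nat.card σ'.ker = 1 := bound3 Γ' σ' hσ' hk
        rw [h1]
      · by_cases h5 : p = 5
        · subst h5
          have h1 : Nat.card σ'.ker = 1 := bound5 Γ' σ' hσ' hk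
          rw [h1]
        · by_cases h7 : p = 7
          · subst h7
            have h1 : Nat.card σ'.ker = 1 := bound7 Γ' σ' hσ' hk
            rw [h1]
          · have h1 : Nat.card σ'.ker = 1 := by
              apply Stem.card_ker_eq_one_of_not_sq_dvd σ' hσ' p hk
              rw [card_He]
              exact not_sq_dvd p hp.out h2 h3 h5 h7
            rw [h1]
  refine ⟨?_, hd⟩
  haveI : Subsingleton σ.ker := (Nat.card_eq_one_iff_unique.mp (Nat.dvd_one.mp hd)).1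
  exact isCyclic_of_subsingleton

/-- the trivial stem extension -/
theorem exists_cover : ∃ (Γ₀ : Type) (_ : Group Γ₀) (_ : Finite Γ₀) (σ : Γ₀ →* He),
    Cfsg.IsStemExtension σ ∧ IsCyclic σ.ker ∧ Nat.card σ.ker = 1 := by
  have e : (MonoidHom.id He).ker = ⊥ := by
    ext x
    simp [MonoidHom.mem_ker]
  refine ⟨He, inferInstance, finite_He, MonoidHom.id He, ⟨Function.surjective_id, ?_, ?_⟩, ?_, ?_⟩
  · rw [e]
    exact bot_le
  · rw [e]
    exact bot_le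
  · rw [e]
    infer_instance
  · rw [e]
    exact Subgroup.card_bot

/-- the Schur multiplier of the group `He` of the definitions is trivial -/
theorem multiplier : Cfsg.HasCyclicSchurMultiplier Cfsg.Spor.He 1 :=
  Stem.hasCyclicSchurMultiplier_of_equiv (MulEquiv.refl _) 1 exists_cover hub

end Cfsg.Agent.Lib.Helper6.HeM
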