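import Cfsg.Agent.Lib.Helper6.Mult.PM4
import Cfsg.Agent.Lib.Helper6.Mult.PM6
import Cfsg.Agent.Lib.Helper6.MultD.J2UX
import Cfsg.Agent.Lib.Helper6.MultD.J2Tp2L
import Cfsg.Agent.Lib.Helper6.MultD.J2Tp2H
import Cfsg.Agent.Lib.Helper6.MultD.J2Up2L
import Cfsg.Agent.Lib.Helper6.MultD.J2Up2S
import Cfsg.Agent.Lib.Helper6.MultD.J2Up2H

set_option autoImplicit false
set_option maxRecDepth 100000

/-! # The presented group `J2`: the stabilizer `U3(3)` of a point, and the stabilizer of order 6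
of a set of two points in it -/

namespace Cfsg.Agent.Lib.Helper6.J2Mu

open Cfsg.Agent.Lib.Helper6.TC Cfsg.Agent.Lib.Helper6.TCD Cfsg.Agent.Lib.Helper6.PM
open Cfsg.Agent.Lib.Helper6.MultD Cfsg.Agent.Lib.Helper2.J2M
open Cfsg.Agent.Lib.Helper1 Cfsg.Agent.Lib.Helper1.MatCode Cfsg.Agent.Lib.Helper1.StemSA

open scoped Pointwise

theorem card_j2Model : Nat.card j2Model.G = 604800 := card_G

/-- the stabilizer of the first point, a group `U3(3)` -/
noncomputable abbrev K : Subgroup j2Model.G := MulAction.stabilizer j2Model.G (0 : Fin j2Model.n)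

theorem pt_zero (PL : ℕ → ℕ) (h : PL 0 = 0) : pt j2Model PL 0 = (0 : Fin j2Model.n) := by
  unfold pt
  rw [h]
  rfl

theorem card_K : Nat.card K = 6048 := by
  have h := card_stab_pts j2Model DJ2Tp2 chk_structJ2Tp2 wsJ2Tp2 pmJ2Tp2 lwJ2Tp2 coreJ2Tp2
    (by decide) PLJ2Tp2 PLIJ2Tp2 chk_ptsJ2Tp2
  rw [pt_zero PLJ2Tp2 PL_zeroJ2T.1, card_j2Model] at h
  have e : DJ2Tp2.m = 100 := rfl
  rw [e] at h
  change Nat.card K * 100 = 604800 at h
  omega

/-- the subgroup generated by two elements of orders 3 and 7 of the stabilizer -/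
noncomputable abbrev K1 : Subgroup j2Model.G := PM.subH j2Model wsJ2UM

theorem K1_le_K : K1 ≤ K := by
  unfold K1 PM.subH
  rw [Subgroup.closure_le]
  rintro _ ⟨i, hi, rfl⟩
  rw [SetLike.mem_coe, MulAction.mem_stabilizer_iff]
  apply j2Model.elt_smul
  · apply tabJ2UM.1
    rw [List.getD_eq_getElem _ _ hi]
    exact List.getElem_mem _
  · have h := tabJ2UM.2 i hi 0 (by decide)
    rw [fixJ2UM i hi] at h
    exact h

/-! ## The stabilizer of a set in the subgroup -/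

/-- the stabilizer of the first set -/
noncomputable abbrev K6 : Subgroup j2U.G := MulAction.stabilizer j2U.G (ptS j2U masksJ2Up2 0)

theorem card_K6_mul : Nat.card K6 * 1008 = Nat.card j2U.G :=
  card_stab_sets j2U DJ2Up2 chk_structJ2Up2 wsJ2Up2 pmJ2Up2 lwJ2Up2 coreJ2Up2 (by decide)
    masksJ2Up2 chk_setsJ2Up2 chk_distinctJ2Up2

/-- the generators of the subgroup -/
noncomputable abbrev gsU : List j2U.G := gs j2U wsJ2Up2

/-- the element of order 6 -/
noncomputable def g6 : j2U.G := wordProd gsU w6J2Up2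

theorem w6_lt : ∀ i ∈ w6J2Up2, i < DJ2Up2.k := by decide

theorem g6_mem : g6 ∈ K6 := by
  rw [MulAction.mem_stabilizer_iff]
  have h := (wordProd_smul_sets j2U DJ2Up2 chk_structJ2Up2 wsJ2Up2 pmJ2Up2 lwJ2Up2 coreJ2Up2
    masksJ2Up2 chk_setsJ2Up2 w6J2Up2 w6_lt 0 (by decide)).2
  rw [chk_stab6.1] at h
  exact h

theorem g6_pow6 : g6 ^ 6 = 1 := by
  have h := chk_w6
  simp only [List.all_eq_true, List.mem_range, beq_iff_eq, wappS_eq] at h
  have h1 := eq_one_of_pm j2U DJ2Up2 wsJ2Up2 pmJ2Up2 lwJ2Up2 coreJ2Up2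
    (List.replicate 6 w6J2Up2).flatten (by decide) h
  rwa [wordProd_flatten_replicate] at h1

theorem g6_pow2 : g6 ^ 2 ≠ 1 := by
  have h := ne_one_of_move_sets j2U DJ2Up2 chk_structJ2Up2 wsJ2Up2 pmJ2Up2 lwJ2Up2 coreJ2Up2
    masksJ2Up2 chk_setsJ2Up2 chk_distinctJ2Up2 (w6J2Up2 ++ w6J2Up2) (by decide) 1 (by decide)
    chk_stab6.2.1
  rw [wordProd_append] at h
  intro h2
  apply h
  rw [← h2, pow_two]
  rfl

theorem g6_pow3 : g6 ^ 3 ≠ 1 := by
  have h := ne_one_of_move_sets j2U DJ2Up2 chk_structJ2Up2 wsJ2Up2 pmJ2Up2 lwJ2Up2 coreJ2Up2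
    masksJ2Up2 chk_setsJ2Up2 chk_distinctJ2Up2 (w6J2Up2 ++ w6J2Up2 ++ w6J2Up2) (by decide) 1
    (by decide) chk_stab6.2.2
  rw [wordProd_append, wordProd_append] at h
  intro h3
  apply h
  rw [← h3]
  show g6 * g6 * g6 = g6 ^ 3
  rw [pow_succ, pow_two]

theorem orderOf_g6 : orderOf g6 = 6 := orderOf_eq_six g6 g6_pow6 g6_pow2 g6_pow3

theorem dvd_card_K6 : 6 ∣ Nat.card K6 := by
  have := Subgroup.orderOf_dvd_natCard K6 g6_mem
  rwa [orderOf_g6] at this

theorem card_K1 : Nat.card ↥K1 = 6048 := by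
  have h := card_K6_mul
  obtain ⟨c, hc⟩ := dvd_card_K6
  have e : Nat.card ↥K1 = Nat.card j2U.G := rfl
  have hd : Nat.card ↥K1 ∣ Nat.card K := Subgroup.card_dvd_of_le K1_le_K
  rw [card_K] at hd
  have hle : Nat.card ↥K1 ≤ 6048 := Nat.le_of_dvd (by norm_num) hd
  have hpos : 0 < Nat.card ↥K1 := Nat.card_pos
  rw [e] at hle hpos ⊢
  rw [← h, hc] at hle hpos ⊢
  have hc1 : c = 1 := by
    rcases Nat.lt_or_ge c 1 with h0 | h1
    · have : c = 0 := by omega
      rw [this] at hpos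
      omega
    · omega
  rw [hc1]

theorem card_j2U : Nat.card j2U.G = 6048 := card_K1

theorem card_K6 : Nat.card K6 = 6 := by
  have h := card_K6_mul
  rw [card_j2U] at h
  omega

theorem K1_eq_K : K1 = K :=
  Subgroup.eq_of_le_of_card_ge K1_le_K (by rw [card_K, card_K1])

/-! ## The subgroup is perfect -/

theorem hgenU : Subgroup.closure {g : j2U.G | ∃ i < DJ2Up2.k, g = gsU.getD i 1} = ⊤ :=
  hgen j2U DJ2Up2 wsJ2Up2 pmJ2Up2 lwJ2Up2 coreJ2Up2

theorem K1_perfect : commutator ↥K1 = ⊤ := by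
  have hx : (gsU.getD 0 1) ^ 3 = 1 :=
    hpow j2U DJ2Up2 wsJ2Up2 pmJ2Up2 lwJ2Up2 coreJ2Up2 0 (by decide)
  have hy : (gsU.getD 1 1) ^ 7 = 1 :=
    hpow j2U DJ2Up2 wsJ2Up2 pmJ2Up2 lwJ2Up2 coreJ2Up2 1 (by decide)
  have hxy : (gsU.getD 0 1 * gsU.getD 1 1) ^ 8 = 1 := by
    have h := chk_xy8
    simp only [List.all_eq_true, List.mem_range, beq_iff_eq, wappS_eq] at h
    have h1 := eq_one_of_pm j2U DJ2Up2 wsJ2Up2 pmJ2Up2 lwJ2Up2 coreJ2Up2
      (List.replicate 8 [0, 1]).flatten (by decide) h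
    rw [wordProd_flatten_replicate] at h1
    simpa only [wordProd_cons, wordProd_nil, mul_one] using h1
  show commutator j2U.G = ⊤
  apply perfect_of_coprime (gsU.getD 0 1) (gsU.getD 1 1) ?_ 3 7 8 hx hy hxy
    (by norm_num) (by norm_num) (by norm_num)
  rw [← hgenU]
  congr 1
  ext g
  simp only [Set.mem_insert_iff, Set.mem_singleton_iff, Set.mem_ofPred_eq]
  constructor
  · rintro (rfl | rfl)
    · exact ⟨0, by decide, rfl⟩
    · exact ⟨1, by decide, rfl⟩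
  · rintro ⟨i, hi, rfl⟩
    have hi' : i < 2 := hi
    interval_cases i
    · exact Or.inl rfl
    · exact Or.inr rfl

end Cfsg.Agent.Lib.Helper6.J2Mu
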