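import Cfsg.Agent.Lib.Helper6.Mult.J2B
import Cfsg.Agent.Lib.Helper6.MultD.J2Up2I
import Cfsg.Agent.Lib.Helper6.MultD.J2Up3I
import Cfsg.Agent.Lib.Helper6.MultD.J2Up3L
import Cfsg.Agent.Lib.Helper6.MultD.J2Up3S
import Cfsg.Agent.Lib.Helper6.MultD.J2Tp2I
import Cfsg.Agent.Lib.Helper6.MultD.J2Tp3I
import Cfsg.Agent.Lib.Helper6.MultD.J2Tp5I
import Cfsg.Agent.Lib.Helper6.MultD.J2Tp3L
import Cfsg.Agent.Lib.Helper6.MultD.J2Tp5L
import Cfsg.Agent.Lib.Helper1.Stem14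
import Cfsg.Agent.Lib.Helper1.Stem17
import Cfsg.Agent.Lib.Helper1.Stem21
import Cfsg.Agent.Lib.Helper4.J2.H14

set_option autoImplicit false
set_option maxRecDepth 100000

/-! # The Schur multiplier of the Hall-Janko group is cyclic of order 2 -/

namespace Cfsg.Agent.Lib.Helper6.J2Mu

open Cfsg.Agent.Lib.Helper6.TC Cfsg.Agent.Lib.Helper6.TCD Cfsg.Agent.Lib.Helper6.PM
open Cfsg.Agent.Lib.Helper6.MultD Cfsg.Agent.Lib.Helper2.J2M
open Cfsg.Agent.Lib.Helper1 Cfsg.Agent.Lib.Helper1.MatCode Cfsg.Agent.Lib.Helper1.StemSA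

open scoped Pointwise

universe u

/-- the orders of the generators are coprime to the prime -/
theorem hord_of_chk (D : SAData) (p : ℕ)
    (h : ((List.range D.k).all fun i => Nat.gcd (D.ords.getD i 0) p == 1) = true) :
    ∀ i < D.k, Nat.Coprime (D.ords.getD i 0) p := by
  simp only [List.all_eq_true, List.mem_range, beq_iff_eq] at h
  exact h

theorem hordAll : (∀ i < DJ2Up2.k, Nat.Coprime (DJ2Up2.ords.getD i 0) 2) ∧
    (∀ i < DJ2Up3.k, Nat.Coprime (DJ2Up3.ords.getD i 0) 3) ∧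
    (∀ i < DJ2Tp2.k, Nat.Coprime (DJ2Tp2.ords.getD i 0) 2) ∧
    (∀ i < DJ2Tp3.k, Nat.Coprime (DJ2Tp3.ords.getD i 0) 3) ∧
    (∀ i < DJ2Tp5.k, Nat.Coprime (DJ2Tp5.ords.getD i 0) 5) :=
  ⟨hord_of_chk _ _ (by decide +kernel), hord_of_chk _ _ (by decide +kernel),
    hord_of_chk _ _ (by decide +kernel), hord_of_chk _ _ (by decide +kernel),
    hord_of_chk _ _ (by decide +kernel)⟩

theorem esAll : CJ2Up2.es.sum = 1 ∧ CJ2Up3.es.sum = 1 ∧ CJ2Tp2.es.sum = 1 ∧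
    CJ2Tp3.es.sum = 0 ∧ CJ2Tp5.es.sum = 0 := by
  decide +kernel

/-! ## The stem extensions of the subgroup `U3(3)` -/

/-- the element of order 6, in the stabilizer of the first set -/
noncomputable def c6 : K6 := ⟨g6, g6_mem⟩

theorem orderOf_c6 : orderOf c6 = 6 := by
  rw [← orderOf_g6]
  exact Subgroup.orderOf_mk g6 g6_mem

theorem hcommK6 : ∀ x y : K6, x * y = y * x :=
  comm_of_orderOf_eq_card c6 (by rw [orderOf_c6, card_K6])

theorem orderOf_c6_pow3 : orderOf (c6 ^ 3) = 2 ^ 1 := by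
  have h := orderOf_pow_of_dvd (x := c6) (n := 3) (by norm_num) (by rw [orderOf_c6]; norm_num)
  rw [orderOf_c6] at h
  exact h.trans (by norm_num)

theorem orderOf_c6_pow2 : orderOf (c6 ^ 2) = 3 ^ 1 := by
  have h := orderOf_pow_of_dvd (x := c6) (n := 2) (by norm_num) (by rw [orderOf_c6]; norm_num)
  rw [orderOf_c6] at h
  exact h.trans (by norm_num)

/-- the subgroup of order 3 of the stabilizer -/
noncomputable def N3 : Subgroup K6 := Subgroup.zpowers (c6 ^ 2)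

/-- the subgroup of order 2 of the stabilizer -/
noncomputable def N2 : Subgroup K6 := Subgroup.zpowers (c6 ^ 3)

theorem card_N3 : Nat.card N3 = 3 := by
  rw [N3, Nat.card_zpowers]
  exact orderOf_c6_pow2.trans (by norm_num)

theorem card_N2 : Nat.card N2 = 2 := by
  rw [N2, Nat.card_zpowers]
  exact orderOf_c6_pow3.trans (by norm_num)

instance N3_normal : N3.Normal := normal_of_comm' hcommK6 N3

instance N2_normal : N2.Normal := normal_of_comm' hcommK6 N2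

theorem K6_eq3 : K6 = MulAction.stabilizer j2U.G (ptS j2U masksJ2Up3 0) := by
  unfold K6 ptS
  rw [chk_masks0]

/-- a stem extension of the subgroup `U3(3)` whose kernel is a 2-group is trivial -/
theorem K1_bound2 (Γ' : Type u) [Group Γ'] [Finite Γ'] (σ' : Γ' →* ↥K1)
    (hσ' : Cfsg.IsStemExtension σ') (hk : IsPGroup 2 σ'.ker) : Nat.card σ'.ker ≤ 1 := by
  haveI : Fact (Nat.Prime 2) := ⟨Nat.prime_two⟩
  have h : Nat.card σ'.ker * 2 ^ 1 ≤ 2 ^ CJ2Up2.es.sum := bound_sets_powP.{u} j2U 2 DJ2Up2 CJ2Up2 rfl chk_certJ2Up2 chk_structJ2Up2 wsJ2Up2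
    pmJ2Up2 lwJ2Up2 coreJ2Up2 (by decide) hordAll.1 masksJ2Up2 chk_setsJ2Up2 chk_distinctJ2Up2
    1 3 (by norm_num) (by norm_num) K6 rfl (card_K6.trans (by norm_num)) (c6 ^ 3) orderOf_c6_pow3
    N3 card_N3 (quot_comm_of_comm hcommK6 N3) Γ' σ' hσ' hk
  rw [esAll.1] at h
  omega

/-- a stem extension of the subgroup `U3(3)` whose kernel is a 3-group is trivial -/
theorem K1_bound3 (Γ' : Type u) [Group Γ'] [Finite Γ'] (σ' : Γ' →* ↥K1)
    (hσ' : Cfsg.IsStemExtension σ') (hk : IsPGroup 3 σ'.ker) : Nat.card σ'.ker ≤ 1 := by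
  haveI : Fact (Nat.Prime 3) := ⟨Nat.prime_three⟩
  have h : Nat.card σ'.ker * 3 ^ 1 ≤ 3 ^ CJ2Up3.es.sum := bound_sets_powP.{u} j2U 3 DJ2Up3 CJ2Up3 rfl chk_certJ2Up3 chk_structJ2Up3 wsJ2Up3
    pmJ2Up3 lwJ2Up3 coreJ2Up3 (by decide) hordAll.2.1 masksJ2Up3 chk_setsJ2Up3 chk_distinctJ2Up3
    1 2 (by norm_num) (by norm_num) K6 K6_eq3 (card_K6.trans (by norm_num)) (c6 ^ 2) orderOf_c6_pow2
    N2 card_N2 (quot_comm_of_comm hcommK6 N2) Γ' σ' hσ' hk
  rw [esAll.2.1] at h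
  omega

/-- a stem extension of the subgroup `U3(3)` whose kernel is a 5-group is trivial -/
theorem K1_bound5 (Γ' : Type u) [Group Γ'] [Finite Γ'] (σ' : Γ' →* ↥K1)
    (hσ' : Cfsg.IsStemExtension σ') (hk : IsPGroup 5 σ'.ker) : Nat.card σ'.ker ≤ 1 := by
  haveI : Fact (Nat.Prime 5) := ⟨Nat.prime_five⟩
  have h : Nat.card σ'.ker = 1 :=
    Stem.card_ker_eq_one_of_not_sq_dvd σ' hσ' 5 hk (by rw [card_K1]; norm_num)
  omega

/-! ## The stem extensions of the group -/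

/-- the stabilizer of the point is the subgroup -/
theorem hker_triv : ∀ k : K, (1 : K →* Unit) k = 1 ↔ (k : j2Model.G) ∈ K1 := by
  intro k
  rw [K1_eq_K]
  exact ⟨fun _ => k.2, fun _ => rfl⟩

/-- a stem extension of the group whose kernel is a 2-group has a kernel of order at most 2 -/
theorem bound2 (Γ : Type u) [Group Γ] [Finite Γ] (σ : Γ →* j2Model.G)
    (hσ : Cfsg.IsStemExtension σ) (hk : IsPGroup 2 σ.ker) : Nat.card σ.ker ≤ 2 := by
  haveI : Fact (Nat.Prime 2) := ⟨Nat.prime_two⟩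
  haveI : IsCyclic Unit := isCyclic_of_subsingleton
  have h : Nat.card σ.ker ≤ 2 ^ CJ2Tp2.es.sum * 1 := bound_pts_cyc.{u} j2Model 2 DJ2Tp2 CJ2Tp2 rfl chk_certJ2Tp2 chk_structJ2Tp2 wsJ2Tp2
    pmJ2Tp2 lwJ2Tp2 coreJ2Tp2 (by decide) hordAll.2.2.1 PLJ2Tp2 PLIJ2Tp2 chk_ptsJ2Tp2
    K (by rw [pt_zero PLJ2Tp2 PL_zeroJ2T.1]) (1 : K →* Unit) K1 K1_le_K hker_triv K1_perfect 1
    K1_bound2 Γ σ hσ hk
  rw [esAll.2.2.1] at h
  omega

/-- a stem extension of the group whose kernel is a 3-group is trivial -/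
theorem bound3 (Γ : Type u) [Group Γ] [Finite Γ] (σ : Γ →* j2Model.G)
    (hσ : Cfsg.IsStemExtension σ) (hk : IsPGroup 3 σ.ker) : Nat.card σ.ker = 1 := by
  haveI : Fact (Nat.Prime 3) := ⟨Nat.prime_three⟩
  haveI : IsCyclic Unit := isCyclic_of_subsingleton
  have h : Nat.card σ.ker ≤ 3 ^ CJ2Tp3.es.sum * 1 := bound_pts_cyc.{u} j2Model 3 DJ2Tp3 CJ2Tp3 rfl chk_certJ2Tp3 chk_structJ2Tp3 wsJ2Tp3
    pmJ2Tp3 lwJ2Tp3 coreJ2Tp3 (by decide) hordAll.2.2.2.1 PLJ2Tp3 PLIJ2Tp3 chk_ptsJ2Tp3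
    K (by rw [pt_zero PLJ2Tp3 PL_zeroJ2T.2.1]) (1 : K →* Unit) K1 K1_le_K hker_triv K1_perfect 1
    K1_bound3 Γ σ hσ hk
  rw [esAll.2.2.2.1] at h
  have hpos : 0 < Nat.card σ.ker := Nat.card_pos
  omega

/-- a stem extension of the group whose kernel is a 5-group is trivial -/
theorem bound5 (Γ : Type u) [Group Γ] [Finite Γ] (σ : Γ →* j2Model.G)
    (hσ : Cfsg.IsStemExtension σ) (hk : IsPGroup 5 σ.ker) : Nat.card σ.ker = 1 := by
  haveI : Fact (Nat.Prime 5) := ⟨Nat.prime_five⟩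
  haveI : IsCyclic Unit := isCyclic_of_subsingleton
  have h : Nat.card σ.ker ≤ 5 ^ CJ2Tp5.es.sum * 1 := bound_pts_cyc.{u} j2Model 5 DJ2Tp5 CJ2Tp5 rfl chk_certJ2Tp5 chk_structJ2Tp5 wsJ2Tp5
    pmJ2Tp5 lwJ2Tp5 coreJ2Tp5 (by decide) hordAll.2.2.2.2 PLJ2Tp5 PLIJ2Tp5 chk_ptsJ2Tp5
    K (by rw [pt_zero PLJ2Tp5 PL_zeroJ2T.2.2]) (1 : K →* Unit) K1 K1_le_K hker_triv K1_perfect 1
    K1_bound5 Γ σ hσ hk
  rw [esAll.2.2.2.2] at h
  have hpos : 0 < Nat.card σ.ker := Nat.card_pos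
  omega

/-! ## The multiplier -/

theorem not_sq_dvd (p : ℕ) (hp : p.Prime) (h2 : p ≠ 2) (h3 : p ≠ 3) (h5 : p ≠ 5) :
    ¬ p * p ∣ 604800 := by
  intro h
  have hd : p ∣ 604800 := dvd_trans (dvd_mul_right p p) h
  have e : (604800 : ℕ) = 2 ^ 7 * 3 ^ 3 * 5 ^ 2 * 7 := by norm_num
  rw [e] at hd
  rcases (Nat.Prime.dvd_mul hp).mp hd with hd | hd
  · rcases (Nat.Prime.dvd_mul hp).mp hd with hd | hd
    · rcases (Nat.Prime.dvd_mul hp).mp hd with hd | hd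
      · exact h2 ((Nat.prime_dvd_prime_iff_eq hp Nat.prime_two).mp (hp.dvd_of_dvd_pow hd))
      · exact h3 ((Nat.prime_dvd_prime_iff_eq hp Nat.prime_three).mp (hp.dvd_of_dvd_pow hd))
    · exact h5 ((Nat.prime_dvd_prime_iff_eq hp Nat.prime_five).mp (hp.dvd_of_dvd_pow hd))
  · have := (Nat.prime_dvd_prime_iff_eq hp (by norm_num : Nat.Prime 7)).mp hd
    subst this
    norm_num at h

/-- the kernel of a stem extension of the presented group is cyclic of order dividing 2 -/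
theorem hub (Γ : Type u) [Group Γ] [Finite Γ] (σ : Γ →* Cfsg.Agent.Lib.Helper6.TCP.J2.G)
    (hσ : Cfsg.IsStemExtension σ) : IsCyclic σ.ker ∧ Nat.card σ.ker ∣ 2 := by
  have hd : Nat.card σ.ker ∣ 2 := by
    apply Stem.card_dvd_of_primary σ 2 (by norm_num) ?_ hσ
    intro p hp Γ' _ _ σ' hσ' hk
    by_cases h2 : p = 2
    · subst h2
      have h1 : Nat.card σ'.ker ≤ 2 := bound2 Γ' σ' hσ' hk
      obtain ⟨a, ha⟩ := IsPGroup.iff_card.mp hk
      rw [ha] at h1 ⊢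
      have ha1 : a ≤ 1 := by
        by_contra hcon
        push_neg at hcon
        have : 2 ^ 2 ≤ 2 ^ a := Nat.pow_le_pow_right (by norm_num) hcon
        omega
      calc 2 ^ a ∣ 2 ^ 1 := pow_dvd_pow 2 ha1
        _ = 2 := pow_one 2
    · by_cases h3 : p = 3
      · subst h3
        have h1 : Nat.card σ'.ker = 1 := bound3 Γ' σ' hσ' hk
        rw [h1]
        exact one_dvd 2
      · by_cases h5 : p = 5
        · subst h5
          have h1 : Nat.card σ'.ker = 1 := bound5 Γ' σ' hσ' hk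
          rw [h1]
          exact one_dvd 2
        · have h1 : Nat.card σ'.ker = 1 := by
            apply Stem.card_ker_eq_one_of_not_sq_dvd σ' hσ' p hk
            rw [card_G]
            exact not_sq_dvd p hp.out h2 h3 h5
          rw [h1]
          exact one_dvd 2
  refine ⟨?_, hd⟩
  rcases (Nat.dvd_prime Nat.prime_two).mp hd with h | h
  · haveI : Subsingleton σ.ker := (Nat.card_eq_one_iff_unique.mp h).1
    exact isCyclic_of_subsingleton
  · haveI : Fact (Nat.Prime 2) := ⟨Nat.prime_two⟩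
    exact isCyclic_of_prime_card (p := 2) h

/-- the Schur multiplier of the group `J2` of the definitions is cyclic of order 2 -/
theorem multiplier : Cfsg.HasCyclicSchurMultiplier Cfsg.Spor.J2 2 := by
  refine ⟨Cfsg.Agent.Lib.Helper4.J2.exists_stem_J2, ?_⟩
  intro Γ _ _ σ hσ
  have h1 := Stem.isStem_comp_equiv (MulEquiv.refl Γ) Cfsg.Agent.Lib.Helper4.J2.isoJ2 σ hσ
  obtain ⟨hc, hd⟩ := hub Γ _ h1
  have e2 := Stem.kerEquiv (MulEquiv.refl Γ) Cfsg.Agent.Lib.Helper4.J2.isoJ2 σ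
  have hc' : IsCyclic σ.ker := by
    haveI := hc
    exact isCyclic_of_surjective e2.toMonoidHom e2.surjective
  have hd' : Nat.card σ.ker ∣ 2 := by
    rw [← Nat.card_congr e2.toEquiv]
    exact hd
  exact Stem.exists_surjective_of_cyclic 2 hc' hd'

end Cfsg.Agent.Lib.Helper6.J2Mu
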