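import Cfsg.Agent.Lib.Helper6.Spor.J3Ord
import Cfsg.Agent.Lib.Helper1.StemZB4
import Cfsg.Agent.Lib.Helper1.StemOrb

set_option autoImplicit false
set_option maxRecDepth 100000

/-! # The presented group `J3` acting on 6156 points: the link with labelled actions -/

namespace Cfsg.Agent.Lib.Helper6.J3M

open Cfsg.Agent.Lib.Helper6.TC Cfsg.Agent.Lib.Helper6.TCD
open Cfsg.Agent.Lib.Helper6.TCP.J3
open Cfsg.Agent.Lib.Helper1 Cfsg.Agent.Lib.Helper1.MatCode Cfsg.Agent.Lib.Helper1.StemSA

/-- the faithful permutation representation on 6156 points -/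
noncomputable def phi : G →* Equiv.Perm (Fin 6156) := Classical.choose J3Ord.rep

theorem phi_spec : (∀ w, (∀ c ∈ w, c < 5) → ∀ p : Fin 6156,
      ((phi (PresentedGroup.mk Rels (wordElt gc w)))⁻¹ p).val = wapp J3a.px w p.val) ∧
    Function.Injective phi ∧ Nat.card G = 50232960 ∧ Finite G := by
  have h := Classical.choose_spec J3Ord.rep
  exact ⟨h.1, h.2.2.2.1, h.2.2.2.2.1, h.2.2.2.2.2⟩

/-- the element of the group given by a word of columns -/
noncomputable def elt (w : List ℕ) : G := PresentedGroup.mk Rels (wordElt gc w)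

theorem elt_nil : elt [] = 1 := by
  unfold elt
  rw [wordElt_nil, map_one]

theorem elt_append (u v : List ℕ) : elt (u ++ v) = elt u * elt v := by
  unfold elt
  rw [wordElt_append, map_mul]

theorem phi_inv_val (w : List ℕ) (hw : ∀ c ∈ w, c < 5) (p : Fin 6156) :
    ((phi (elt w))⁻¹ p).val = wapp J3a.px w p.val :=
  phi_spec.1 w hw p

theorem phi_injective : Function.Injective phi := phi_spec.2.1

theorem card_G : Nat.card G = 50232960 := phi_spec.2.2.1

instance finite_G : Finite G := phi_spec.2.2.2

noncomputable instance actG : MulAction G (Fin 6156) := MulAction.compHom (Fin 6156) phi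

theorem smul_def (g : G) (p : Fin 6156) : g • p = phi g p := rfl

instance faithfulG : FaithfulSMul G (Fin 6156) where
  eq_of_smul_eq_smul := by
    intro g h hgh
    apply phi_injective
    ext p
    exact congrArg Fin.val (hgh p)

/-- the action of the element of a word, from the table -/
theorem elt_smul (w : List ℕ) (hw : ∀ c ∈ w, c < 5) (p p' : Fin 6156)
    (h : wapp J3a.px w p'.val = p.val) : elt w • p = p' := by
  rw [smul_def]
  have h1 : (phi (elt w))⁻¹ p' = p := Fin.ext (by rw [phi_inv_val w hw, h])
  rw [← h1]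
  simp

/-- two words acting in the same way on the points give the same element -/
theorem elt_eq_of_wapp (w w' : List ℕ) (hw : ∀ c ∈ w, c < 5) (hw' : ∀ c ∈ w', c < 5)
    (h : ∀ q < 6156, wapp J3a.px w q = wapp J3a.px w' q) : elt w = elt w' := by
  apply phi_injective
  apply inv_injective
  ext p
  rw [phi_inv_val w hw, phi_inv_val w' hw']
  exact h p.val p.isLt

/-- the letters of the presentation generate the group -/
theorem closure_letters : Subgroup.closure {g : G | ∃ c < 5, g = elt [c]} = ⊤ := by
  rw [eq_top_iff, ← PresentedGroup.closure_range_of]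
  apply Subgroup.closure_mono
  rintro _ ⟨i, rfl⟩
  refine ⟨i.val, i.isLt, ?_⟩
  unfold elt
  rw [wordElt_cons, wordElt_nil, mul_one, ceOf_gcF]
  congr 2
  exact (Fin.ofNat_val_eq_self i).symm

theorem base_chk : [1, 2] ∈ base ∧ [3, 4] ∈ base ∧
    [4, 2, 0, 2, 0, 2, 0, 2, 0, 2, 0, 1, 0, 2, 0, 2] ∈ base := by decide

theorem elt_cons (c : ℕ) (w : List ℕ) : elt (c :: w) = elt [c] * elt w := by
  rw [← elt_append]
  rfl

/-- the first two letters of the presentation generate the group -/
theorem closure_ab : Subgroup.closure {g : G | ∃ c < 2, g = elt [c]} = ⊤ := by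
  set S := Subgroup.closure {g : G | ∃ c < 2, g = elt [c]} with hS
  have h0 : elt [0] ∈ S := Subgroup.subset_closure ⟨0, by norm_num, rfl⟩
  have h1 : elt [1] ∈ S := Subgroup.subset_closure ⟨1, by norm_num, rfl⟩
  have hb : ∀ b ∈ base, elt b = 1 := fun b hb => wp_hbase b hb
  have e2 : elt [2] = (elt [1])⁻¹ := by
    have := hb _ base_chk.1
    rw [elt_cons] at this
    exact (inv_eq_of_mul_eq_one_right this).symm
  have h2 : elt [2] ∈ S := by rw [e2]; exact S.inv_mem h1
  have e4 : elt [4] = (elt [3])⁻¹ := by
    have := hb _ base_chk.2.1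
    rw [elt_cons] at this
    exact (inv_eq_of_mul_eq_one_right this).symm
  have e3 : elt [3] = elt [2, 0, 2, 0, 2, 0, 2, 0, 2, 0, 1, 0, 2, 0, 2] := by
    have := hb _ base_chk.2.2
    rw [elt_cons, e4] at this
    exact (inv_mul_eq_one.mp this)
  have hmem : ∀ w : List ℕ, (∀ c ∈ w, c < 3) → elt w ∈ S := by
    intro w
    induction w with
    | nil => intro _; rw [elt_nil]; exact S.one_mem
    | cons c w ih =>
      intro hw
      rw [elt_cons]
      refine S.mul_mem ?_ (ih (fun c' hc' => hw c' (List.mem_cons_of_mem _ hc')))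
      have hc : c < 3 := hw c List.mem_cons_self
      interval_cases c
      · exact h0
      · exact h1
      · exact h2
  have h3 : elt [3] ∈ S := by rw [e3]; exact hmem _ (by decide)
  have h4 : elt [4] ∈ S := by rw [e4]; exact S.inv_mem h3
  rw [eq_top_iff, ← closure_letters, Subgroup.closure_le]
  rintro _ ⟨c, hc, rfl⟩
  interval_cases c
  · exact h0
  · exact h1
  · exact h2
  · exact h3
  · exact h4

end Cfsg.Agent.Lib.Helper6.J3M
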