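import Cfsg.Agent.Lib.Helper6.Mult.J3A
import Cfsg.Agent.Lib.Helper6.WP9

set_option autoImplicit false
set_option maxRecDepth 100000

/-! # The presented group `J3` acting on 6156 points: labelled-action data for generators given
by words -/

namespace Cfsg.Agent.Lib.Helper6.J3M

open Cfsg.Agent.Lib.Helper6.TC Cfsg.Agent.Lib.Helper6.TCD
open Cfsg.Agent.Lib.Helper6.TCP.J3
open Cfsg.Agent.Lib.Helper1 Cfsg.Agent.Lib.Helper1.MatCode Cfsg.Agent.Lib.Helper1.StemSA

/-- the action of the generators of labelled-action data, as a function of two arguments -/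
def piF (D : SAData) : ℕ → ℕ → ℕ := fun c q => D.pi c q

theorem actW_eq (D : SAData) (w : List ℕ) (j : ℕ) : D.actW w j = wapp (piF D) w.reverse j := by
  unfold SAData.actW wapp piF
  rw [List.foldl_reverse]

/-- the check that a relation holds on the points, the intermediate points being evaluated at
once -/
noncomputable def chkActRel (D : SAData) (r : ℕ) : Bool :=
  (List.range D.m).all fun j =>
    wappS (piF D) (D.rels.getD r ([], [])).1.reverse j ==
      wappS (piF D) (D.rels.getD r ([], [])).2.reverse j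

/-- the check that the power of a generator acts trivially on the points -/
noncomputable def chkActOrd (D : SAData) (i : ℕ) : Bool :=
  (List.range D.m).all fun j =>
    wappS (piF D) (List.replicate (D.ords.getD i 0) i).reverse j == j

theorem chkAct_of_parts (D : SAData) (h1 : ∀ r < D.rels.length, chkActRel D r = true)
    (h2 : ∀ i < D.k, chkActOrd D i = true) : StemZB.chkAct D = true := by
  unfold StemZB.chkAct
  simp only [Bool.and_eq_true, List.all_eq_true, beq_iff_eq, List.mem_range]
  refine ⟨fun w hw j hj => ?_, fun i hi j hj => ?_⟩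
  · obtain ⟨r, hr, rfl⟩ := List.getElem_of_mem hw
    have h := h1 r hr
    unfold chkActRel at h
    simp only [List.all_eq_true, beq_iff_eq, List.mem_range] at h
    have h' := h j hj
    rw [List.getD_eq_getElem _ _ hr, wappS_eq, wappS_eq, ← actW_eq, ← actW_eq] at h'
    exact h'
  · have h := h2 i hi
    unfold chkActOrd at h
    simp only [List.all_eq_true, beq_iff_eq, List.mem_range] at h
    have h' := h j hj
    rw [wappS_eq, ← actW_eq] at h'
    exact h'

section link

variable (D : SAData) (PL PLI : ℕ → ℕ) (ws lw : List (List ℕ))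

/-- the check of the link of the data with the table of the action -/
noncomputable def chkLink : Bool :=
  (D.m == 6156) && (D.k == ws.length) && (ws.all fun w => w.all fun c => decide (c < 5)) &&
  ((List.range 6156).all fun j => decide (PL j < 6156) && (PLI (PL j) == j) &&
    decide (PLI j < 6156) && (PL (PLI j) == j)) &&
  ((List.range ws.length).all fun i => (List.range 6156).all fun j =>
    wapp J3a.px (ws.getD i []) (PL (D.pi i j)) == PL j) && (PL 0 == 0)

/-- the check of the expressions of the letters as words in the generators -/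
noncomputable def chkLetters : Bool :=
  (lw.all fun w => w.all fun i => decide (i < D.k)) &&
  ((List.range 2).all fun c => (List.range 6156).all fun j =>
    strictApp (fun t => J3a.px c (PL t)) (wappS (piF D) (lw.getD c []).reverse j) == PL j)

/-- the points -/
def pt (j : ℕ) : Fin 6156 := Fin.ofNat 6156 (PL j)

/-- the generators -/
noncomputable def gs : List G := ws.map elt

theorem gs_getD (i : ℕ) : (gs ws).getD i 1 = elt (ws.getD i []) := by
  unfold gs
  rw [← elt_nil, List.getD_map]

variable (hS : D.chkStruct = true) (hL : chkLink D PL PLI ws = true)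
include hL

theorem link_facts : D.m = 6156 ∧ D.k = ws.length ∧ (∀ w ∈ ws, ∀ c ∈ w, c < 5) ∧
    (∀ j < 6156, PL j < 6156 ∧ PLI (PL j) = j ∧ PLI j < 6156 ∧ PL (PLI j) = j) ∧
    (∀ i < ws.length, ∀ j < 6156, wapp J3a.px (ws.getD i []) (PL (D.pi i j)) = PL j) ∧
    PL 0 = 0 := by
  unfold chkLink at hL
  simp only [Bool.and_eq_true, List.all_eq_true, decide_eq_true_eq, beq_iff_eq, List.mem_range]
    at hL
  obtain ⟨⟨⟨⟨⟨h1, h2⟩, h3⟩, h4⟩, h5⟩, h6⟩ := hL
  exact ⟨h1, h2, h3, fun j hj => ⟨(h4 j hj).1.1.1, (h4 j hj).1.1.2, (h4 j hj).1.2, (h4 j hj).2⟩,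
    h5, h6⟩

theorem pt_val (j : ℕ) (hj : j < 6156) : (pt PL j).val = PL j := by
  obtain ⟨_, _, _, h4, _, _⟩ := link_facts D PL PLI ws hL
  unfold pt
  rw [Fin.val_ofNat, Nat.mod_eq_of_lt (h4 j hj).1]

theorem pt_zero : pt PL 0 = 0 := by
  obtain ⟨_, _, _, _, _, h6⟩ := link_facts D PL PLI ws hL
  apply Fin.ext
  rw [pt_val D PL PLI ws hL 0 (by norm_num), h6]
  rfl

theorem pt_inj : ∀ j < D.m, ∀ j' < D.m, pt PL j = pt PL j' → j = j' := by
  obtain ⟨h1, _, _, h4, _, _⟩ := link_facts D PL PLI ws hL
  intro j hj j' hj' h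
  rw [h1] at hj hj'
  have h' := congrArg Fin.val h
  rw [pt_val D PL PLI ws hL j hj, pt_val D PL PLI ws hL j' hj'] at h'
  rw [← (h4 j hj).2.1, ← (h4 j' hj').2.1, h']

theorem pt_surj : ∀ y : Fin 6156, ∃ j < D.m, pt PL j = y := by
  obtain ⟨h1, _, _, h4, _, _⟩ := link_facts D PL PLI ws hL
  intro y
  refine ⟨PLI y.val, by rw [h1]; exact (h4 y.val y.isLt).2.2.1, ?_⟩
  apply Fin.ext
  rw [pt_val D PL PLI ws hL _ (h4 y.val y.isLt).2.2.1, (h4 y.val y.isLt).2.2.2]

include hS

theorem pi_act : ∀ i < D.k, ∀ j < D.m, (gs ws).getD i 1 • pt PL j = pt PL (D.pi i j) := by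
  obtain ⟨h1, h2, h3, h4, h5, _⟩ := link_facts D PL PLI ws hL
  intro i hi j hj
  have hlt : D.pi i j < 6156 := by rw [← h1]; exact pi_lt D hS i j hi hj
  rw [h1] at hj
  rw [h2] at hi
  rw [gs_getD]
  apply elt_smul
  · apply h3
    rw [List.getD_eq_getElem _ _ hi]
    exact List.getElem_mem _
  · rw [pt_val D PL PLI ws hL _ hlt, pt_val D PL PLI ws hL _ hj]
    exact h5 i hi j hj

variable (hW : chkLetters D PL lw = true)
include hW

/-- the generators generate the group -/
theorem hgen : Subgroup.closure {g : G | ∃ i < D.k, g = (gs ws).getD i 1} = ⊤ := by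
  obtain ⟨h1, h2, h3, h4, h5, _⟩ := link_facts D PL PLI ws hL
  unfold chkLetters at hW
  simp only [Bool.and_eq_true, List.all_eq_true, decide_eq_true_eq, beq_iff_eq, List.mem_range]
    at hW
  obtain ⟨hw1, hw2⟩ := hW
  rw [eq_top_iff, ← closure_ab, Subgroup.closure_le]
  rintro _ ⟨c, hc, rfl⟩
  have hlw : ∀ i ∈ lw.getD c [], i < D.k := by
    intro i hi
    by_cases hcl : c < lw.length
    · rw [List.getD_eq_getElem _ _ hcl] at hi
      exact hw1 _ (List.getElem_mem _) i hi
    · rw [List.getD_eq_default _ _ (by omega)] at hi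
      simp at hi
  have key : wordProd (gs ws) (lw.getD c []) = elt [c] := by
    apply FaithfulSMul.eq_of_smul_eq_smul (α := Fin 6156)
    intro y
    obtain ⟨j, hj, rfl⟩ := pt_surj D PL PLI ws hL y
    obtain ⟨hlt, hact⟩ := StemZB.smul_wordProd D hS (pt PL) (gs ws) (pi_act D PL PLI ws hS hL)
      (lw.getD c []) hlw j hj
    rw [hact]
    symm
    apply elt_smul
    · intro c' hc'
      rw [List.mem_singleton] at hc'
      rw [hc']; omega
    · rw [h1] at hlt hj
      rw [pt_val D PL PLI ws hL _ hlt, pt_val D PL PLI ws hL _ hj]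
      have := hw2 c hc j hj
      rw [strictApp_eq, wappS_eq, ← actW_eq] at this
      exact this
  rw [← key]
  apply wordProd_mem
  intro g hg
  unfold gs at hg
  rw [List.mem_map] at hg
  obtain ⟨w, hw, rfl⟩ := hg
  obtain ⟨i, hi, rfl⟩ := List.getElem_of_mem hw
  apply Subgroup.subset_closure
  refine ⟨i, by rw [h2]; exact hi, ?_⟩
  rw [gs_getD, List.getD_eq_getElem _ _ hi]

/-- the order of the stabilizer of the first point -/
theorem card_stabilizer : Nat.card (MulAction.stabilizer G (0 : Fin 6156)) = 8160 := by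
  obtain ⟨h1, _, _, _, _, _⟩ := link_facts D PL PLI ws hL
  have h := StemOrb.card_stabilizer_mul D hS (pt PL) (gs ws) (hgen D PL PLI ws lw hS hL hW)
    (pi_act D PL PLI ws hS hL) (by rw [h1]; norm_num) (pt_inj D PL PLI ws hL)
  rw [pt_zero D PL PLI ws hL, h1, card_G] at h
  omega

end link

end Cfsg.Agent.Lib.Helper6.J3M
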