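import Cfsg.Agent.Lib.Helper6.Mult.J3B

set_option autoImplicit false
set_option maxRecDepth 100000

/-! # Subgroups of the presented group `J3` generated by words: labelled-action data -/

namespace Cfsg.Agent.Lib.Helper6.J3M

open Cfsg.Agent.Lib.Helper6.TC Cfsg.Agent.Lib.Helper6.TCD
open Cfsg.Agent.Lib.Helper6.TCP.J3
open Cfsg.Agent.Lib.Helper1 Cfsg.Agent.Lib.Helper1.MatCode Cfsg.Agent.Lib.Helper1.StemSA

/-- a group generated by two elements of orders dividing `m`, `n` whose product has order
dividing `l`, with `m`, `n`, `l` pairwise coprime, is perfect -/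
theorem commutator_eq_top_of_coprime {H : Type*} [Group H] (x y : H)
    (hgen : Subgroup.closure ({x, y} : Set H) = ⊤) (m n l : ℕ) (hx : x ^ m = 1) (hy : y ^ n = 1)
    (hxy : (x * y) ^ l = 1) (hmn : Nat.Coprime m n) (hml : Nat.Coprime m l)
    (hnl : Nat.Coprime n l) : commutator H = ⊤ := by
  let π : H →* Abelianization H := Abelianization.of
  have hx' : π x ^ m = 1 := by rw [← map_pow, hx, map_one]
  have hy' : π y ^ n = 1 := by rw [← map_pow, hy, map_one]
  have hz' : (π x * π y) ^ l = 1 := by rw [← map_mul, ← map_pow, hxy, map_one]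
  have hz'' : (π x * π y) ^ (m * n) = 1 := by
    rw [mul_pow, pow_mul, hx', one_pow, mul_comm m n, pow_mul, hy', one_pow, one_mul]
  have hz : π x * π y = 1 := by
    have hd : orderOf (π x * π y) ∣ Nat.gcd l (m * n) :=
      Nat.dvd_gcd (orderOf_dvd_of_pow_eq_one hz') (orderOf_dvd_of_pow_eq_one hz'')
    have hc : Nat.Coprime l (m * n) := Nat.Coprime.mul_right hml.symm hnl.symm
    rw [hc.gcd_eq_one, Nat.dvd_one] at hd
    exact orderOf_eq_one_iff.mp hd
  have hxe : π x = (π y)⁻¹ := eq_inv_of_mul_eq_one_left hz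
  have hx1 : π x = 1 := by
    have h1 : π x ^ n = 1 := by rw [hxe, inv_pow, hy', inv_one]
    have hd : orderOf (π x) ∣ Nat.gcd m n :=
      Nat.dvd_gcd (orderOf_dvd_of_pow_eq_one hx') (orderOf_dvd_of_pow_eq_one h1)
    rw [hmn.gcd_eq_one, Nat.dvd_one] at hd
    exact orderOf_eq_one_iff.mp hd
  have hy1 : π y = 1 := by
    rw [hx1] at hxe
    rw [← inv_inj, ← hxe, inv_one]
  have hker : ∀ g : H, π g = 1 → g ∈ commutator H := by
    intro g hg
    exact (QuotientGroup.eq_one_iff (N := commutator H) g).mp hg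
  rw [eq_top_iff, ← hgen, Subgroup.closure_le]
  intro g hg
  simp only [Set.mem_insert_iff, Set.mem_singleton_iff] at hg
  rcases hg with rfl | rfl
  · exact hker _ hx1
  · exact hker _ hy1

/-- the expansion of a word in the generators into a word in the letters -/
def expand (ws : List (List ℕ)) (w : List ℕ) : List ℕ := w.flatMap fun i => ws.getD i []

theorem expand_nil (ws : List (List ℕ)) : expand ws [] = [] := rfl

theorem expand_cons (ws : List (List ℕ)) (i : ℕ) (w : List ℕ) :
    expand ws (i :: w) = ws.getD i [] ++ expand ws w := by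
  unfold expand
  rw [List.flatMap_cons]

theorem expand_lt (ws : List (List ℕ)) (hws : ∀ w ∈ ws, ∀ c ∈ w, c < 5) (w : List ℕ) :
    ∀ c ∈ expand ws w, c < 5 := by
  intro c hc
  unfold expand at hc
  rw [List.mem_flatMap] at hc
  obtain ⟨i, _, hci⟩ := hc
  by_cases hi : i < ws.length
  · rw [List.getD_eq_getElem _ _ hi] at hci
    exact hws _ (List.getElem_mem _) c hci
  · rw [List.getD_eq_default _ _ (by omega)] at hci
    simp at hci

section sub

variable (D : SAData) (PL PLI : ℕ → ℕ) (ws : List (List ℕ)) (pm : ℕ → ℕ → ℕ)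

/-- the check of the data of a subgroup generated by words: the structure -/
noncomputable def chkSubA : Bool :=
  (D.k == ws.length) && (ws.all fun w => w.all fun c => decide (c < 5)) &&
  ((List.range D.m).all fun j => decide (PL j < 6156) && (PLI (PL j) == j)) &&
  ((List.range ws.length).all fun i => (List.range D.m).all fun j =>
    pm i (PL (D.pi i j)) == PL j)

/-- the check of the data of a subgroup generated by words: the table of a generator -/
noncomputable def chkSubPm (i : ℕ) : Bool :=
  (List.range 6156).all fun q => wappS J3a.px (ws.getD i []) q == pm i q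

/-- the check of the data of a subgroup generated by words: a relation -/
noncomputable def chkSubRel (r : ℕ) : Bool :=
  (List.range 6156).all fun q =>
    wappS pm (D.rels.getD r ([], [])).1 q == wappS pm (D.rels.getD r ([], [])).2 q

/-- the check of the data of a subgroup generated by words: the order of a generator -/
noncomputable def chkSubOrd (i : ℕ) : Bool :=
  (List.range 6156).all fun q => wappS pm (List.replicate (D.ords.getD i 0) i) q == q

/-- the facts on the data of a subgroup generated by words: the tables `pm` of the generators,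
the action on the points, the relations and the orders of the generators -/
def SubFacts : Prop :=
  D.k = ws.length ∧ (∀ w ∈ ws, ∀ c ∈ w, c < 5) ∧
    (∀ j < D.m, PL j < 6156 ∧ PLI (PL j) = j) ∧
    (∀ i < ws.length, ∀ q < 6156, wapp J3a.px (ws.getD i []) q = pm i q) ∧
    (∀ i < ws.length, ∀ j < D.m, pm i (PL (D.pi i j)) = PL j) ∧
    (∀ w ∈ D.rels, ∀ q < 6156, wapp pm w.1 q = wapp pm w.2 q) ∧
    (∀ i < ws.length, ∀ q < 6156,
      wapp pm (List.replicate (D.ords.getD i 0) i) q = q)

theorem subFacts_of_parts (hA : chkSubA D PL PLI ws pm = true)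
    (hP : ∀ i < ws.length, chkSubPm ws pm i = true)
    (hR : ∀ r < D.rels.length, chkSubRel D pm r = true)
    (hO : ∀ i < ws.length, chkSubOrd D pm i = true) : SubFacts D PL PLI ws pm := by
  unfold chkSubA at hA
  simp only [Bool.and_eq_true, List.all_eq_true, decide_eq_true_eq, beq_iff_eq, List.mem_range]
    at hA
  obtain ⟨⟨⟨h1, h2⟩, h3⟩, h5⟩ := hA
  refine ⟨h1, h2, h3, fun i hi q hq => ?_, h5, fun w hw q hq => ?_, fun i hi q hq => ?_⟩
  · have h := hP i hi
    unfold chkSubPm at h
    simp only [List.all_eq_true, beq_iff_eq, List.mem_range, wappS_eq] at h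
    exact h q hq
  · obtain ⟨r, hr, rfl⟩ := List.getElem_of_mem hw
    have h := hR r hr
    unfold chkSubRel at h
    simp only [List.all_eq_true, beq_iff_eq, List.mem_range, wappS_eq] at h
    have h' := h q hq
    rwa [List.getD_eq_getElem _ _ hr] at h'
  · have h := hO i hi
    unfold chkSubOrd at h
    simp only [List.all_eq_true, beq_iff_eq, List.mem_range, wappS_eq] at h
    exact h q hq

variable (hS : D.chkStruct = true) (hC : SubFacts D PL PLI ws pm)
  (H : Subgroup G) (gsH : List ↥H)
  (hgs : ∀ i < D.k, ((gsH.getD i 1 : ↥H) : G) = elt (ws.getD i []))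

include hC

theorem sub_facts : D.k = ws.length ∧ (∀ w ∈ ws, ∀ c ∈ w, c < 5) ∧
    (∀ j < D.m, PL j < 6156 ∧ PLI (PL j) = j) ∧
    (∀ i < ws.length, ∀ q < 6156, wapp J3a.px (ws.getD i []) q = pm i q) ∧
    (∀ i < ws.length, ∀ j < D.m, pm i (PL (D.pi i j)) = PL j) ∧
    (∀ w ∈ D.rels, ∀ q < 6156, wapp pm w.1 q = wapp pm w.2 q) ∧
    (∀ i < ws.length, ∀ q < 6156,
      wapp pm (List.replicate (D.ords.getD i 0) i) q = q) := hC

theorem spt_val (j : ℕ) (hj : j < D.m) : (pt PL j).val = PL j := by
  obtain ⟨_, _, h3, _, _, _, _⟩ := sub_facts D PL PLI ws pm hC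
  unfold pt
  rw [Fin.val_ofNat, Nat.mod_eq_of_lt (h3 j hj).1]

theorem spt_inj : ∀ j < D.m, ∀ j' < D.m, pt PL j = pt PL j' → j = j' := by
  obtain ⟨_, _, h3, _, _, _, _⟩ := sub_facts D PL PLI ws pm hC
  intro j hj j' hj' h
  have h' := congrArg Fin.val h
  rw [spt_val D PL PLI ws pm hC j hj, spt_val D PL PLI ws pm hC j' hj'] at h'
  rw [← (h3 j hj).2, ← (h3 j' hj').2, h']

/-- the action of an expanded word, from the tables of the generators -/
theorem wapp_expand (w : List ℕ) (hw : ∀ i ∈ w, i < D.k) (q : ℕ) (hq : q < 6156) :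
    wapp J3a.px (expand ws w) q = wapp pm w q ∧ wapp pm w q < 6156 := by
  obtain ⟨h1, h2, _, h4, _, _, _⟩ := sub_facts D PL PLI ws pm hC
  induction w generalizing q with
  | nil => exact ⟨rfl, hq⟩
  | cons i w ih =>
    have hi : i < ws.length := by rw [← h1]; exact hw i List.mem_cons_self
    have hlt : pm i q < 6156 := by
      rw [← h4 i hi q hq]
      apply wapp_lt J3Idx.hP _ _ q hq
      apply h2
      rw [List.getD_eq_getElem _ _ hi]
      exact List.getElem_mem _
    rw [expand_cons, wapp_append, h4 i hi q hq, wapp_cons]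
    exact ih (fun i' hi' => hw i' (List.mem_cons_of_mem _ hi')) _ hlt

omit hC in
theorem coe_wordProd (w : List ℕ) (hw : ∀ i ∈ w, i < D.k)
    (hgs : ∀ i < D.k, ((gsH.getD i 1 : ↥H) : G) = elt (ws.getD i [])) :
    ((wordProd gsH w : ↥H) : G) = elt (expand ws w) := by
  induction w with
  | nil => rw [wordProd_nil, expand_nil, elt_nil]; rfl
  | cons i w ih =>
    rw [wordProd_cons, expand_cons, elt_append, Subgroup.coe_mul,
      ih (fun i' hi' => hw i' (List.mem_cons_of_mem _ hi')), hgs i (hw i List.mem_cons_self)]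

include hgs

/-- two words in the generators acting in the same way on the points give the same element -/
theorem wordProd_eq_of_pm (w w' : List ℕ) (hw : ∀ i ∈ w, i < D.k) (hw' : ∀ i ∈ w', i < D.k)
    (h : ∀ q < 6156, wapp pm w q = wapp pm w' q) : wordProd gsH w = wordProd gsH w' := by
  obtain ⟨h1, h2, _, _, _, _, _⟩ := sub_facts D PL PLI ws pm hC
  apply Subtype.ext
  rw [coe_wordProd D ws H gsH w hw hgs, coe_wordProd D ws H gsH w' hw' hgs]
  apply elt_eq_of_wapp _ _ (expand_lt ws h2 _) (expand_lt ws h2 _)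
  intro q hq
  rw [(wapp_expand D PL PLI ws pm hC w hw q hq).1, (wapp_expand D PL PLI ws pm hC w' hw' q hq).1]
  exact h q hq

include hS

theorem spi_act : ∀ i < D.k, ∀ j < D.m, gsH.getD i 1 • pt PL j = pt PL (D.pi i j) := by
  obtain ⟨h1, h2, h3, h4, h5, _, _⟩ := sub_facts D PL PLI ws pm hC
  intro i hi j hj
  have hlt : D.pi i j < D.m := pi_lt D hS i j hi hj
  show ((gsH.getD i 1 : ↥H) : G) • pt PL j = _
  rw [hgs i hi]
  rw [h1] at hi
  apply elt_smul
  · apply h2
    rw [List.getD_eq_getElem _ _ hi]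
    exact List.getElem_mem _
  · rw [spt_val D PL PLI ws pm hC _ hlt, spt_val D PL PLI ws pm hC _ hj,
      h4 i hi _ (h3 _ hlt).1]
    exact h5 i hi j hj

theorem srel : ∀ w ∈ D.rels, wordProd gsH w.1 = wordProd gsH w.2 := by
  obtain ⟨_, _, _, _, _, h6, _⟩ := sub_facts D PL PLI ws pm hC
  intro w hw
  obtain ⟨hw1, hw2⟩ := rels_lt D hS w hw
  exact wordProd_eq_of_pm D PL PLI ws pm hC H gsH hgs w.1 w.2 hw1 hw2 (h6 w hw)

omit hS in
theorem spow : ∀ i < D.k, (gsH.getD i 1) ^ (D.ords.getD i 0) = 1 := by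
  obtain ⟨h1, _, _, _, _, _, h7⟩ := sub_facts D PL PLI ws pm hC
  intro i hi
  have h := wordProd_eq_of_pm D PL PLI ws pm hC H gsH hgs (List.replicate (D.ords.getD i 0) i) []
    (by intro i' hi'; rw [List.mem_replicate] at hi'; rw [hi'.2]; exact hi) (by simp)
    (fun q hq => by rw [h7 i (by rw [← h1]; exact hi) q hq]; rfl)
  rwa [StemSA.wordProd_replicate, wordProd_nil] at h

end sub

end Cfsg.Agent.Lib.Helper6.J3M
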