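import Cfsg.Agent.Lib.Helper6.Mult.J3C
import Cfsg.Agent.Lib.Helper6.MultD.J3Kp2Act
import Cfsg.Agent.Lib.Helper6.MultD.J3KM
import Cfsg.Agent.Lib.Helper6.MultD.J3Kp2H
import Cfsg.Agent.Lib.Helper6.MultD.J3p2L
import Cfsg.Agent.Lib.Helper6.MultD.J3p2H

set_option autoImplicit false
set_option maxRecDepth 100000

/-! # The subgroup `L2(16)` of the presented group `J3` -/

namespace Cfsg.Agent.Lib.Helper6.J3M

open Cfsg.Agent.Lib.Helper6.TC Cfsg.Agent.Lib.Helper6.TCD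
open Cfsg.Agent.Lib.Helper6.TCP.J3 Cfsg.Agent.Lib.Helper6.MultD
open Cfsg.Agent.Lib.Helper1 Cfsg.Agent.Lib.Helper1.MatCode Cfsg.Agent.Lib.Helper1.StemSA

/-- the stabilizer of the first point, a group `L2(16):2` -/
noncomputable abbrev K : Subgroup G := MulAction.stabilizer G (0 : Fin 6156)

theorem card_K : Nat.card K = 8160 :=
  card_stabilizer DJ3p2 PLJ3p2 PLIJ3p2 wsJ3p2 lwJ3p2 chk_structJ3p2 chk_linkJ3p2 chk_lettersJ3p2

/-- the two generators of the subgroup, of orders 3 and 17 -/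
noncomputable def gu : G := elt (wsJ3Kp2.getD 0 [])

noncomputable def gv : G := elt (wsJ3Kp2.getD 1 [])

/-- the subgroup `L2(16)` -/
def K1 : Subgroup G := Subgroup.closure {gu, gv}

theorem gu_mem : gu ∈ K1 := Subgroup.subset_closure (by simp)

theorem gv_mem : gv ∈ K1 := Subgroup.subset_closure (by simp)

/-- the generators, in the subgroup -/
noncomputable def gsK : List ↥K1 := [⟨gu, gu_mem⟩, ⟨gv, gv_mem⟩]

theorem hgsK : ∀ i < DJ3Kp2.k, ((gsK.getD i 1 : ↥K1) : G) = elt (wsJ3Kp2.getD i []) := by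
  intro i hi
  have hi' : i < 2 := hi
  interval_cases i <;> rfl

theorem gsK_set : {g : ↥K1 | ∃ i < DJ3Kp2.k, g = gsK.getD i 1} =
    {gsK.getD 0 1, gsK.getD 1 1} := by
  ext g
  simp only [Set.mem_insert_iff, Set.mem_singleton_iff, Set.mem_ofPred_eq]
  constructor
  · rintro ⟨i, hi, rfl⟩
    have hi' : i < 2 := hi
    interval_cases i
    · exact Or.inl rfl
    · exact Or.inr rfl
  · rintro (rfl | rfl)
    · exact ⟨0, by decide, rfl⟩
    · exact ⟨1, by decide, rfl⟩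

theorem hgenK : Subgroup.closure {g : ↥K1 | ∃ i < DJ3Kp2.k, g = gsK.getD i 1} = ⊤ := by
  have e : {g : ↥K1 | ∃ i < DJ3Kp2.k, g = gsK.getD i 1} =
      ((↑) : ↥K1 → G) ⁻¹' ({gu, gv} : Set G) := by
    ext g
    simp only [Set.mem_ofPred_eq, Set.mem_preimage, Set.mem_insert_iff, Set.mem_singleton_iff]
    constructor
    · rintro ⟨i, hi, rfl⟩
      have hi' : i < 2 := hi
      interval_cases i
      · exact Or.inl rfl
      · exact Or.inr rfl
    · rintro (h | h)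
      · exact ⟨0, by decide, Subtype.ext h⟩
      · exact ⟨1, by decide, Subtype.ext h⟩
  rw [e]
  exact Subgroup.closure_closure_coe_preimage

theorem fix_chk : wapp J3a.px (wsJ3Kp2.getD 0 []) 0 = 0 ∧ wapp J3a.px (wsJ3Kp2.getD 1 []) 0 = 0 ∧
    wapp J3a.px [3] 0 = 0 := by decide +kernel

theorem ws_lt : ∀ w ∈ wsJ3Kp2, ∀ c ∈ w, c < 5 := by decide

theorem K1_le_K : K1 ≤ K := by
  unfold K1
  rw [Subgroup.closure_le]
  intro g hg
  simp only [Set.mem_insert_iff, Set.mem_singleton_iff] at hg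
  rw [SetLike.mem_coe, MulAction.mem_stabilizer_iff]
  rcases hg with rfl | rfl
  · exact elt_smul _ (ws_lt _ (by decide)) 0 0 fix_chk.1
  · exact elt_smul _ (ws_lt _ (by decide)) 0 0 fix_chk.2.1

instance finite_K1 : Finite ↥K1 := inferInstance

/-- the points of the orbit of 120 points -/
abbrev ptK (j : ℕ) : Fin 6156 := pt PLJ3Kp2 j

theorem pi_actK : ∀ i < DJ3Kp2.k, ∀ j < DJ3Kp2.m, gsK.getD i 1 • ptK j = ptK (DJ3Kp2.pi i j) :=
  spi_act DJ3Kp2 PLJ3Kp2 PLIJ3Kp2 wsJ3Kp2 pmJ3Kp2 chk_structJ3Kp2 sub_factsJ3Kp2 K1 gsK hgsK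

theorem hrelK : ∀ w ∈ DJ3Kp2.rels, wordProd gsK w.1 = wordProd gsK w.2 :=
  srel DJ3Kp2 PLJ3Kp2 PLIJ3Kp2 wsJ3Kp2 pmJ3Kp2 chk_structJ3Kp2 sub_factsJ3Kp2 K1 gsK hgsK

theorem hpowK : ∀ i < DJ3Kp2.k, (gsK.getD i 1) ^ (DJ3Kp2.ords.getD i 0) = 1 :=
  spow DJ3Kp2 PLJ3Kp2 PLIJ3Kp2 wsJ3Kp2 pmJ3Kp2 sub_factsJ3Kp2 K1 gsK hgsK

theorem ptK_inj : ∀ j < DJ3Kp2.m, ∀ j' < DJ3Kp2.m, ptK j = ptK j' → j = j' :=
  spt_inj DJ3Kp2 PLJ3Kp2 PLIJ3Kp2 wsJ3Kp2 pmJ3Kp2 sub_factsJ3Kp2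

/-- the subgroup is perfect -/
theorem K1_perfect : commutator ↥K1 = ⊤ := by
  have hx : (gsK.getD 0 1) ^ 3 = 1 := hpowK 0 (by decide)
  have hy : (gsK.getD 1 1) ^ 17 = 1 := hpowK 1 (by decide)
  have hr : wordProd gsK [1, 0, 1] = wordProd gsK [0, 0] := hrelK ([1, 0, 1], [0, 0]) (by decide)
  simp only [wordProd_cons, wordProd_nil, mul_one] at hr
  apply commutator_eq_top_of_coprime (gsK.getD 0 1) (gsK.getD 1 1) ?_ 3 17 2 hx hy ?_
    (by norm_num) (by norm_num) (by norm_num)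
  · rw [← hgenK, gsK_set]
  · rw [pow_two]
    calc gsK.getD 0 1 * gsK.getD 1 1 * (gsK.getD 0 1 * gsK.getD 1 1)
        = gsK.getD 0 1 * (gsK.getD 1 1 * gsK.getD 0 1 * gsK.getD 1 1) := by group
      _ = gsK.getD 0 1 * (gsK.getD 0 1 * gsK.getD 0 1) := by rw [mul_assoc (gsK.getD 1 1), hr]
      _ = (gsK.getD 0 1) ^ 3 := by rw [pow_succ, pow_two, mul_assoc]
      _ = 1 := hx

/-! ## The subgroup is proper in the stabilizer -/

/-- membership of a point in the orbit of 680 points -/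
def inMask (p : Fin 6156) : Bool := maskJ3K.testBit p.val

/-- the stabilizer of the orbit of 680 points -/
def SM : Subgroup G where
  carrier := {g | ∀ p : Fin 6156, inMask (g • p) = inMask p}
  one_mem' := fun p => by rw [one_smul]
  mul_mem' := fun {a b} ha hb p => by rw [mul_smul, ha, hb]
  inv_mem' := fun {a} ha p => by
    have := ha (a⁻¹ • p)
    rw [smul_inv_smul] at this
    exact this.symm

theorem chk_mask : ((List.range 6156).all fun q =>
    (maskJ3K.testBit (pmJ3Kp2 0 q) == maskJ3K.testBit q) &&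
    (maskJ3K.testBit (pmJ3Kp2 1 q) == maskJ3K.testBit q)) = true ∧
    maskJ3K.testBit (J3a.px 3 badJ3K) ≠ maskJ3K.testBit badJ3K := by decide +kernel

theorem inv_elt_smul_val (w : List ℕ) (hw : ∀ c ∈ w, c < 5) (p : Fin 6156) :
    ((elt w)⁻¹ • p).val = wapp J3a.px w p.val := by
  rw [smul_def, map_inv]
  exact phi_inv_val w hw p

theorem elt_mem_SM (i : ℕ) (hi : i < 2) : elt (wsJ3Kp2.getD i []) ∈ SM := by
  have h := chk_mask.1
  simp only [List.all_eq_true, List.mem_range, Bool.and_eq_true, beq_iff_eq] at h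
  obtain ⟨_, _, _, h4, _, _, _⟩ := sub_factsJ3Kp2
  have hi' : i < wsJ3Kp2.length := hi
  have hw : ∀ c ∈ wsJ3Kp2.getD i [], c < 5 := by
    apply ws_lt
    rw [List.getD_eq_getElem _ _ hi']
    exact List.getElem_mem _
  rw [← inv_inv (elt _)]
  apply SM.inv_mem
  intro p
  unfold inMask
  rw [inv_elt_smul_val _ hw, h4 i hi' p.val p.isLt]
  interval_cases i
  · exact (h p.val p.isLt).1
  · exact (h p.val p.isLt).2

theorem K1_le_SM : K1 ≤ SM := by
  unfold K1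
  rw [Subgroup.closure_le]
  intro g hg
  simp only [Set.mem_insert_iff, Set.mem_singleton_iff] at hg
  rcases hg with rfl | rfl
  · exact elt_mem_SM 0 (by norm_num)
  · exact elt_mem_SM 1 (by norm_num)

theorem c_mem_K : elt [3] ∈ K := by
  rw [MulAction.mem_stabilizer_iff]
  exact elt_smul _ (by decide) 0 0 fix_chk.2.2

theorem c_not_mem_SM : elt [3] ∉ SM := by
  intro h
  have h' := SM.inv_mem h (Fin.ofNat 6156 badJ3K)
  unfold inMask at h'
  rw [inv_elt_smul_val _ (by decide)] at h'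
  exact chk_mask.2 h'

theorem K1_ne_K : K1 ≠ K := by
  intro h
  apply c_not_mem_SM
  apply K1_le_SM
  rw [h]
  exact c_mem_K

/-! ## The order of the subgroup -/

/-- the stabilizer of a point of the orbit of 120 points, in the subgroup -/
noncomputable abbrev KS : Subgroup ↥K1 := MulAction.stabilizer ↥K1 (ptK 0)

theorem card_KS_mul : Nat.card KS * 120 = Nat.card ↥K1 :=
  StemOrb.card_stabilizer_mul DJ3Kp2 chk_structJ3Kp2 ptK gsK hgenK pi_actK (by decide) ptK_inj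

/-- the involution of the stabilizer -/
noncomputable def gt : ↥K1 := wordProd gsK twJ3Kp2

theorem tw_lt : ∀ i ∈ twJ3Kp2, i < DJ3Kp2.k := by decide

theorem chk_pts : DJ3Kp2.pi 1 0 = 0 ∧ DJ3Kp2.pi 1 1 ≠ 1 ∧ DJ3Kp2.actW twJ3Kp2 0 = 0 ∧
    DJ3Kp2.actW twJ3Kp2 1 ≠ 1 := by decide +kernel

theorem chk_tw : ((List.range 6156).all fun q =>
    wappS pmJ3Kp2 (twJ3Kp2 ++ twJ3Kp2) q == q) = true := by decide +kernel

theorem gv_mem_KS : gsK.getD 1 1 ∈ KS := by
  rw [MulAction.mem_stabilizer_iff, pi_actK 1 (by decide) 0 (by decide), chk_pts.1]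

theorem gv_ne_one : gsK.getD 1 1 ≠ 1 := by
  intro h
  have h1 := pi_actK 1 (by decide) 1 (by decide)
  rw [h, one_smul] at h1
  exact chk_pts.2.1 (ptK_inj _ (by decide) _ (by decide) h1).symm

theorem gt_smul (j : ℕ) (hj : j < DJ3Kp2.m) : gt • ptK j = ptK (DJ3Kp2.actW twJ3Kp2 j) :=
  (StemZB.smul_wordProd DJ3Kp2 chk_structJ3Kp2 ptK gsK pi_actK twJ3Kp2 tw_lt j hj).2

theorem gt_mem_KS : gt ∈ KS := by
  rw [MulAction.mem_stabilizer_iff, gt_smul 0 (by decide), chk_pts.2.2.1]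

theorem gt_ne_one : gt ≠ 1 := by
  intro h
  have h1 := gt_smul 1 (by decide)
  have hlt := (StemZB.smul_wordProd DJ3Kp2 chk_structJ3Kp2 ptK gsK pi_actK twJ3Kp2 tw_lt 1
    (by decide)).1
  rw [h, one_smul] at h1
  exact chk_pts.2.2.2 (ptK_inj _ (by decide) _ hlt h1).symm

theorem gt_sq : gt ^ 2 = 1 := by
  have h := chk_tw
  simp only [List.all_eq_true, List.mem_range, beq_iff_eq, wappS_eq] at h
  have h1 := wordProd_eq_of_pm DJ3Kp2 PLJ3Kp2 PLIJ3Kp2 wsJ3Kp2 pmJ3Kp2 sub_factsJ3Kp2 K1 gsK hgsK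
    (twJ3Kp2 ++ twJ3Kp2) [] (by decide) (by simp) (fun q hq => by rw [h q hq]; rfl)
  rw [wordProd_append, wordProd_nil] at h1
  rw [pow_two]
  exact h1

theorem orderOf_gv : orderOf (gsK.getD 1 1) = 17 := by
  haveI : Fact (Nat.Prime 17) := ⟨by norm_num⟩
  exact orderOf_eq_prime (hpowK 1 (by decide)) gv_ne_one

theorem orderOf_gt : orderOf gt = 2 := by
  haveI : Fact (Nat.Prime 2) := ⟨by norm_num⟩
  exact orderOf_eq_prime gt_sq gt_ne_one

theorem dvd_card_KS : 34 ∣ Nat.card KS := by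
  have h17 : 17 ∣ Nat.card KS := by
    have := Subgroup.orderOf_dvd_natCard KS gv_mem_KS
    rwa [orderOf_gv] at this
  have h2 : 2 ∣ Nat.card KS := by
    have := Subgroup.orderOf_dvd_natCard KS gt_mem_KS
    rwa [orderOf_gt] at this
  exact Nat.Coprime.mul_dvd_of_dvd_of_dvd (by norm_num) h2 h17

theorem card_K1 : Nat.card ↥K1 = 4080 := by
  have h1 := card_KS_mul
  obtain ⟨c, hc⟩ := dvd_card_KS
  have h2 : Nat.card ↥K1 ∣ Nat.card ↥K := Subgroup.card_dvd_of_le K1_le_K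
  rw [card_K, ← h1, hc] at h2
  obtain ⟨d, hd⟩ := h2
  have hcd : c * d = 2 := by
    have : 4080 * (c * d) = 4080 * 2 := by rw [show (8160 : ℕ) = 4080 * 2 by norm_num] at hd; linarith
    exact Nat.eq_of_mul_eq_mul_left (by norm_num) this
  have hc12 : c = 1 ∨ c = 2 := by
    have hdvd : c ∣ 2 := ⟨d, hcd.symm⟩
    have hle := Nat.le_of_dvd (by norm_num) hdvd
    have hc0 : c ≠ 0 := by rintro rfl; simp at hcd
    interval_cases c
    · exact absurd rfl hc0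
    · exact Or.inl rfl
    · exact Or.inr rfl
  rcases hc12 with rfl | rfl
  · rw [← h1, hc]
  · exfalso
    apply K1_ne_K
    apply Subgroup.eq_of_le_of_card_ge K1_le_K
    rw [card_K, ← h1, hc]

theorem card_KS : Nat.card KS = 34 := by
  have h1 := card_KS_mul
  rw [card_K1] at h1
  omega

end Cfsg.Agent.Lib.Helper6.J3M
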