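import Cfsg.Agent.Lib.Helper6.Spor.J3GL2
import Cfsg.Agent.Lib.Helper1.Stem14

set_option autoImplicit false

/-! # The presented group `J3`: the isomorphism with the central quotient of the matrix group of
the definitions over any field with four elements, and the triple cover as a stem extension -/

namespace Cfsg.Agent.Lib.Helper6.J3M.Tr

open Matrix Cfsg.Spor Cfsg.Agent.Lib.Helper1.Hexa Cfsg.Agent.Lib.Helper6.J3GL
open Cfsg.Agent.Lib.Helper6 Cfsg.Agent.Lib.Helper6.Simp Cfsg.Agent.Lib.Helper1.MatCode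

open scoped commutatorElement

universe u

section transfer
variable {F : Type u} [Field F]

theorem two_eq_zero [Fintype F] (hF : Fintype.card F = 4) : (2 : F) = 0 := by
  have h4 : ((Fintype.card F : ℕ) : F) = 0 := Nat.cast_card_eq_zero F
  rw [hF] at h4
  have h : (2 : F) * 2 = 0 := by
    rw [← h4]
    norm_num
  exact mul_self_eq_zero.mp h

theorem exists_sigma [Fintype F] (hF : Fintype.card F = 4) (ω : F) (hω : ω ^ 2 + ω + 1 = 0) :
    ∃ σ : F4 ≃+* F, σ F4.w = ω := by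
  have h2 := two_eq_zero hF
  let τ : F4 ≃+* F := FiniteField.ringEquivOfCardEq (by rw [hF]; rfl)
  have hx : (τ F4.w) ^ 2 + τ F4.w + 1 = 0 := by
    rw [← map_pow, ← map_add, ← map_one τ, ← map_add, F4.w_root, map_zero]
  have hprod : (τ F4.w - ω) * (τ F4.w - ω - 1) = 0 := by
    linear_combination hx + hω - (τ F4.w + ω * τ F4.w + 1) * h2
  rcases mul_eq_zero.mp hprod with h | h
  · exact ⟨τ, sub_eq_zero.mp h⟩
  · refine ⟨frobEquiv.trans τ, ?_⟩
    have hτ : τ F4.w = ω + 1 := by linear_combination h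
    have hw2 : (F4.w2 : F4) = F4.w ^ 2 := by decide
    show τ (frobEquiv F4.w) = ω
    rw [frobEquiv_w, hw2, map_pow, hτ]
    linear_combination hω

variable (σ : F4 ≃+* F) (ω : F)

theorem map_A (hσ : σ F4.w = ω) (Z : F9) : (j3A F4 F4.w Z).map σ = j3A F ω Z := by
  unfold j3A
  rw [Matrix.diagonal_map (map_zero σ)]
  congr 1
  funext z
  unfold omegaPow
  rw [map_pow, hσ]

theorem map_E (hσ : σ F4.w = ω) (Z : F9) : (j3E F4 F4.w Z).map σ = j3E F ω Z := by
  unfold j3E
  rw [Matrix.diagonal_map (map_zero σ)]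
  congr 1
  funext z
  unfold omegaPow
  rw [map_pow, hσ]

theorem map_lam (hσ : σ F4.w = ω) (Z z : F9) : σ (j3Lam F4 F4.w Z z) = j3Lam F ω Z z := by
  unfold j3Lam
  split_ifs
  · exact map_one σ
  · exact hσ
  · rw [map_pow, hσ]
  · exact map_one σ

theorem map_D (hσ : σ F4.w = ω) (Z : F9) : (j3D F4 F4.w Z).map σ = j3D F ω Z := by
  ext i j
  simp only [j3D, Matrix.map_apply, Matrix.of_apply]
  split_ifs
  · exact map_lam σ ω hσ Z j
  · exact map_zero σ

theorem map_B (Z : F9) : (j3B F4 Z).map σ = j3B F Z := by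
  ext i j
  simp only [j3B, Matrix.map_apply, Matrix.of_apply]
  split_ifs
  · exact map_one σ
  · exact map_zero σ

theorem map_C (Z : F9) : (j3C F4 Z).map σ = j3C F Z := by
  ext i j
  simp only [j3C, Matrix.map_apply, Matrix.of_apply]
  split_ifs <;> first | exact map_one σ | exact map_zero σ

theorem mem_gens_iff (hσ : σ F4.w = ω) (M : Matrix F9 F9 F4) :
    M ∈ j3Gens F4 F4.w ↔ M.map σ ∈ j3Gens F ω := by
  have hinj : Function.Injective (fun M : Matrix F9 F9 F4 => M.map σ) :=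
    Matrix.map_injective σ.injective
  constructor
  · rintro ((((⟨Z, rfl⟩ | ⟨Z, rfl⟩) | ⟨Z, rfl⟩) | ⟨Z, hZ0, rfl⟩) | ⟨Z, hZ0, rfl⟩)
    · exact Or.inl (Or.inl (Or.inl (Or.inl ⟨Z, (map_A σ ω hσ Z).symm⟩)))
    · exact Or.inl (Or.inl (Or.inl (Or.inr ⟨Z, (map_E σ ω hσ Z).symm⟩)))
    · exact Or.inl (Or.inl (Or.inr ⟨Z, (map_D σ ω hσ Z).symm⟩))
    · exact Or.inl (Or.inr ⟨Z, hZ0, map_B σ Z⟩)
    · exact Or.inr ⟨Z, hZ0, map_C σ Z⟩
  · rintro ((((⟨Z, hZ⟩ | ⟨Z, hZ⟩) | ⟨Z, hZ⟩) | ⟨Z, hZ0, hZ⟩) | ⟨Z, hZ0, hZ⟩)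
    · exact Or.inl (Or.inl (Or.inl (Or.inl ⟨Z, hinj (by
        show (j3A F4 F4.w Z).map σ = M.map σ
        rw [map_A σ ω hσ Z]; exact hZ)⟩)))
    · exact Or.inl (Or.inl (Or.inl (Or.inr ⟨Z, hinj (by
        show (j3E F4 F4.w Z).map σ = M.map σ
        rw [map_E σ ω hσ Z]; exact hZ)⟩)))
    · exact Or.inl (Or.inl (Or.inr ⟨Z, hinj (by
        show (j3D F4 F4.w Z).map σ = M.map σ
        rw [map_D σ ω hσ Z]; exact hZ)⟩))
    · exact Or.inl (Or.inr ⟨Z, hZ0, hinj (by
        show M.map σ = (j3B F4 Z).map σ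
        rw [map_B σ Z]; exact hZ)⟩)
    · exact Or.inr ⟨Z, hZ0, hinj (by
        show M.map σ = (j3C F4 Z).map σ
        rw [map_C σ Z]; exact hZ)⟩

/-- the isomorphism of the general linear groups -/
def theta : GL F9 F4 ≃* GL F9 F := Units.mapEquiv (σ.mapMatrix (m := F9)).toMulEquiv

theorem theta_val (g : GL F9 F4) : (theta σ g).val = g.val.map σ := rfl

theorem map_threeJ3 (hσ : σ F4.w = ω) :
    (threeJ3 F4 F4.w).map (theta σ).toMonoidHom = threeJ3 F ω := by
  unfold threeJ3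
  rw [MonoidHom.map_closure]
  congr 1
  ext h
  constructor
  · rintro ⟨g, hg, rfl⟩
    show (theta σ g).val ∈ j3Gens F ω
    rw [theta_val]
    exact (mem_gens_iff σ ω hσ g.val).1 hg
  · intro hh
    refine ⟨(theta σ).symm h, ?_, MulEquiv.apply_symm_apply (theta σ) h⟩
    show ((theta σ).symm h).val ∈ j3Gens F4 F4.w
    rw [mem_gens_iff σ ω hσ, ← theta_val, MulEquiv.apply_symm_apply]
    exact hh

end transfer

/-- the central quotient of the matrix group over the model of the field is the presented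
group -/
theorem nonempty_equiv_M4 : Nonempty (M4 ⧸ Subgroup.center M4 ≃* TCP.J3.G) := by
  obtain ⟨_, ⟨e⟩⟩ := central_ext Z0 Z0_le_center beta beta_injective center_J3
  have e1 : M4 ≃* preim Z0 beta := MulEquiv.subgroupCongr M4_eq
  have e2 : M4 ⧸ Subgroup.center M4 ≃* (preim Z0 beta) ⧸ Subgroup.center (preim Z0 beta) :=
    QuotientGroup.congr (Subgroup.center M4) (Subgroup.center (preim Z0 beta)) e1 (map_center e1)
  exact ⟨e2.trans e⟩

/-- the central quotient of the matrix group of the definitions over any field with four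
elements is the presented group -/
theorem nonempty_equiv {F : Type u} [Field F] [Fintype F] (hF : Fintype.card F = 4) (ω : F)
    (hω : ω ^ 2 + ω + 1 = 0) : Nonempty (TCP.J3.G ≃* Cfsg.Spor.J3 F ω) := by
  obtain ⟨σ, hσ⟩ := exists_sigma hF ω hω
  obtain ⟨e0⟩ := nonempty_equiv_M4
  have e1 : M4 ≃* M4.map (theta σ).toMonoidHom := (theta σ).subgroupMap M4
  have e2 : M4.map (theta σ).toMonoidHom ≃* threeJ3 F ω :=
    MulEquiv.subgroupCongr (map_threeJ3 σ ω hσ)
  have e3 : M4 ⧸ Subgroup.center M4 ≃* threeJ3 F ω ⧸ Subgroup.center (threeJ3 F ω) :=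
    QuotientGroup.congr (Subgroup.center M4) (Subgroup.center (threeJ3 F ω)) (e1.trans e2)
      (map_center (e1.trans e2))
  exact ⟨e0.symm.trans e3⟩

/-- the central element of order 3, in the matrix group -/
def gZ' : M4 := ⟨gZ, Z0_le_M4 (Subgroup.mem_zpowers gZ)⟩

theorem gZ'_mem_center : gZ' ∈ Subgroup.center M4 := by
  rw [Subgroup.mem_center_iff]
  intro x
  apply Subtype.ext
  have h := Subgroup.mem_center_iff.mp gZ_central x.val
  exact h

theorem gZ'_comm : gZ' = ⁅(⟨u0, u0_mem⟩ : M4), (⟨u3, u3_mem⟩ : M4)⁆ := by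
  apply Subtype.ext
  show gZ = u0 * u3 * u0⁻¹ * u3⁻¹
  unfold gZ
  simp [wordProd, G14, mul_assoc]

theorem center_M4_eq : Subgroup.center M4 = Subgroup.zpowers gZ' := by
  symm
  haveI : Finite M4 := Nat.finite_of_card_ne_zero (by rw [main.2.1]; norm_num)
  apply Subgroup.eq_of_le_of_card_ge (Subgroup.zpowers_le.2 gZ'_mem_center)
  rw [main.1, Nat.card_zpowers]
  haveI : Fact (Nat.Prime 3) := ⟨by norm_num⟩
  have h3 : gZ' ^ 3 = 1 := Subtype.ext (by
    show gZ ^ 3 = 1
    exact gZ_pow_three)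
  have h1 : gZ' ≠ 1 := fun h => gZ_ne_one (congrArg Subtype.val h)
  rw [orderOf_eq_prime h3 h1]

theorem center_M4_le_commutator : Subgroup.center M4 ≤ commutator M4 := by
  rw [center_M4_eq, Subgroup.zpowers_le, gZ'_comm, commutator_def]
  exact Subgroup.commutator_mem_commutator (Subgroup.mem_top _) (Subgroup.mem_top _)

/-- the triple cover of the presented group, as a stem extension -/
theorem exists_cover : ∃ (Γ₀ : Type) (_ : Group Γ₀) (_ : Finite Γ₀) (σ : Γ₀ →* TCP.J3.G),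
    Cfsg.IsStemExtension σ ∧ IsCyclic σ.ker ∧ Nat.card σ.ker = 3 := by
  obtain ⟨e0⟩ := nonempty_equiv_M4
  haveI : Finite M4 := Nat.finite_of_card_ne_zero (by rw [main.2.1]; norm_num)
  let σ : M4 →* TCP.J3.G := e0.toMonoidHom.comp (QuotientGroup.mk' (Subgroup.center M4))
  have hker : σ.ker = Subgroup.center M4 := by
    ext x
    rw [MonoidHom.mem_ker]
    show e0 (QuotientGroup.mk' (Subgroup.center M4) x) = 1 ↔ _
    rw [MulEquiv.map_eq_one_iff, QuotientGroup.mk'_apply, QuotientGroup.eq_one_iff]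
  refine ⟨M4, inferInstance, inferInstance, σ, ⟨?_, ?_, ?_⟩, ?_, ?_⟩
  · exact e0.surjective.comp (QuotientGroup.mk'_surjective _)
  · rw [hker]
  · rw [hker]; exact center_M4_le_commutator
  · haveI : Fact (Nat.Prime 3) := ⟨by norm_num⟩
    exact isCyclic_of_prime_card (p := 3) (by rw [hker]; exact main.1)
  · rw [hker]; exact main.1

end Cfsg.Agent.Lib.Helper6.J3M.Tr
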