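import Cfsg.Agent.Lib.Helper6.Mult.J3D
import Cfsg.Agent.Lib.Helper6.Mult.J3G
import Cfsg.Agent.Lib.Helper6.Mult.CycP
import Cfsg.Agent.Lib.Helper6.MultD.J3Kp2I
import Cfsg.Agent.Lib.Helper6.MultD.J3p2I
import Cfsg.Agent.Lib.Helper6.MultD.J3p2Act
import Cfsg.Agent.Lib.Helper6.MultD.J3p3I
import Cfsg.Agent.Lib.Helper6.MultD.J3p3Act
import Cfsg.Agent.Lib.Helper6.MultD.J3p3L
import Cfsg.Agent.Lib.Helper1.StemZP6
import Cfsg.Agent.Lib.Helper1.StemZP7
import Cfsg.Agent.Lib.Helper1.Stem14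
import Cfsg.Agent.Lib.Helper1.Stem17
import Cfsg.Agent.Lib.Helper1.Stem21

set_option autoImplicit false
set_option maxRecDepth 100000

/-! # The Schur multiplier of the presented group `J3` is cyclic of order 3 -/

namespace Cfsg.Agent.Lib.Helper6.J3M

open Cfsg.Agent.Lib.Helper6.TC Cfsg.Agent.Lib.Helper6.TCD
open Cfsg.Agent.Lib.Helper6.TCP.J3 Cfsg.Agent.Lib.Helper6.MultD
open Cfsg.Agent.Lib.Helper1 Cfsg.Agent.Lib.Helper1.MatCode Cfsg.Agent.Lib.Helper1.StemSA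

universe u

/-! ## The stem extensions of the subgroup `L2(16)` -/

/-- the element of order 17, in the stabilizer of a point of the orbit of 120 points -/
noncomputable def vS : KS := ⟨gsK.getD 1 1, gv_mem_KS⟩

/-- the involution, in the stabilizer of a point of the orbit of 120 points -/
noncomputable def tS : KS := ⟨gt, gt_mem_KS⟩

theorem orderOf_tS : orderOf tS = 2 ^ 1 := by
  rw [pow_one, ← orderOf_gt]
  exact Subgroup.orderOf_mk gt gt_mem_KS

/-- the subgroup of order 17 of the stabilizer -/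
noncomputable def NS : Subgroup KS := Subgroup.zpowers vS

theorem card_NS : Nat.card NS = 17 := by
  rw [NS, Nat.card_zpowers, ← orderOf_gv]
  exact Subgroup.orderOf_mk _ gv_mem_KS

theorem index_NS : NS.index = 2 := by
  have h := Subgroup.card_mul_index NS
  rw [card_NS, card_KS] at h
  omega

instance NS_normal : NS.Normal := Subgroup.normal_of_index_eq_two index_NS

theorem comm_quot_NS : ∀ x y : KS ⧸ NS, x * y = y * x := by
  have hc : Nat.card (KS ⧸ NS) = 2 := by rw [← Subgroup.index_eq_card, index_NS]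
  haveI : IsCyclic (KS ⧸ NS) := isCyclic_of_prime_card (p := 2) hc
  intro x y
  letI := IsCyclic.commGroup (α := KS ⧸ NS)
  exact mul_comm x y

theorem hoddK (p : ℕ) (h3 : Nat.Coprime 3 p) (h17 : Nat.Coprime 17 p) : ∀ i < DJ3Kp2.k,
    Nat.Coprime (DJ3Kp2.ords.getD i 0) p ∧ (gsK.getD i 1) ^ (DJ3Kp2.ords.getD i 0) = 1 := by
  intro i hi
  refine ⟨?_, hpowK i hi⟩
  have hi' : i < 2 := hi
  interval_cases i
  · exact h3
  · exact h17

/-- a stem extension of the subgroup whose kernel is a 2-group is trivial -/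
theorem K1_bound2 (Γ' : Type u) [Group Γ'] [Finite Γ'] (σ' : Γ' →* ↥K1)
    (hσ' : Cfsg.IsStemExtension σ') (hk : IsPGroup 2 σ'.ker) : Nat.card σ'.ker ≤ 1 := by
  obtain ⟨a, ha⟩ := IsPGroup.iff_card.mp hk
  have hV : StemZP.ValsBound.{u} DJ3Kp2 2 1 :=
    StemZP.valsBound_of_certR DJ3Kp2 CJ3Kp2 chk_certJ3Kp2
  have h := StemZP.card_ker_mul_le_powP 2 DJ3Kp2 1 hV chk_structJ3Kp2 (by decide) ptK gsK hgenK
    (fun j hj h => ptK_inj j hj 0 (by decide) h) pi_actK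
    (hoddK 2 (by norm_num) (by norm_num)) hrelK 1 17 (by norm_num) (by norm_num) KS rfl
    (by rw [card_KS]; norm_num) tS orderOf_tS NS card_NS comm_quot_NS Γ' σ' hσ' a ha
  omega

/-- a stem extension of the subgroup whose kernel is a 3-group is trivial -/
theorem K1_bound3 (Γ' : Type u) [Group Γ'] [Finite Γ'] (σ' : Γ' →* ↥K1)
    (hσ' : Cfsg.IsStemExtension σ') (hk : IsPGroup 3 σ'.ker) : Nat.card σ'.ker ≤ 1 := by
  haveI : Fact (Nat.Prime 3) := ⟨Nat.prime_three⟩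
  have h := Stem.card_ker_eq_one_of_not_sq_dvd σ' hσ' 3 hk (by rw [card_K1]; norm_num)
  omega

/-! ## The quotient of the stabilizer by the subgroup -/

/-- the subgroup `L2(16)`, in the stabilizer -/
noncomputable abbrev K1K : Subgroup ↥K := K1.subgroupOf K

theorem card_K1K : Nat.card K1K = 4080 := by
  rw [← card_K1]
  exact Nat.card_congr (Subgroup.subgroupOfEquivOfLe K1_le_K).toEquiv

theorem index_K1K : K1K.index = 2 := by
  have h := Subgroup.card_mul_index K1K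
  rw [card_K1K, card_K] at h
  omega

instance K1K_normal : K1K.Normal := Subgroup.normal_of_index_eq_two index_K1K

/-- the quotient of order 2 -/
abbrev QK : Type := ↥K ⧸ K1K

theorem card_QK : Nat.card QK = 2 ^ 1 := by
  rw [← Subgroup.index_eq_card, index_K1K]
  rfl

instance QK_cyclic : IsCyclic QK := isCyclic_of_prime_card (p := 2) card_QK

/-- the map onto the quotient -/
noncomputable def qK : ↥K →* QK := QuotientGroup.mk' K1K

theorem qK_surj : Function.Surjective qK := QuotientGroup.mk'_surjective _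

theorem qK_ker (k : ↥K) : qK k = 1 ↔ (k : G) ∈ K1 := by
  rw [qK, QuotientGroup.mk'_apply, QuotientGroup.eq_one_iff, Subgroup.mem_subgroupOf]

/-! ## The prime 2 -/

/-- the generators of orders 3 and 19 -/
noncomputable abbrev gs2 : List G := gs wsJ3p2

theorem hgen2 : Subgroup.closure {g : G | ∃ i < DJ3p2.k, g = gs2.getD i 1} = ⊤ :=
  hgen DJ3p2 PLJ3p2 PLIJ3p2 wsJ3p2 lwJ3p2 chk_structJ3p2 chk_linkJ3p2 chk_lettersJ3p2

theorem pi_act2 : ∀ i < DJ3p2.k, ∀ j < DJ3p2.m,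
    gs2.getD i 1 • pt PLJ3p2 j = pt PLJ3p2 (DJ3p2.pi i j) :=
  pi_act DJ3p2 PLJ3p2 PLIJ3p2 wsJ3p2 chk_structJ3p2 chk_linkJ3p2

theorem pt2_inj : ∀ j < DJ3p2.m, ∀ j' < DJ3p2.m, pt PLJ3p2 j = pt PLJ3p2 j' → j = j' :=
  pt_inj DJ3p2 PLJ3p2 PLIJ3p2 wsJ3p2 chk_linkJ3p2

theorem pt2_surj : ∀ y : Fin 6156, ∃ j < DJ3p2.m, pt PLJ3p2 j = y :=
  pt_surj DJ3p2 PLJ3p2 PLIJ3p2 wsJ3p2 chk_linkJ3p2

theorem pt2_zero : pt PLJ3p2 0 = 0 := pt_zero DJ3p2 PLJ3p2 PLIJ3p2 wsJ3p2 chk_linkJ3p2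

theorem hrel2 : ∀ w ∈ DJ3p2.rels, wordProd gs2 w.1 = wordProd gs2 w.2 := fun w hw =>
  StemZB.hrel_of_chkAct DJ3p2 chk_structJ3p2 chk_actJ3p2 (pt PLJ3p2) gs2 pi_act2 pt2_surj w hw

theorem hodd2 : ∀ i < DJ3p2.k,
    Nat.Coprime (DJ3p2.ords.getD i 0) 2 ∧ (gs2.getD i 1) ^ (DJ3p2.ords.getD i 0) = 1 := by
  intro i hi
  refine ⟨?_, StemZB.pow_of_chkAct DJ3p2 chk_structJ3p2 chk_actJ3p2 (pt PLJ3p2) gs2 pi_act2
    pt2_surj i hi⟩
  have hi' : i < 2 := hi
  interval_cases i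
  · show Nat.Coprime 3 2
    norm_num
  · show Nat.Coprime 19 2
    norm_num

/-- a stem extension of the group whose kernel is a 2-group is trivial -/
theorem bound2 (Γ : Type u) [Group Γ] [Finite Γ] (σ : Γ →* G)
    (hσ : Cfsg.IsStemExtension σ) (hk : IsPGroup 2 σ.ker) : Nat.card σ.ker = 1 := by
  obtain ⟨a, ha⟩ := IsPGroup.iff_card.mp hk
  have hV : StemZP.ValsBound.{u} DJ3p2 2 1 :=
    StemZP.valsBound_of_certR DJ3p2 CJ3p2 chk_certJ3p2
  have h := Mult.card_ker_mul_le_pow_mul_vals 2 DJ3p2 1 hV chk_structJ3p2 (by decide)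
    (pt PLJ3p2) gs2 hgen2 (fun j hj h => pt2_inj j hj 0 (by decide) h) pi_act2 hodd2 hrel2
    K (by rw [pt2_zero]) qK qK_surj 1 card_QK K1 K1_le_K qK_ker K1_perfect 1 K1_bound2
    Γ σ hσ a ha
  have hpos : 0 < Nat.card σ.ker := Nat.card_pos
  omega

/-! ## The prime 3 -/

/-- the generators of orders 2 and 19 -/
noncomputable abbrev gs3 : List G := gs wsJ3p3

theorem hgen3 : Subgroup.closure {g : G | ∃ i < DJ3p3.k, g = gs3.getD i 1} = ⊤ :=
  hgen DJ3p3 PLJ3p3 PLIJ3p3 wsJ3p3 lwJ3p3 chk_structJ3p3 chk_linkJ3p3 chk_lettersJ3p3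

theorem pi_act3 : ∀ i < DJ3p3.k, ∀ j < DJ3p3.m,
    gs3.getD i 1 • pt PLJ3p3 j = pt PLJ3p3 (DJ3p3.pi i j) :=
  pi_act DJ3p3 PLJ3p3 PLIJ3p3 wsJ3p3 chk_structJ3p3 chk_linkJ3p3

theorem pt3_inj : ∀ j < DJ3p3.m, ∀ j' < DJ3p3.m, pt PLJ3p3 j = pt PLJ3p3 j' → j = j' :=
  pt_inj DJ3p3 PLJ3p3 PLIJ3p3 wsJ3p3 chk_linkJ3p3

theorem pt3_surj : ∀ y : Fin 6156, ∃ j < DJ3p3.m, pt PLJ3p3 j = y :=
  pt_surj DJ3p3 PLJ3p3 PLIJ3p3 wsJ3p3 chk_linkJ3p3

theorem pt3_zero : pt PLJ3p3 0 = 0 := pt_zero DJ3p3 PLJ3p3 PLIJ3p3 wsJ3p3 chk_linkJ3p3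

theorem hrel3 : ∀ w ∈ DJ3p3.rels, wordProd gs3 w.1 = wordProd gs3 w.2 := fun w hw =>
  StemZB.hrel_of_chkAct DJ3p3 chk_structJ3p3 chk_actJ3p3 (pt PLJ3p3) gs3 pi_act3 pt3_surj w hw

theorem hodd3 : ∀ i < DJ3p3.k,
    Nat.Coprime (DJ3p3.ords.getD i 0) 3 ∧ (gs3.getD i 1) ^ (DJ3p3.ords.getD i 0) = 1 := by
  intro i hi
  refine ⟨?_, StemZB.pow_of_chkAct DJ3p3 chk_structJ3p3 chk_actJ3p3 (pt PLJ3p3) gs3 pi_act3
    pt3_surj i hi⟩
  have hi' : i < 2 := hi
  interval_cases i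
  · show Nat.Coprime 2 3
    norm_num
  · show Nat.Coprime 19 3
    norm_num

/-- a stem extension of the group whose kernel is a 3-group has a kernel of order at most 3 -/
theorem bound3 (Γ : Type u) [Group Γ] [Finite Γ] (σ : Γ →* G)
    (hσ : Cfsg.IsStemExtension σ) (hk : IsPGroup 3 σ.ker) : Nat.card σ.ker ≤ 3 := by
  haveI : Fact (Nat.Prime 3) := ⟨Nat.prime_three⟩
  have hV : StemZP.ValsBound.{u} DJ3p3 3 1 :=
    StemZP.valsBound_of_certR DJ3p3 CJ3p3 chk_certJ3p3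
  have h := StemZP.card_ker_le_pow_mul_cyc 3 DJ3p3 1 hV chk_structJ3p3 (by decide)
    (pt PLJ3p3) gs3 hgen3 (fun j hj h => pt3_inj j hj 0 (by decide) h) pi_act3 hodd3 hrel3
    K (by rw [pt3_zero]) qK K1 K1_le_K qK_ker K1_perfect 1 K1_bound3 Γ σ hσ hk
  omega

/-! ## The multiplier -/

theorem not_sq_dvd (p : ℕ) (hp : p.Prime) (h2 : p ≠ 2) (h3 : p ≠ 3) : ¬ p * p ∣ 50232960 := by
  intro h
  have hd : p ∣ 50232960 := dvd_trans (dvd_mul_right p p) h
  have e : (50232960 : ℕ) = 2 ^ 7 * 3 ^ 5 * 5 * 17 * 19 := by norm_num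
  rw [e] at hd
  rcases (Nat.Prime.dvd_mul hp).mp hd with hd | hd
  · rcases (Nat.Prime.dvd_mul hp).mp hd with hd | hd
    · rcases (Nat.Prime.dvd_mul hp).mp hd with hd | hd
      · rcases (Nat.Prime.dvd_mul hp).mp hd with hd | hd
        · exact h2 ((Nat.prime_dvd_prime_iff_eq hp Nat.prime_two).mp (hp.dvd_of_dvd_pow hd))
        · exact h3 ((Nat.prime_dvd_prime_iff_eq hp Nat.prime_three).mp (hp.dvd_of_dvd_pow hd))
      · have := (Nat.prime_dvd_prime_iff_eq hp Nat.prime_five).mp hd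
        subst this
        norm_num at h
    · have := (Nat.prime_dvd_prime_iff_eq hp (by norm_num : Nat.Prime 17)).mp hd
      subst this
      norm_num at h
  · have := (Nat.prime_dvd_prime_iff_eq hp (by norm_num : Nat.Prime 19)).mp hd
    subst this
    norm_num at h

/-- the kernel of a stem extension of the group is cyclic of order dividing 3 -/
theorem hub (Γ : Type u) [Group Γ] [Finite Γ] (σ : Γ →* G) (hσ : Cfsg.IsStemExtension σ) :
    IsCyclic σ.ker ∧ Nat.card σ.ker ∣ 3 := by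
  have hd : Nat.card σ.ker ∣ 3 := by
    apply Stem.card_dvd_of_primary σ 3 (by norm_num) ?_ hσ
    intro p hp Γ' _ _ σ' hσ' hk
    by_cases h2 : p = 2
    · subst h2
      rw [bound2 Γ' σ' hσ' hk]
      exact one_dvd _
    · by_cases h3 : p = 3
      · subst h3
        have hle := bound3 Γ' σ' hσ' hk
        obtain ⟨a, ha⟩ := IsPGroup.iff_card.mp hk
        rw [ha] at hle ⊢
        have ha1 : a ≤ 1 := by
          by_contra hlt
          have : 3 ^ 2 ≤ 3 ^ a := Nat.pow_le_pow_right (by norm_num) (by omega)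
          omega
        exact (pow_dvd_pow 3 ha1).trans (by norm_num)
      · have h1 : Nat.card σ'.ker = 1 := by
          apply Stem.card_ker_eq_one_of_not_sq_dvd σ' hσ' p hk
          rw [card_G]
          exact not_sq_dvd p hp.out h2 h3
        rw [h1]
        exact one_dvd _
  refine ⟨?_, hd⟩
  rcases (Nat.dvd_prime Nat.prime_three).mp hd with h | h
  · haveI : Subsingleton σ.ker := (Nat.card_eq_one_iff_unique.mp h).1
    exact isCyclic_of_subsingleton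
  · haveI : Fact (Nat.Prime 3) := ⟨Nat.prime_three⟩
    exact isCyclic_of_prime_card (p := 3) h

/-- the Schur multiplier of the group `J3` of the definitions is cyclic of order 3 -/
theorem multiplier {F : Type u} [Field F] [Fintype F] (hF : Fintype.card F = 4) (ω : F)
    (hω : ω ^ 2 + ω + 1 = 0) : Cfsg.HasCyclicSchurMultiplier (Cfsg.Spor.J3 F ω) 3 := by
  obtain ⟨f⟩ := Tr.nonempty_equiv hF ω hω
  exact Stem.hasCyclicSchurMultiplier_of_equiv f 3 Tr.exists_cover hub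

end Cfsg.Agent.Lib.Helper6.J3M
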