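import Cfsg.Agent.Lib.Helper6.Mult.PM1

set_option autoImplicit false
set_option maxRecDepth 100000

/-! # Permutation models: boolean checks of equalities and inequalities of elements given by
words, and powers of words -/

namespace Cfsg.Agent.Lib.Helper6.PM

open Cfsg.Agent.Lib.Helper6.TC

namespace PModel

variable (M : PModel)

/-- the letters of a word are letters of the model -/
def chkLtW (w : List ℕ) : Bool := w.all fun c => decide (c < M.nl)

theorem lt_of_chkLtW (w : List ℕ) (h : M.chkLtW w = true) : ∀ c ∈ w, c < M.nl := by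
  intro c hc
  unfold chkLtW at h
  rw [List.all_eq_true] at h
  exact of_decide_eq_true (h c hc)

/-- two words act in the same way on all the points -/
def chkEqW (w w' : List ℕ) : Bool :=
  M.chkLtW w && M.chkLtW w' &&
    (List.range M.n).all fun q => wapp M.px w q == wapp M.px w' q

theorem elt_eq_of_chkW (w w' : List ℕ) (h : M.chkEqW w w' = true) : M.elt w = M.elt w' := by
  unfold chkEqW at h
  rw [Bool.and_eq_true, Bool.and_eq_true, List.all_eq_true] at h
  refine M.elt_eq_of_wapp w w' (M.lt_of_chkLtW w h.1.1) (M.lt_of_chkLtW w' h.1.2) ?_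
  intro q hq
  exact beq_iff_eq.mp (h.2 q (List.mem_range.mpr hq))

theorem elt_ne_of_wapp' (w w' : List ℕ) (hw : ∀ c ∈ w, c < M.nl) (hw' : ∀ c ∈ w', c < M.nl)
    (q : ℕ) (hq : q < M.n) (h : wapp M.px w q ≠ wapp M.px w' q) : M.elt w ≠ M.elt w' := by
  intro he
  apply h
  have h1 := M.inv_elt_smul_val w hw ⟨q, hq⟩
  have h2 := M.inv_elt_smul_val w' hw' ⟨q, hq⟩
  rw [he] at h1
  exact h1.symm.trans h2

/-- two words act differently on a point -/
def chkNeW (w w' : List ℕ) (q : ℕ) : Bool :=
  M.chkLtW w && M.chkLtW w' && decide (q < M.n) && (wapp M.px w q != wapp M.px w' q)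

theorem elt_ne_of_chkW (w w' : List ℕ) (q : ℕ) (h : M.chkNeW w w' q = true) :
    M.elt w ≠ M.elt w' := by
  unfold chkNeW at h
  rw [Bool.and_eq_true, Bool.and_eq_true, Bool.and_eq_true] at h
  refine M.elt_ne_of_wapp' w w' (M.lt_of_chkLtW w h.1.1.1)
    (M.lt_of_chkLtW w' h.1.1.2) q (of_decide_eq_true h.1.2) ?_
  exact bne_iff_ne.mp h.2

end PModel

/-- the power of a word -/
def wpow (w : List ℕ) : ℕ → List ℕ
  | 0 => []
  | k + 1 => w ++ wpow w k

theorem PModel.elt_wpow (M : PModel) (w : List ℕ) (k : ℕ) : M.elt (wpow w k) = M.elt w ^ k := by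
  induction k with
  | zero => exact M.elt_nil.trans (pow_zero _).symm
  | succ k ih =>
    show M.elt (w ++ wpow w k) = _
    rw [M.elt_append, ih, pow_succ']

end Cfsg.Agent.Lib.Helper6.PM
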