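import Mathlib
import Cfsg.Prelude.Def_KGroupFacts

set_option autoImplicit false

/-! # Stem extensions of some small groups are trivial

Two abstract lemmas: a group generated by `r` and an involution `s` with `s⁻¹ r s = r ^ e`
(for instance a semidihedral group) and the group `3 × S₃` have no non-trivial stem extensions,
under arithmetical conditions which say that the obvious generator of the commutator subgroup of
the extension has the same order as its image. -/

namespace Cfsg.Agent.Lib.Helper6.SmallStem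

open scoped commutatorElement

variable {Γ S : Type*} [Group Γ] [Group S]

/-- a normal subgroup modulo which the elements of a generating set commute contains the
commutator subgroup -/
theorem commutator_le_of_closure (N : Subgroup Γ) [N.Normal] (X : Set Γ)
    (hX : Subgroup.closure X = ⊤)
    (hc : ∀ x ∈ X, ∀ y ∈ X, (y * x)⁻¹ * (x * y) ∈ N) : commutator Γ ≤ N := by
  have hc' : ∀ x ∈ X, ∀ y ∈ X, (QuotientGroup.mk' N x) * (QuotientGroup.mk' N y) =
      (QuotientGroup.mk' N y) * (QuotientGroup.mk' N x) := by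
    intro x hx y hy
    rw [← map_mul, ← map_mul]
    exact ((QuotientGroup.eq).mpr (hc x hx y hy)).symm
  obtain ⟨π, hπ⟩ : ∃ π : Γ →* Γ ⧸ N, π = QuotientGroup.mk' N := ⟨_, rfl⟩
  rw [← hπ] at hc'
  -- every element commutes with the generators
  have h1 : ∀ y ∈ X, ∀ g : Γ, π g * π y = π y * π g := by
    intro y hy g
    have hle : Subgroup.closure X ≤ (Subgroup.centralizer ({π y} : Set (Γ ⧸ N))).comap π := by
      rw [Subgroup.closure_le]
      intro x hx
      rw [SetLike.mem_coe, Subgroup.mem_comap, Subgroup.mem_centralizer_iff]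
      intro z hz
      rw [Set.mem_singleton_iff] at hz
      rw [hz]
      exact (hc' x hx y hy).symm
    have hg : g ∈ (Subgroup.centralizer ({π y} : Set (Γ ⧸ N))).comap π :=
      hle (by rw [hX]; trivial)
    rw [Subgroup.mem_comap, Subgroup.mem_centralizer_iff] at hg
    exact (hg (π y) rfl).symm
  have h2 : ∀ g h : Γ, π g * π h = π h * π g := by
    intro g h
    have hle : Subgroup.closure X ≤ (Subgroup.centralizer ({π g} : Set (Γ ⧸ N))).comap π := by
      rw [Subgroup.closure_le]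
      intro x hx
      rw [SetLike.mem_coe, Subgroup.mem_comap, Subgroup.mem_centralizer_iff]
      intro z hz
      rw [Set.mem_singleton_iff] at hz
      rw [hz]
      exact h1 x hx g
    have hh : h ∈ (Subgroup.centralizer ({π g} : Set (Γ ⧸ N))).comap π :=
      hle (by rw [hX]; trivial)
    rw [Subgroup.mem_comap, Subgroup.mem_centralizer_iff] at hh
    exact hh (π g) rfl
  rw [commutator_def, Subgroup.commutator_le]
  intro g _ h _
  have hk : ⁅g, h⁆ ∈ π.ker := by
    rw [MonoidHom.mem_ker, commutatorElement_def, map_mul, map_mul, map_mul, map_inv, map_inv,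
      h2 g h, mul_inv_cancel_right, mul_inv_cancel]
  rw [hπ, QuotientGroup.ker_mk'] at hk
  exact hk

/-- if the commutator subgroup of a stem extension lies in a cyclic subgroup whose generator has
the same order as its image, the extension is trivial -/
theorem ker_eq_bot_of_commutator_le_zpowers (σ : Γ →* S) (hσ : Cfsg.IsStemExtension σ) (d : Γ)
    (hd : commutator Γ ≤ Subgroup.zpowers d) (hord : d ^ orderOf (σ d) = 1) : σ.ker = ⊥ := by
  rw [eq_bot_iff]
  intro a ha
  obtain ⟨k, rfl⟩ := Subgroup.mem_zpowers_iff.mp (hd (hσ.2.2 ha))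
  rw [MonoidHom.mem_ker, map_zpow] at ha
  obtain ⟨j, rfl⟩ := (orderOf_dvd_iff_zpow_eq_one.mpr ha)
  rw [Subgroup.mem_bot, zpow_mul, zpow_natCast, hord, one_zpow]

/-- lifting a generating set -/
theorem closure_lift (σ : Γ →* S) (X : Set Γ) (hX : Subgroup.closure (σ '' X) = ⊤) :
    Subgroup.closure (X ∪ (σ.ker : Set Γ)) = ⊤ := by
  rw [eq_top_iff]
  intro g _
  have hg : σ g ∈ Subgroup.map σ (Subgroup.closure X) := by
    rw [MonoidHom.map_closure, hX]
    trivial
  obtain ⟨h, hh, hhg⟩ := Subgroup.mem_map.mp hg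
  have hk : h⁻¹ * g ∈ σ.ker := by
    rw [MonoidHom.mem_ker, map_mul, map_inv, hhg, inv_mul_cancel]
  have e : g = h * (h⁻¹ * g) := by group
  rw [e]
  exact mul_mem (Subgroup.closure_mono Set.subset_union_left hh)
    (Subgroup.subset_closure (Set.mem_union_right _ hk))

/-- a cyclic subgroup is normal when the elements of a generating set conjugate its generator to
powers of it, both ways -/
theorem normal_zpowers_of (d : Γ) (X : Set Γ) (hX : Subgroup.closure X = ⊤)
    (h : ∀ x ∈ X, (∃ k : ℤ, x * d * x⁻¹ = d ^ k) ∧ ∃ k : ℤ, x⁻¹ * d * x = d ^ k) :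
    (Subgroup.zpowers d).Normal := by
  have hle : Subgroup.closure X ≤
      Subgroup.normalizer ((Subgroup.zpowers d : Subgroup Γ) : Set Γ) := by
    rw [Subgroup.closure_le]
    intro x hx
    obtain ⟨⟨k, hk⟩, ⟨k', hk'⟩⟩ := h x hx
    rw [SetLike.mem_coe, Subgroup.mem_normalizer_iff]
    intro g
    constructor
    · intro hg
      obtain ⟨m, rfl⟩ := Subgroup.mem_zpowers_iff.mp hg
      have h1 : x * d ^ m * x⁻¹ = (x * d * x⁻¹) ^ m := (conj_zpow (a := x) (b := d) (i := m)).symm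
      rw [h1, hk]
      exact Subgroup.zpow_mem _ (Subgroup.zpow_mem _ (Subgroup.mem_zpowers d) k) m
    · intro hg
      obtain ⟨m, hm⟩ := Subgroup.mem_zpowers_iff.mp hg
      have h1 : g = x⁻¹ * d ^ m * x := by rw [hm]; group
      have h2 : x⁻¹ * d ^ m * x = (x⁻¹ * d * x) ^ m := by
        have := (conj_zpow (a := x⁻¹) (b := d) (i := m)).symm
        rwa [inv_inv] at this
      rw [h1, h2, hk']
      exact Subgroup.zpow_mem _ (Subgroup.zpow_mem _ (Subgroup.mem_zpowers d) k') m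
  rw [hX] at hle
  exact Subgroup.normalizer_eq_top_iff.mp (top_le_iff.mp hle)

/-- conjugating a power times a central element -/
theorem conj_pow_mul (T R a : Γ) (ha : Commute a T) (n : ℕ) :
    T⁻¹ * (R ^ n * a) * T = (T⁻¹ * R * T) ^ n * a := by
  have h1 : (T⁻¹ * R * T) ^ n = T⁻¹ * R ^ n * T := by
    have := conj_pow (a := T⁻¹) (b := R) (i := n)
    rwa [inv_inv] at this
  rw [h1, mul_assoc, mul_assoc, mul_assoc, mul_assoc, ha.eq]

/-- a group generated by an element `r` and an involution `s` with `s⁻¹ r s = r ^ e`, such that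
`r ^ (e - 1)` has order `e + 1`, has no non-trivial stem extension (for instance the semidihedral
group of order 32, with `e = 7`) -/
theorem ker_eq_bot_of_meta (r s : S) (e : ℕ) (he : 1 ≤ e)
    (hgen : Subgroup.closure ({r, s} : Set S) = ⊤) (hs : s * s = 1)
    (hrs : s⁻¹ * r * s = r ^ e) (hord : orderOf (r ^ (e - 1)) = e + 1)
    (σ : Γ →* S) (hσ : Cfsg.IsStemExtension σ) : σ.ker = ⊥ := by
  obtain ⟨R, hR⟩ := hσ.1 r
  obtain ⟨T, hT⟩ := hσ.1 s
  have hcen : ∀ a ∈ σ.ker, ∀ g : Γ, Commute a g := fun a ha g =>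
    (Subgroup.mem_center_iff.mp (hσ.2.1 ha) g).symm
  -- the central elements
  obtain ⟨a₀, ha₀⟩ : ∃ a₀ : Γ, a₀ = (R ^ e)⁻¹ * (T⁻¹ * R * T) := ⟨_, rfl⟩
  have ha₀k : a₀ ∈ σ.ker := by
    rw [MonoidHom.mem_ker, ha₀, map_mul, map_inv, map_pow, map_mul, map_mul, map_inv, hR, hT, hrs,
      inv_mul_cancel]
  have hbk : T * T ∈ σ.ker := by
    rw [MonoidHom.mem_ker, map_mul, hT, hs]
  have hconj : T⁻¹ * R * T = R ^ e * a₀ := by
    rw [ha₀, mul_inv_cancel_left]
  have haR : Commute a₀ R := hcen a₀ ha₀k R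
  have haT : Commute a₀ T := hcen a₀ ha₀k T
  -- the generator of the commutator subgroup
  obtain ⟨d, hd⟩ : ∃ d : Γ, d = R ^ (e - 1) * a₀ := ⟨_, rfl⟩
  have hRd : Commute R d := by
    rw [hd]
    exact Commute.mul_right ((Commute.refl R).pow_right _) haR.symm
  have had : Commute a₀ d := hcen a₀ ha₀k d
  have hde : R ^ e * a₀ = R * d := by
    rw [hd, ← mul_assoc, ← pow_succ', Nat.sub_add_cancel he]
  -- conjugating `d`
  have hTd : T⁻¹ * d * T = d ^ e := by
    rw [hd, conj_pow_mul T R a₀ haT, hconj, hde, hRd.mul_pow, ← hd]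
    calc R ^ (e - 1) * d ^ (e - 1) * a₀ = (R ^ (e - 1) * a₀) * d ^ (e - 1) := by
          rw [mul_assoc, mul_assoc, (had.pow_right (e - 1)).eq]
      _ = d ^ e := by
          rw [← hd, ← pow_succ', Nat.sub_add_cancel he]
  -- conjugating twice
  have hTT : T⁻¹ * (T⁻¹ * R * T) * T = R := by
    have h1 : T⁻¹ * (T⁻¹ * R * T) * T = (T * T)⁻¹ * (R * (T * T)) := by group
    rw [h1, ← (hcen (T * T) hbk R).eq, inv_mul_cancel_left]
  have hkey : R = R * d ^ (e + 1) := by
    have h1 : T⁻¹ * (R * d) * T = R * d * d ^ e := by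
      have h2 : T⁻¹ * (R * d) * T = (T⁻¹ * R * T) * (T⁻¹ * d * T) := by group
      rw [h2, hconj, hde, hTd]
    rw [hconj, hde, h1] at hTT
    rw [pow_succ', ← mul_assoc]
    exact hTT.symm
  have hd1 : d ^ (e + 1) = 1 := by
    have := hkey.symm
    rwa [mul_eq_left] at this
  have hσd : σ d = r ^ (e - 1) := by
    rw [hd, map_mul, map_pow, hR, MonoidHom.mem_ker.mp ha₀k, mul_one]
  have hgenΓ := closure_lift σ ({R, T} : Set Γ) (by
    rw [Set.image_pair, hR, hT]
    exact hgen)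
  -- the cyclic subgroup is normal
  have hTd' : T * d * T⁻¹ = d ^ e := by
    have h1 : T * d * T⁻¹ = T⁻¹ * ((T * T) * d * (T * T)⁻¹) * T := by group
    rw [h1, (hcen (T * T) hbk d).eq, mul_inv_cancel_right, hTd]
  have hnorm : (Subgroup.zpowers d).Normal := by
    apply normal_zpowers_of d _ hgenΓ
    intro x hx
    rcases hx with hx | hx
    · rcases hx with rfl | hx
      · refine ⟨⟨1, ?_⟩, ⟨1, ?_⟩⟩
        · rw [zpow_one, hRd.eq, mul_inv_cancel_right]
        · rw [zpow_one, mul_assoc, ← hRd.eq, inv_mul_cancel_left]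
      · rw [Set.mem_singleton_iff] at hx
        subst hx
        exact ⟨⟨e, by rw [zpow_natCast]; exact hTd'⟩, ⟨e, by rw [zpow_natCast]; exact hTd⟩⟩
    · have hc := hcen x hx d
      refine ⟨⟨1, ?_⟩, ⟨1, ?_⟩⟩
      · rw [zpow_one, hc.eq, mul_inv_cancel_right]
      · rw [zpow_one, mul_assoc, ← hc.eq, inv_mul_cancel_left]
  -- the quotient is commutative
  have hcomm : commutator Γ ≤ Subgroup.zpowers d := by
    have := hnorm
    apply commutator_le_of_closure (Subgroup.zpowers d) _ hgenΓ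
    have hcentral : ∀ x ∈ (σ.ker : Set Γ), ∀ y : Γ,
        (y * x)⁻¹ * (x * y) ∈ Subgroup.zpowers d ∧ (x * y)⁻¹ * (y * x) ∈ Subgroup.zpowers d := by
      intro x hx y
      have hc := hcen x hx y
      rw [hc.eq, inv_mul_cancel]
      exact ⟨one_mem _, one_mem _⟩
    have hself : ∀ x : Γ, (x * x)⁻¹ * (x * x) ∈ Subgroup.zpowers d := by
      intro x
      rw [inv_mul_cancel]
      exact one_mem _
    have hTR : (T * R)⁻¹ * (R * T) = d := by
      have h1 : (T * R)⁻¹ * (R * T) = R⁻¹ * (T⁻¹ * R * T) := by group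
      rw [h1, hconj, hde, inv_mul_cancel_left]
    have hRT : (R * T)⁻¹ * (T * R) = d⁻¹ := by
      rw [← hTR]
      group
    intro x hx y hy
    rcases hx with hx | hx
    · rcases hy with hy | hy
      · rcases hx with rfl | hx
        · rcases hy with rfl | hy
          · exact hself _
          · rw [Set.mem_singleton_iff] at hy
            subst hy
            rw [hTR]
            exact Subgroup.mem_zpowers d
        · rw [Set.mem_singleton_iff] at hx
          subst hx
          rcases hy with rfl | hy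
          · rw [hRT]
            exact Subgroup.inv_mem _ (Subgroup.mem_zpowers d)
          · rw [Set.mem_singleton_iff] at hy
            subst hy
            exact hself _
      · exact (hcentral y hy x).2
    · exact (hcentral x hx y).1
  apply ker_eq_bot_of_commutator_le_zpowers σ hσ d hcomm
  rw [hσd, hord]
  exact hd1

/-- a group generated by commuting elements `x`, `y` of order 3 and an involution `t`
centralizing `x` and inverting `y` (the group `3 × S₃`) has no non-trivial stem extension -/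
theorem ker_eq_bot_of_three_s3 (x y t : S)
    (hgen : Subgroup.closure ({x, y, t} : Set S) = ⊤) (hx : x ^ 3 = 1) (hy : orderOf y = 3)
    (ht : t * t = 1) (hxy : x * y = y * x) (htx : t⁻¹ * x * t = x) (hty : t⁻¹ * y * t = y⁻¹)
    (σ : Γ →* S) (hσ : Cfsg.IsStemExtension σ) : σ.ker = ⊥ := by
  obtain ⟨X, hX⟩ := hσ.1 x
  obtain ⟨Y, hY⟩ := hσ.1 y
  obtain ⟨T, hT⟩ := hσ.1 t
  have hy3 : y ^ 3 = 1 := by rw [← hy]; exact pow_orderOf_eq_one y
  have hcen : ∀ a ∈ σ.ker, ∀ g : Γ, Commute a g := fun a ha g =>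
    (Subgroup.mem_center_iff.mp (hσ.2.1 ha) g).symm
  have hbk : T * T ∈ σ.ker := by
    rw [MonoidHom.mem_ker, map_mul, hT, ht]
  have hX3 : X ^ 3 ∈ σ.ker := by
    rw [MonoidHom.mem_ker, map_pow, hX, hx]
  have hY3 : Y ^ 3 ∈ σ.ker := by
    rw [MonoidHom.mem_ker, map_pow, hY, hy3]
  -- conjugating twice by `T` does nothing
  have hTT : ∀ g : Γ, T⁻¹ * (T⁻¹ * g * T) * T = g := by
    intro g
    have h1 : T⁻¹ * (T⁻¹ * g * T) * T = (T * T)⁻¹ * (g * (T * T)) := by group
    rw [h1, ← (hcen (T * T) hbk g).eq, inv_mul_cancel_left]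
  -- the central elements
  obtain ⟨a₁, ha₁⟩ : ∃ a₁ : Γ, a₁ = X⁻¹ * (T⁻¹ * X * T) := ⟨_, rfl⟩
  have ha₁k : a₁ ∈ σ.ker := by
    rw [MonoidHom.mem_ker, ha₁, map_mul, map_inv, map_mul, map_mul, map_inv, hX, hT, htx,
      inv_mul_cancel]
  have hconjX : T⁻¹ * X * T = X * a₁ := by
    rw [ha₁, mul_inv_cancel_left]
  obtain ⟨a₂, ha₂⟩ : ∃ a₂ : Γ, a₂ = Y * (T⁻¹ * Y * T) := ⟨_, rfl⟩
  have ha₂k : a₂ ∈ σ.ker := by
    rw [MonoidHom.mem_ker, ha₂, map_mul, map_mul, map_mul, map_inv, hY, hT, hty,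
      mul_inv_cancel]
  have hconjY : T⁻¹ * Y * T = Y⁻¹ * a₂ := by
    rw [ha₂, inv_mul_cancel_left]
  obtain ⟨c₁, hc₁⟩ : ∃ c₁ : Γ, c₁ = (Y * X)⁻¹ * (X * Y) := ⟨_, rfl⟩
  have hc₁k : c₁ ∈ σ.ker := by
    rw [MonoidHom.mem_ker, hc₁, map_mul, map_inv, map_mul, map_mul, hX, hY, hxy, inv_mul_cancel]
  have hXY : X * Y = Y * X * c₁ := by
    rw [hc₁, mul_inv_cancel_left]
  -- `a₁ = 1`
  have ha₁1 : a₁ = 1 := by
    have h2 : a₁ * a₁ = 1 := by
      have h := hTT X
      rw [hconjX] at h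
      have h3 : T⁻¹ * (X * a₁) * T = (T⁻¹ * X * T) * a₁ := by
        rw [mul_assoc, mul_assoc, mul_assoc, mul_assoc, (hcen a₁ ha₁k T).eq]
      rw [h3, hconjX, mul_assoc] at h
      exact mul_eq_left.mp h
    have h3 : a₁ ^ 3 = 1 := by
      have h := (hcen (X ^ 3) hX3 T).eq
      -- `T⁻¹ X³ T = X³`
      have h4 : T⁻¹ * X ^ 3 * T = X ^ 3 := by
        rw [mul_assoc, h, inv_mul_cancel_left]
      have h5 : T⁻¹ * X ^ 3 * T = (T⁻¹ * X * T) ^ 3 := by
        have := conj_pow (a := T⁻¹) (b := X) (i := 3)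
        rw [inv_inv] at this
        exact this.symm
      rw [h5, hconjX, ((hcen a₁ ha₁k X).symm).mul_pow] at h4
      exact mul_eq_left.mp h4
    calc a₁ = a₁ ^ 3 * (a₁ * a₁)⁻¹ := by group
      _ = 1 := by rw [h2, h3, inv_one, mul_one]
  rw [ha₁1, mul_one] at hconjX
  -- `c₁ = 1`
  have hc₁1 : c₁ = 1 := by
    have hcX : Commute c₁ X := hcen c₁ hc₁k X
    have hcY : Commute c₁ Y := hcen c₁ hc₁k Y
    -- `X ^ k * Y = Y * X ^ k * c₁ ^ k`
    have hpow : ∀ k : ℕ, X ^ k * Y = Y * X ^ k * c₁ ^ k := by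
      intro k
      induction k with
      | zero => simp
      | succ k ih =>
        calc X ^ (k + 1) * Y = X * (X ^ k * Y) := by rw [pow_succ', mul_assoc]
          _ = X * (Y * X ^ k * c₁ ^ k) := by rw [ih]
          _ = (X * Y) * X ^ k * c₁ ^ k := by group
          _ = (Y * X * c₁) * X ^ k * c₁ ^ k := by rw [hXY]
          _ = Y * X * (c₁ * X ^ k) * c₁ ^ k := by group
          _ = Y * X * (X ^ k * c₁) * c₁ ^ k := by rw [(hcX.pow_right k).eq]
          _ = Y * X ^ (k + 1) * c₁ ^ (k + 1) := by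
              rw [pow_succ' X k, pow_succ' c₁ k]; group
    have h3 : c₁ ^ 3 = 1 := by
      have h := hpow 3
      rw [(hcen (X ^ 3) hX3 Y).eq] at h
      exact (mul_eq_left.mp h.symm)
    have h2 : c₁ * c₁ = 1 := by
      -- conjugate `X * Y = Y * X * c₁` by `T`
      have h4 : T⁻¹ * (X * Y) * T = X * (Y⁻¹ * a₂) := by
        have : T⁻¹ * (X * Y) * T = (T⁻¹ * X * T) * (T⁻¹ * Y * T) := by group
        rw [this, hconjX, hconjY]
      have h5 : T⁻¹ * (Y * X * c₁) * T = (Y⁻¹ * a₂) * X * c₁ := by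
        have : T⁻¹ * (Y * X * c₁) * T = (T⁻¹ * Y * T) * (T⁻¹ * X * T) * (T⁻¹ * c₁ * T) := by
          group
        rw [this, hconjX, hconjY, mul_assoc T⁻¹ c₁ T, (hcen c₁ hc₁k T).eq, inv_mul_cancel_left]
      rw [hXY] at h4
      rw [h5] at h4
      -- `Y⁻¹ a₂ X c₁ = X Y⁻¹ a₂`, and `Y⁻¹ X = X Y⁻¹ c₁`
      have h6 : Y⁻¹ * X = X * Y⁻¹ * c₁ := by
        have : X = Y * X * c₁ * Y⁻¹ := by rw [← hXY, mul_inv_cancel_right]
        calc Y⁻¹ * X = Y⁻¹ * (Y * X * c₁ * Y⁻¹) := by rw [← this]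
          _ = X * (c₁ * Y⁻¹) := by group
          _ = X * (Y⁻¹ * c₁) := by rw [(hcen c₁ hc₁k Y⁻¹).eq]
          _ = X * Y⁻¹ * c₁ := by group
      have ha₂X : Commute a₂ X := hcen a₂ ha₂k X
      have h7 : Y⁻¹ * a₂ * X * c₁ = X * Y⁻¹ * a₂ * (c₁ * c₁) := by
        calc Y⁻¹ * a₂ * X * c₁ = Y⁻¹ * (a₂ * X) * c₁ := by group
          _ = Y⁻¹ * (X * a₂) * c₁ := by rw [ha₂X.eq]
          _ = (Y⁻¹ * X) * a₂ * c₁ := by group
          _ = (X * Y⁻¹ * c₁) * a₂ * c₁ := by rw [h6]
          _ = X * Y⁻¹ * (c₁ * a₂) * c₁ := by group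
          _ = X * Y⁻¹ * (a₂ * c₁) * c₁ := by rw [(hcen c₁ hc₁k a₂).eq]
          _ = X * Y⁻¹ * a₂ * (c₁ * c₁) := by group
      rw [h7, ← mul_assoc X] at h4
      exact mul_eq_left.mp h4
    calc c₁ = c₁ ^ 3 * (c₁ * c₁)⁻¹ := by group
      _ = 1 := by rw [h2, h3, inv_one, mul_one]
  rw [hc₁1, mul_one] at hXY
  have hXYc : Commute X Y := hXY
  have hXTc : Commute X T := by
    have : T * (T⁻¹ * (X * T)) = T * X := by rw [← mul_assoc T⁻¹, hconjX]
    rw [mul_inv_cancel_left] at this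
    exact this
  -- the generator of the commutator subgroup
  obtain ⟨d, hd⟩ : ∃ d : Γ, d = Y⁻¹ * (Y⁻¹ * a₂) := ⟨_, rfl⟩
  have ha₂Y : Commute a₂ Y := hcen a₂ ha₂k Y
  have hYd : Commute Y d := by
    rw [hd]
    exact Commute.mul_right (Commute.refl Y).inv_right
      (Commute.mul_right (Commute.refl Y).inv_right ha₂Y.symm)
  have hXd : Commute X d := by
    rw [hd]
    exact Commute.mul_right hXYc.inv_right
      (Commute.mul_right hXYc.inv_right (hcen a₂ ha₂k X).symm)
  have hTY : (T * Y)⁻¹ * (Y * T) = d := by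
    have h1 : (T * Y)⁻¹ * (Y * T) = Y⁻¹ * (T⁻¹ * Y * T) := by group
    rw [h1, hconjY, hd]
  have hYT : (Y * T)⁻¹ * (T * Y) = d⁻¹ := by
    rw [← hTY]
    group
  have hTd : T⁻¹ * d * T = d⁻¹ := by
    have h1 : T⁻¹ * d * T = (T⁻¹ * Y * T)⁻¹ * ((T⁻¹ * Y * T)⁻¹ * (T⁻¹ * a₂ * T)) := by
      rw [hd]; group
    rw [h1, hconjY, mul_assoc T⁻¹ a₂ T, (hcen a₂ ha₂k T).eq, inv_mul_cancel_left, hd]
    have hc := (hcen a₂ ha₂k Y).eq
    have hc' := (hcen a₂ ha₂k Y⁻¹).eq
    -- `(Y⁻¹ a₂)⁻¹ ((Y⁻¹ a₂)⁻¹ a₂) = (Y⁻¹ (Y⁻¹ a₂))⁻¹`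
    calc (Y⁻¹ * a₂)⁻¹ * ((Y⁻¹ * a₂)⁻¹ * a₂) = a₂⁻¹ * Y * (a₂⁻¹ * Y * a₂) := by group
      _ = a₂⁻¹ * Y * (a₂⁻¹ * (Y * a₂)) := by group
      _ = a₂⁻¹ * Y * (a₂⁻¹ * (a₂ * Y)) := by rw [hc]
      _ = a₂⁻¹ * Y * Y := by rw [inv_mul_cancel_left]
      _ = (Y⁻¹ * (Y⁻¹ * a₂))⁻¹ := by rw [mul_inv_rev, mul_inv_rev, inv_inv]
  have hTd' : T * d * T⁻¹ = d⁻¹ := by
    have h1 : T * d * T⁻¹ = T⁻¹ * ((T * T) * d * (T * T)⁻¹) * T := by group
    rw [h1, (hcen (T * T) hbk d).eq, mul_inv_cancel_right, hTd]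
  have hd3 : d ^ 3 = 1 := by
    -- `T⁻¹ Y³ T = Y³` and `= (Y⁻¹ a₂)³`
    have h4 : T⁻¹ * Y ^ 3 * T = Y ^ 3 := by
      rw [mul_assoc, (hcen (Y ^ 3) hY3 T).eq, inv_mul_cancel_left]
    have h5 : T⁻¹ * Y ^ 3 * T = (T⁻¹ * Y * T) ^ 3 := by
      have := conj_pow (a := T⁻¹) (b := Y) (i := 3)
      rw [inv_inv] at this
      exact this.symm
    rw [h5, hconjY] at h4
    have hcomm : Commute Y⁻¹ a₂ := ha₂Y.symm.inv_left
    rw [hcomm.mul_pow] at h4
    -- `d ^ 3 = Y⁻³ (Y⁻³ a₂³) = Y⁻³ Y³ = 1`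
    have hd' : d = Y⁻¹ * Y⁻¹ * a₂ := by rw [hd, mul_assoc]
    have hcomm2 : Commute (Y⁻¹ * Y⁻¹) a₂ := hcomm.mul_left hcomm
    rw [hd', hcomm2.mul_pow, ((Commute.refl Y⁻¹).mul_pow 3)]
    calc Y⁻¹ ^ 3 * Y⁻¹ ^ 3 * a₂ ^ 3 = Y⁻¹ ^ 3 * (Y⁻¹ ^ 3 * a₂ ^ 3) := by group
      _ = Y⁻¹ ^ 3 * Y ^ 3 := by rw [h4]
      _ = 1 := by group
  have hσd : σ d = y := by
    rw [hd, map_mul, map_mul, map_inv, hY, MonoidHom.mem_ker.mp ha₂k, mul_one]
    calc y⁻¹ * y⁻¹ = y ^ 3 * (y⁻¹ * y⁻¹) := by rw [hy3, one_mul]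
      _ = y := by group
  have hgenΓ := closure_lift σ ({X, Y, T} : Set Γ) (by
    rw [Set.image_insert_eq, Set.image_pair, hX, hY, hT]
    exact hgen)
  have hnorm : (Subgroup.zpowers d).Normal := by
    apply normal_zpowers_of d _ hgenΓ
    intro g hg
    rcases hg with hg | hg
    · rcases hg with rfl | hg
      · refine ⟨⟨1, ?_⟩, ⟨1, ?_⟩⟩
        · rw [zpow_one, hXd.eq, mul_inv_cancel_right]
        · rw [zpow_one, mul_assoc, ← hXd.eq, inv_mul_cancel_left]
      · rcases hg with rfl | hg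
        · refine ⟨⟨1, ?_⟩, ⟨1, ?_⟩⟩
          · rw [zpow_one, hYd.eq, mul_inv_cancel_right]
          · rw [zpow_one, mul_assoc, ← hYd.eq, inv_mul_cancel_left]
        · rw [Set.mem_singleton_iff] at hg
          subst hg
          exact ⟨⟨-1, by rw [zpow_neg_one]; exact hTd'⟩, ⟨-1, by rw [zpow_neg_one]; exact hTd⟩⟩
    · have hc := hcen g hg d
      refine ⟨⟨1, ?_⟩, ⟨1, ?_⟩⟩
      · rw [zpow_one, hc.eq, mul_inv_cancel_right]
      · rw [zpow_one, mul_assoc, ← hc.eq, inv_mul_cancel_left]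
  have hcomm : commutator Γ ≤ Subgroup.zpowers d := by
    have := hnorm
    apply commutator_le_of_closure (Subgroup.zpowers d) _ hgenΓ
    have hcm : ∀ g h : Γ, Commute g h → (h * g)⁻¹ * (g * h) ∈ Subgroup.zpowers d := by
      intro g h hgh
      rw [hgh.eq, inv_mul_cancel]
      exact one_mem _
    intro g hg h hh
    rcases hg with hg | hg
    · rcases hh with hh | hh
      · rcases hg with rfl | hg
        · rcases hh with rfl | hh
          · exact hcm _ _ (Commute.refl _)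
          · rcases hh with rfl | hh
            · exact hcm _ _ hXYc
            · rw [Set.mem_singleton_iff] at hh
              subst hh
              exact hcm _ _ hXTc
        · rcases hg with rfl | hg
          · rcases hh with rfl | hh
            · exact hcm _ _ hXYc.symm
            · rcases hh with rfl | hh
              · exact hcm _ _ (Commute.refl _)
              · rw [Set.mem_singleton_iff] at hh
                subst hh
                rw [hTY]
                exact Subgroup.mem_zpowers d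
          · rw [Set.mem_singleton_iff] at hg
            subst hg
            rcases hh with rfl | hh
            · exact hcm _ _ hXTc.symm
            · rcases hh with rfl | hh
              · rw [hYT]
                exact Subgroup.inv_mem _ (Subgroup.mem_zpowers d)
              · rw [Set.mem_singleton_iff] at hh
                subst hh
                exact hcm _ _ (Commute.refl _)
      · exact hcm _ _ (hcen h hh g).symm
    · exact hcm _ _ (hcen g hg h)
  apply ker_eq_bot_of_commutator_le_zpowers σ hσ d hcomm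
  rw [hσd, hy]
  exact hd3

/-! ## The order of the subgroup generated by `r` and `s` -/

section card

variable (r s : S) (n e : ℕ)

theorem s_mul_r_pow (hs : s * s = 1) (hrs : s⁻¹ * r * s = r ^ e) (j k : ℕ) :
    s ^ j * r ^ k = r ^ (e ^ j * k) * s ^ j := by
  have hsinv : s⁻¹ = s := inv_eq_of_mul_eq_one_right hs
  have h1 : s * r * s⁻¹ = r ^ e := by
    have := hrs
    rw [hsinv] at this ⊢
    exact this
  induction j generalizing k with
  | zero => simp
  | succ j ih =>
    have h2 : s * r ^ (e ^ j * k) * s⁻¹ = (r ^ e) ^ (e ^ j * k) := by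
      rw [← h1, conj_pow]
    have h3 : s * r ^ (e ^ j * k) = (r ^ e) ^ (e ^ j * k) * s := by
      rw [← h2, inv_mul_cancel_right]
    calc s ^ (j + 1) * r ^ k = s * (s ^ j * r ^ k) := by rw [pow_succ', mul_assoc]
      _ = s * (r ^ (e ^ j * k) * s ^ j) := by rw [ih]
      _ = (s * r ^ (e ^ j * k)) * s ^ j := by rw [mul_assoc]
      _ = (r ^ e) ^ (e ^ j * k) * s * s ^ j := by rw [h3]
      _ = r ^ (e ^ (j + 1) * k) * s ^ (j + 1) := by
          rw [← pow_mul, mul_assoc, ← pow_succ']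
          congr 2
          ring

/-- the elements of the subgroup generated by `r`, `s` are the `r ^ i * s ^ j` -/
theorem mem_closure_meta (hn : 0 < n) (hr : r ^ n = 1) (hs : s * s = 1)
    (hrs : s⁻¹ * r * s = r ^ e) (g : S) (hg : g ∈ Subgroup.closure ({r, s} : Set S)) :
    ∃ i j : ℕ, g = r ^ i * s ^ j := by
  have hsinv : s⁻¹ = s := inv_eq_of_mul_eq_one_right hs
  have hrinv : r⁻¹ = r ^ (n - 1) := by
    apply inv_eq_of_mul_eq_one_right
    rw [← pow_succ', Nat.sub_add_cancel hn, hr]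
  have hstep : ∀ (i j k : ℕ), r ^ i * s ^ j * r ^ k = r ^ (i + e ^ j * k) * s ^ j := by
    intro i j k
    rw [mul_assoc, s_mul_r_pow r s e hs hrs, ← mul_assoc, ← pow_add]
  induction hg using Subgroup.closure_induction_right with
  | one => exact ⟨0, 0, by simp⟩
  | mul_right x hx y hy ih =>
    obtain ⟨i, j, rfl⟩ := ih
    rcases hy with rfl | hy
    · exact ⟨i + e ^ j * 1, j, by rw [← hstep, pow_one]⟩
    · rw [Set.mem_singleton_iff] at hy
      subst hy
      exact ⟨i, j + 1, by rw [pow_succ, mul_assoc]⟩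
  | mul_inv_cancel x hx y hy ih =>
    obtain ⟨i, j, rfl⟩ := ih
    rcases hy with rfl | hy
    · exact ⟨i + e ^ j * (n - 1), j, by rw [← hstep, hrinv]⟩
    · rw [Set.mem_singleton_iff] at hy
      subst hy
      exact ⟨i, j + 1, by rw [hsinv, pow_succ, mul_assoc]⟩

/-- the subgroup generated by `r`, `s` has at most `2 n` elements -/
theorem card_closure_meta_le (hn : 0 < n) (hr : r ^ n = 1) (hs : s * s = 1)
    (hrs : s⁻¹ * r * s = r ^ e) :
    Nat.card (Subgroup.closure ({r, s} : Set S)) ≤ 2 * n := by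
  have hs2 : s ^ 2 = 1 := by rw [pow_two, hs]
  let f : Fin n × Fin 2 → S := fun x => r ^ x.1.val * s ^ x.2.val
  have hsub : ((Subgroup.closure ({r, s} : Set S) : Subgroup S) : Set S) ⊆ f '' Set.univ := by
    intro g hg
    obtain ⟨i, j, rfl⟩ := mem_closure_meta r s n e hn hr hs hrs g hg
    refine ⟨(⟨i % n, Nat.mod_lt _ hn⟩, ⟨j % 2, Nat.mod_lt _ (by norm_num)⟩), Set.mem_univ _, ?_⟩
    show r ^ (i % n) * s ^ (j % 2) = _
    rw [← pow_eq_pow_mod i hr, ← pow_eq_pow_mod j hs2]
  have h1 : (f '' Set.univ).ncard ≤ (Set.univ : Set (Fin n × Fin 2)).ncard :=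
    Set.ncard_image_le (Set.toFinite _)
  have h2 : (Set.univ : Set (Fin n × Fin 2)).ncard = 2 * n := by
    rw [Set.ncard_univ, Nat.card_prod, Nat.card_fin, Nat.card_fin, mul_comm]
  have h3 := Set.ncard_le_ncard hsub (Set.toFinite _)
  show Nat.card ((Subgroup.closure ({r, s} : Set S) : Subgroup S) : Set S) ≤ 2 * n
  rw [Nat.card_coe_set_eq]
  omega

/-- the subgroup generated by `r` of order `n` and `s` not commuting with `r` has `2 n` elements -/
theorem card_closure_meta [Finite S] (hn : 0 < n) (hr : orderOf r = n) (hs : s * s = 1)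
    (hrs : s⁻¹ * r * s = r ^ e) (hne : r ^ e ≠ r) :
    Nat.card (Subgroup.closure ({r, s} : Set S)) = 2 * n := by
  have hrn : r ^ n = 1 := by rw [← hr]; exact pow_orderOf_eq_one r
  have hle := card_closure_meta_le r s n e hn hrn hs hrs
  have hz : Subgroup.zpowers r ≤ Subgroup.closure ({r, s} : Set S) := by
    rw [Subgroup.zpowers_le]
    exact Subgroup.subset_closure (Set.mem_insert _ _)
  have hdvd := Subgroup.card_dvd_of_le hz
  rw [Nat.card_zpowers, hr] at hdvd
  obtain ⟨j, hj⟩ := hdvd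
  have hj1 : j ≠ 1 := by
    intro h1
    rw [h1, mul_one] at hj
    have heq : Subgroup.zpowers r = Subgroup.closure ({r, s} : Set S) :=
      Subgroup.eq_of_le_of_card_ge hz (by rw [Nat.card_zpowers, hr, hj])
    have hsm : s ∈ Subgroup.zpowers r := by
      rw [heq]
      exact Subgroup.subset_closure (Set.mem_insert_of_mem _ rfl)
    obtain ⟨k, hk⟩ := Subgroup.mem_zpowers_iff.mp hsm
    apply hne
    rw [← hrs, ← hk]
    have : Commute (r ^ k) r := (Commute.refl r).zpow_left k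
    rw [mul_assoc, ← this.eq, inv_mul_cancel_left]
  have hj0 : j ≠ 0 := by
    intro h0
    rw [h0, mul_zero] at hj
    have : 0 < Nat.card (Subgroup.closure ({r, s} : Set S)) := Nat.card_pos
    omega
  have hj2 : j ≤ 2 := by
    by_contra hcon
    have hcon' : 3 ≤ j := by omega
    have : n * 3 ≤ n * j := Nat.mul_le_mul_left n hcon'
    omega
  have : j = 2 := by omega
  rw [hj, this, mul_comm]

end card

/-! ## A subgroup containing two independent commuting elements of order 3 -/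

section nine

/-- the elements of a cyclic group of order 3 -/
theorem zpow_cases_of_orderOf_three (x : S) (hx : orderOf x = 3) (k : ℤ) :
    x ^ k = 1 ∨ x ^ k = x ∨ x ^ k = x ^ 2 := by
  have h := zpow_mod_orderOf x k
  rw [hx] at h
  have h0 : 0 ≤ k % 3 := Int.emod_nonneg _ (by norm_num)
  have h3 : k % 3 < 3 := Int.emod_lt_of_pos _ (by norm_num)
  obtain ⟨r, hr⟩ : ∃ r : ℤ, r = k % 3 := ⟨_, rfl⟩
  have h' : x ^ r = x ^ k := by
    rw [hr]
    exact h
  rw [← hr] at h0 h3
  rw [← h']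
  interval_cases r
  · exact Or.inl (zpow_zero x)
  · exact Or.inr (Or.inl (zpow_one x))
  · exact Or.inr (Or.inr (zpow_ofNat x 2))

theorem disjoint_zpowers_of_three (x y : S) (hx : orderOf x = 3)
    (hne : x ∉ Subgroup.zpowers y) : Disjoint (Subgroup.zpowers x) (Subgroup.zpowers y) := by
  rw [Subgroup.disjoint_def]
  intro g hgx hgy
  obtain ⟨k, rfl⟩ := Subgroup.mem_zpowers_iff.mp hgx
  have hx3 : x ^ 3 = 1 := by
    rw [← hx]
    exact pow_orderOf_eq_one x
  rcases zpow_cases_of_orderOf_three x hx k with h | h | h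
  · exact h
  · rw [h] at hgy
    exact absurd hgy hne
  · rw [h] at hgy
    exfalso
    apply hne
    have h4 : x = (x ^ 2) ^ 2 := by
      rw [← pow_mul]
      show x = x ^ (3 + 1)
      rw [pow_succ, hx3, one_mul]
    rw [h4]
    exact Subgroup.pow_mem _ hgy 2

/-- a finite subgroup containing two commuting elements of order 3, one of them not a power of the
other, has order divisible by 9 -/
theorem nine_dvd_card_of_commute [Finite S] (x y : S) (hx : orderOf x = 3) (hy : orderOf y = 3)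
    (hxy : Commute x y) (hne : x ∉ Subgroup.zpowers y) (H : Subgroup S) (hxH : x ∈ H)
    (hyH : y ∈ H) : 9 ∣ Nat.card H := by
  have hcomm : ∀ (a : Subgroup.zpowers x) (b : Subgroup.zpowers y),
      Commute ((Subgroup.zpowers x).subtype a) ((Subgroup.zpowers y).subtype b) := by
    intro a b
    obtain ⟨i, hi⟩ := Subgroup.mem_zpowers_iff.mp a.2
    obtain ⟨j, hj⟩ := Subgroup.mem_zpowers_iff.mp b.2
    show Commute (a : S) (b : S)
    rw [← hi, ← hj]
    exact hxy.zpow_zpow i j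
  let f : Subgroup.zpowers x × Subgroup.zpowers y →* S :=
    (Subgroup.zpowers x).subtype.noncommCoprod (Subgroup.zpowers y).subtype hcomm
  have hinj : Function.Injective f := by
    have h := Subgroup.mul_injective_of_disjoint (disjoint_zpowers_of_three x y hx hne)
    intro a b hab
    apply h
    have ha : f a = (a.1 : S) * (a.2 : S) := MonoidHom.noncommCoprod_apply _ _ hcomm a
    have hb : f b = (b.1 : S) * (b.2 : S) := MonoidHom.noncommCoprod_apply _ _ hcomm b
    show (a.1 : S) * (a.2 : S) = (b.1 : S) * (b.2 : S)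
    rw [← ha, ← hb, hab]
  have hcard : Nat.card f.range = 9 := by
    rw [← Nat.card_congr (MonoidHom.ofInjective hinj).toEquiv, Nat.card_prod, Nat.card_zpowers,
      Nat.card_zpowers, hx, hy]
  have hle : f.range ≤ H := by
    rintro _ ⟨a, rfl⟩
    have ha : f a = (a.1 : S) * (a.2 : S) := MonoidHom.noncommCoprod_apply _ _ hcomm a
    rw [ha]
    exact H.mul_mem ((Subgroup.zpowers_le.mpr hxH) a.1.2) ((Subgroup.zpowers_le.mpr hyH) a.2.2)
  rw [← hcard]
  exact Subgroup.card_dvd_of_le hle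

end nine

end Cfsg.Agent.Lib.Helper6.SmallStem
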