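import Cfsg.Agent.Lib.Helper6.Mult.L37A
import Cfsg.Agent.Lib.Helper6.Mult.PM12
import Cfsg.Agent.Lib.Helper6.Mult.SmallStem
import Cfsg.Agent.Lib.Helper5.StemRes

set_option autoImplicit false
set_option maxRecDepth 100000

/-! # The stem extensions of `L₃(7)` with a 2-group as kernel are trivial

A Sylow 2-subgroup of `L₃(7)` is semidihedral of order 32, generated by `r` of order 16 and an
involution `s` with `s r s = r ^ 7`; it has no non-trivial stem extension, and its index is odd. -/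

namespace Cfsg.Agent.Lib.Helper6.L37M

open Cfsg.Agent.Lib.Helper6.TC Cfsg.Agent.Lib.Helper6.PM

universe u

/-- an element of order 16 -/
noncomputable def rr : l37Model.G := l37Model.elt [0, 2, 0]

/-- an involution with `ss * rr * ss = rr ^ 7` -/
noncomputable def ss : l37Model.G := l37Model.elt [2, 0, 2, 1, 2]

theorem rr_pow16 : rr ^ 16 = 1 := by
  unfold rr
  rw [← l37Model.elt_wpow, ← l37Model.elt_nil]
  exact l37Model.elt_eq_of_chkW _ _ (by decide +kernel)

theorem rr_pow8 : rr ^ 8 ≠ 1 := by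
  unfold rr
  rw [← l37Model.elt_wpow, ← l37Model.elt_nil]
  exact l37Model.elt_ne_of_chkW _ _ 1 (by decide +kernel)

theorem orderOf_rr : orderOf rr = 16 := by
  haveI : Fact (Nat.Prime 2) := ⟨Nat.prime_two⟩
  exact orderOf_eq_prime_pow (p := 2) (n := 3) rr_pow8 rr_pow16

theorem ss_mul_ss : ss * ss = 1 := by
  unfold ss
  rw [← l37Model.elt_append, ← l37Model.elt_nil]
  exact l37Model.elt_eq_of_chkW _ _ (by decide +kernel)

theorem ss_rr_ss : ss⁻¹ * rr * ss = rr ^ 7 := by
  have h1 : ss⁻¹ = ss := inv_eq_of_mul_eq_one_left ss_mul_ss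
  rw [h1]
  unfold rr ss
  rw [← l37Model.elt_wpow, ← l37Model.elt_append, ← l37Model.elt_append]
  exact l37Model.elt_eq_of_chkW _ _ (by decide +kernel)

theorem rr_pow7_ne : rr ^ 7 ≠ rr := by
  unfold rr
  rw [← l37Model.elt_wpow]
  exact l37Model.elt_ne_of_chkW _ _ 1 (by decide +kernel)

/-- a Sylow 2-subgroup -/
noncomputable def S2 : Subgroup l37Model.G := Subgroup.closure {rr, ss}

theorem card_model : Nat.card l37Model.G = 1876896 := card_G

theorem card_S2 : Nat.card S2 = 32 :=
  SmallStem.card_closure_meta rr ss 16 7 (by norm_num) orderOf_rr ss_mul_ss ss_rr_ss rr_pow7_ne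

theorem index_S2 : S2.index = 58653 := by
  have h := Subgroup.card_mul_index S2
  rw [card_S2, card_model] at h
  omega

/-- the generators, in the subgroup -/
noncomputable def rr' : S2 := ⟨rr, Subgroup.subset_closure (by simp)⟩

noncomputable def ss' : S2 := ⟨ss, Subgroup.subset_closure (by simp)⟩

theorem closure_S2 : Subgroup.closure ({rr', ss'} : Set S2) = ⊤ := by
  have h := Subgroup.closure_closure_coe_preimage (k := ({rr, ss} : Set l37Model.G))
  have e : ((↑) ⁻¹' ({rr, ss} : Set l37Model.G) : Set (Subgroup.closure ({rr, ss} : Set l37Model.G)))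
      = ({rr', ss'} : Set S2) := by
    ext x
    simp only [Set.mem_preimage, Set.mem_insert_iff, Set.mem_singleton_iff]
    constructor
    · rintro (h | h)
      · exact Or.inl (Subtype.ext h)
      · exact Or.inr (Subtype.ext h)
    · rintro (h | h)
      · exact Or.inl (congrArg Subtype.val h)
      · exact Or.inr (congrArg Subtype.val h)
  rw [e] at h
  exact h

theorem orderOf_rr'_pow : orderOf (rr' ^ (7 - 1)) = 7 + 1 := by
  rw [← Subgroup.orderOf_coe]
  show orderOf (rr ^ 6) = 8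
  rw [orderOf_pow' rr (by norm_num), orderOf_rr]
  decide

theorem S2_stem (Γ' : Type u) [Group Γ'] [Finite Γ'] (σ' : Γ' →* ↥S2)
    (hσ' : Cfsg.IsStemExtension σ') : Nat.card σ'.ker ≤ 1 := by
  have h := SmallStem.ker_eq_bot_of_meta rr' ss' 7 (by norm_num) closure_S2
    (Subtype.ext ss_mul_ss) (Subtype.ext ss_rr_ss) orderOf_rr'_pow σ' hσ'
  rw [h, Subgroup.card_bot]

/-- **the stem extensions of `L₃(7)` with a 2-group as kernel are trivial** -/
theorem bound2_model (Γ : Type u) [Group Γ] [Finite Γ] (σ : Γ →* l37Model.G)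
    (hσ : Cfsg.IsStemExtension σ) (hk : IsPGroup 2 σ.ker) : Nat.card σ.ker ≤ 1 := by
  haveI : Fact (Nat.Prime 2) := ⟨Nat.prime_two⟩
  refine Cfsg.Agent.Lib.Helper5.StemRes.card_ker_le_of_index_coprime σ hσ 2 hk S2
    (by rw [index_S2]; norm_num) 1 ?_
  intro Γ' _ _ σ' hσ' _
  exact S2_stem Γ' σ' hσ'

theorem bound2 (Γ : Type u) [Group Γ] [Finite Γ] (σ : Γ →* Cfsg.Agent.Lib.Helper6.TCP.L37.G)
    (hσ : Cfsg.IsStemExtension σ) (hk : IsPGroup 2 σ.ker) : Nat.card σ.ker ≤ 1 :=
  bound2_model Γ σ hσ hk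

end Cfsg.Agent.Lib.Helper6.L37M
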