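import Cfsg.Agent.Lib.Helper6.Mult.L37B
import Cfsg.Agent.Lib.Helper6.Mult.PM6
import Cfsg.Agent.Lib.Helper6.MultD.L37Bp7I
import Cfsg.Agent.Lib.Helper6.MultD.L37Bp7L
import Cfsg.Agent.Lib.Helper6.MultD.L37Bp7S

set_option autoImplicit false
set_option maxRecDepth 100000

/-! # The stem extensions of `L₃(7)` with a 7-group as kernel are trivial

A Borel subgroup `B` (of index 456) acts on 343 pairs of points, the stabilizer of a pair being of
order prime to 7; the certificate `L37Bp7` shows that the stem extensions of `B` with a 7-group as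
kernel are trivial, and the index of `B` is prime to 7. -/

namespace Cfsg.Agent.Lib.Helper6.L37M

open Cfsg.Agent.Lib.Helper6.TC Cfsg.Agent.Lib.Helper6.PM Cfsg.Agent.Lib.Helper6.MultD
open Cfsg.Agent.Lib.Helper1 Cfsg.Agent.Lib.Helper1.MatCode Cfsg.Agent.Lib.Helper1.StemSA

open scoped Pointwise

universe u

/-- the Borel subgroup -/
noncomputable abbrev B1 : Subgroup l37Model.G := subH l37Model wsL37BM

/-- the stabilizer of the first of the 343 sets -/
noncomputable abbrev KB7 : Subgroup l37B.G := MulAction.stabilizer l37B.G (ptS l37B masksL37Bp7 0)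

theorem card_KB7_mul : Nat.card KB7 * 343 = Nat.card l37B.G :=
  card_stab_sets l37B DL37Bp7 chk_structL37Bp7 wsL37Bp7 pmL37Bp7 lwL37Bp7 coreL37Bp7
    (by decide) masksL37Bp7 chk_setsL37Bp7 chk_distinctL37Bp7

theorem card_B1_mul : Nat.card KB7 * 343 * B1.index = 1876896 := by
  have h := Subgroup.card_mul_index B1
  rw [card_model] at h
  rw [card_KB7_mul]
  exact h

theorem card_KB7_dvd : Nat.card KB7 * B1.index = 5472 := by
  have h := card_B1_mul
  have e : Nat.card KB7 * 343 * B1.index = 343 * (Nat.card KB7 * B1.index) := by ring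
  rw [e] at h
  omega

theorem coprime_5472 (a : ℕ) (h : a ∣ 5472) : Nat.Coprime a 7 := by
  have h7 : Nat.Coprime 5472 7 := by decide
  exact Nat.Coprime.coprime_dvd_left h h7

theorem index_B1 : ¬ 7 ∣ B1.index := by
  intro h
  have h1 : Nat.Coprime B1.index 7 := coprime_5472 _ ⟨Nat.card KB7, by rw [← card_KB7_dvd]; ring⟩
  have h2 := Nat.Coprime.eq_one_of_dvd h1.symm h
  norm_num at h2

theorem hord7 : ∀ i < DL37Bp7.k, Nat.Coprime (DL37Bp7.ords.getD i 0) 7 := by
  have h : ((List.range DL37Bp7.k).all fun i => Nat.gcd (DL37Bp7.ords.getD i 0) 7 == 1) = true := by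
    decide +kernel
  simp only [List.all_eq_true, List.mem_range, beq_iff_eq] at h
  exact h

theorem es7 : CL37Bp7.es.sum = 0 := by decide +kernel

theorem comm_quot_top' {K : Type*} [Group K] : ∀ x y : K ⧸ (⊤ : Subgroup K), x * y = y * x := by
  intro x y
  haveI : Subsingleton (K ⧸ (⊤ : Subgroup K)) := QuotientGroup.subsingleton_quotient_top
  exact Subsingleton.elim _ _

theorem B_bound7 (Γ' : Type u) [Group Γ'] [Finite Γ'] (σ' : Γ' →* ↥B1)
    (hσ' : Cfsg.IsStemExtension σ') (hk : IsPGroup 7 σ'.ker) : Nat.card σ'.ker ≤ 1 := by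
  haveI : Fact (Nat.Prime 7) := ⟨by norm_num⟩
  have hpos : 0 < Nat.card KB7 := Nat.card_pos
  have hcop : Nat.Coprime (Nat.card KB7) 7 :=
    coprime_5472 _ ⟨B1.index, card_KB7_dvd.symm⟩
  have h : Nat.card σ'.ker * 7 ^ 0 ≤ 7 ^ CL37Bp7.es.sum := bound_sets_powP.{u} l37B 7 DL37Bp7 CL37Bp7
    rfl chk_certL37Bp7 chk_structL37Bp7 wsL37Bp7 pmL37Bp7 lwL37Bp7 coreL37Bp7 (by decide)
    hord7 masksL37Bp7 chk_setsL37Bp7 chk_distinctL37Bp7 0 (Nat.card KB7) hcop hpos
    KB7 rfl (by rw [pow_zero, one_mul]) 1 (by rw [orderOf_one, pow_zero]) ⊤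
    (by rw [Subgroup.card_top]) comm_quot_top' Γ' σ' hσ' hk
  rw [es7] at h
  omega

/-- **the stem extensions of `L₃(7)` with a 7-group as kernel are trivial** -/
theorem bound7_model (Γ : Type u) [Group Γ] [Finite Γ] (σ : Γ →* l37Model.G)
    (hσ : Cfsg.IsStemExtension σ) (hk : IsPGroup 7 σ.ker) : Nat.card σ.ker ≤ 1 := by
  haveI : Fact (Nat.Prime 7) := ⟨by norm_num⟩
  exact Cfsg.Agent.Lib.Helper5.StemRes.card_ker_le_of_index_coprime σ hσ 7 hk B1 index_B1 1 B_bound7

theorem bound7 (Γ : Type u) [Group Γ] [Finite Γ] (σ : Γ →* Cfsg.Agent.Lib.Helper6.TCP.L37.G)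
    (hσ : Cfsg.IsStemExtension σ) (hk : IsPGroup 7 σ.ker) : Nat.card σ.ker ≤ 1 :=
  bound7_model Γ σ hσ hk

end Cfsg.Agent.Lib.Helper6.L37M
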