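import Mathlib
import Cfsg.Agent.Lib.Helper1.MatCode3

set_option autoImplicit false

/-! # Some lemmas on finite groups for the computation of multipliers: normal complements of
cyclic Sylow 2-subgroups, and groups generated by two elements which are perfect by the exponent
sums of two relations -/

namespace Cfsg.Agent.Lib.Helper6.PM

open Cfsg.Agent.Lib.Helper1.MatCode

open scoped commutatorElement

universe u

section complement

variable {K : Type*} [Group K] [Finite K]

/-- a finite group of order `2 ^ n₂ * u'` with `u'` odd, which has an element of order `2 ^ n₂`,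
has a normal subgroup of order `u'` with a commutative quotient -/
theorem exists_normal_compl_two (n2 u' : ℕ) (hn : 0 < n2) (hu : Nat.Coprime u' 2)
    (hK : Nat.card K = 2 ^ n2 * u') (c : K) (hc : orderOf c = 2 ^ n2) :
    ∃ N : Subgroup K, ∃ _ : N.Normal, Nat.card N = u' ∧ ∀ x y : K ⧸ N, x * y = y * x := by
  haveI : Fact (Nat.Prime 2) := ⟨Nat.prime_two⟩
  have hu0 : u' ≠ 0 := by
    intro h
    rw [h] at hu
    simp at hu
  have hfac : (Nat.card K).factorization 2 = n2 := by
    rw [hK, Nat.factorization_mul (pow_ne_zero _ (by norm_num)) hu0,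
      Nat.Prime.factorization_pow Nat.prime_two]
    have h0 : u'.factorization 2 = 0 := by
      apply Nat.factorization_eq_zero_of_not_dvd
      intro hd
      have := Nat.Coprime.eq_one_of_dvd hu.symm hd
      omega
    simp [h0]
  have hcard : Nat.card (Subgroup.zpowers c) = 2 ^ (Nat.card K).factorization 2 := by
    rw [Nat.card_zpowers, hc, hfac]
  let P : Sylow 2 K := Sylow.ofCard (Subgroup.zpowers c) hcard
  have hP : IsCyclic P := by
    show IsCyclic (Subgroup.zpowers c)
    infer_instance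
  have hmin : (Nat.card K).minFac = 2 := by
    rw [Nat.minFac_eq_two_iff, hK]
    exact Dvd.dvd.mul_right (dvd_pow_self 2 hn.ne') u'
  have hcompl := IsCyclic.isComplement' hmin hP
  set f := MonoidHom.transferSylow P (hP.normalizer_le_centralizer hmin) with hf
  refine ⟨f.ker, inferInstance, ?_, ?_⟩
  · have h1 := hcompl.card_mul_card
    have h2 : Nat.card (P : Subgroup K) = 2 ^ n2 := by
      show Nat.card (Subgroup.zpowers c) = 2 ^ n2
      rw [Nat.card_zpowers, hc]
    rw [h2, hK] at h1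
    have hpos : 0 < 2 ^ n2 := pow_pos (by norm_num) _
    nlinarith [Nat.eq_of_mul_eq_mul_right hpos (by rw [h1, mul_comm] : Nat.card f.ker * 2 ^ n2 = u' * 2 ^ n2)]
  · intro x y
    letI : CommGroup (P : Subgroup K) := IsCyclic.commGroup
    apply QuotientGroup.kerLift_injective f
    rw [map_mul, map_mul, mul_comm]

end complement

section exponents

variable {H : Type*} [Group H]

/-- the image of a product of two generators in a commutative group -/
theorem map_wordProd_two {A : Type*} [CommGroup A] (π : H →* A) (gs : List H) (w : List ℕ)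
    (hw : ∀ i ∈ w, i < 2) :
    π (wordProd gs w) = π (gs.getD 0 1) ^ (w.count 0) * π (gs.getD 1 1) ^ (w.count 1) := by
  induction w with
  | nil => simp [wordProd_nil]
  | cons i w ih =>
    have hi : i < 2 := hw i List.mem_cons_self
    have ih' := ih (fun j hj => hw j (List.mem_cons_of_mem _ hj))
    rw [wordProd_cons, map_mul, ih']
    interval_cases i
    · rw [List.count_cons_self, List.count_cons_of_ne (by norm_num), pow_succ]
      rw [mul_comm (π (gs.getD 0 1) ^ List.count 0 w) (π (gs.getD 0 1)), mul_assoc]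
    · rw [List.count_cons_self, List.count_cons_of_ne (by norm_num), pow_succ]
      rw [mul_comm (π (gs.getD 1 1) ^ List.count 1 w) (π (gs.getD 1 1)), mul_left_comm]

/-- a group generated by two elements of orders dividing `m`, with two relations whose exponent
sums have a determinant coprime to `m`, is perfect -/
theorem perfect_of_two_rels (gs : List H)
    (hgen : Subgroup.closure {g : H | ∃ i < 2, g = gs.getD i 1} = ⊤) (m : ℕ)
    (hpow : ∀ i < 2, (gs.getD i 1) ^ m = 1) (r1 r2 : List ℕ × List ℕ)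
    (hr1 : ∀ i ∈ r1.1 ++ r1.2, i < 2) (hr2 : ∀ i ∈ r2.1 ++ r2.2, i < 2)
    (h1 : wordProd gs r1.1 = wordProd gs r1.2) (h2 : wordProd gs r2.1 = wordProd gs r2.2)
    (hdet : Int.gcd
      ((((r1.1.count 0 : ℕ) : ℤ) - r1.2.count 0) * (((r2.1.count 1 : ℕ) : ℤ) - r2.2.count 1) -
        (((r1.1.count 1 : ℕ) : ℤ) - r1.2.count 1) * (((r2.1.count 0 : ℕ) : ℤ) - r2.2.count 0))
      m = 1) : commutator H = ⊤ := by
  let π : H →* Abelianization H := Abelianization.of
  set X := π (gs.getD 0 1) with hX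
  set Y := π (gs.getD 1 1) with hY
  set a : ℤ := ((r1.1.count 0 : ℕ) : ℤ) - r1.2.count 0 with ha
  set b : ℤ := ((r1.1.count 1 : ℕ) : ℤ) - r1.2.count 1 with hb
  set c : ℤ := ((r2.1.count 0 : ℕ) : ℤ) - r2.2.count 0 with hc
  set d : ℤ := ((r2.1.count 1 : ℕ) : ℤ) - r2.2.count 1 with hd
  have hXm : X ^ (m : ℤ) = 1 := by
    rw [zpow_natCast, hX, ← map_pow, hpow 0 (by norm_num), map_one]
  have hYm : Y ^ (m : ℤ) = 1 := by
    rw [zpow_natCast, hY, ← map_pow, hpow 1 (by norm_num), map_one]
  have e1 : X ^ a * Y ^ b = 1 := by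
    have h := congrArg π h1
    rw [map_wordProd_two π gs r1.1 (fun i hi => hr1 i (List.mem_append_left _ hi)),
      map_wordProd_two π gs r1.2 (fun i hi => hr1 i (List.mem_append_right _ hi))] at h
    rw [ha, hb, zpow_sub, zpow_sub, zpow_natCast, zpow_natCast, zpow_natCast, zpow_natCast]
    rw [← hX, ← hY] at h
    calc X ^ r1.1.count 0 * (X ^ r1.2.count 0)⁻¹ * (Y ^ r1.1.count 1 * (Y ^ r1.2.count 1)⁻¹)
        = (X ^ r1.1.count 0 * Y ^ r1.1.count 1) * (X ^ r1.2.count 0 * Y ^ r1.2.count 1)⁻¹ := by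
          rw [mul_inv]; ac_rfl
      _ = 1 := by rw [h, mul_inv_cancel]
  have e2 : X ^ c * Y ^ d = 1 := by
    have h := congrArg π h2
    rw [map_wordProd_two π gs r2.1 (fun i hi => hr2 i (List.mem_append_left _ hi)),
      map_wordProd_two π gs r2.2 (fun i hi => hr2 i (List.mem_append_right _ hi))] at h
    rw [hc, hd, zpow_sub, zpow_sub, zpow_natCast, zpow_natCast, zpow_natCast, zpow_natCast]
    rw [← hX, ← hY] at h
    calc X ^ r2.1.count 0 * (X ^ r2.2.count 0)⁻¹ * (Y ^ r2.1.count 1 * (Y ^ r2.2.count 1)⁻¹)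
        = (X ^ r2.1.count 0 * Y ^ r2.1.count 1) * (X ^ r2.2.count 0 * Y ^ r2.2.count 1)⁻¹ := by
          rw [mul_inv]; ac_rfl
      _ = 1 := by rw [h, mul_inv_cancel]
  -- Cramer
  have hXdet : X ^ (a * d - b * c) = 1 := by
    have : X ^ (a * d - b * c) = (X ^ a * Y ^ b) ^ d * ((X ^ c * Y ^ d) ^ b)⁻¹ := by
      rw [mul_zpow, mul_zpow, ← zpow_mul, ← zpow_mul, ← zpow_mul, ← zpow_mul, zpow_sub, mul_inv,
        mul_comm d b]
      have : Y ^ (b * d) * ((X ^ (c * b))⁻¹ * (Y ^ (b * d))⁻¹) = (X ^ (c * b))⁻¹ := by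
        rw [mul_comm ((X ^ (c * b))⁻¹), mul_inv_cancel_left]
      rw [mul_assoc, this, mul_comm b c]
    rw [this, e1, e2, one_zpow, one_zpow, inv_one, mul_one]
  have hYdet : Y ^ (a * d - b * c) = 1 := by
    have : Y ^ (a * d - b * c) = (X ^ c * Y ^ d) ^ a * ((X ^ a * Y ^ b) ^ c)⁻¹ := by
      rw [mul_zpow, mul_zpow, ← zpow_mul, ← zpow_mul, ← zpow_mul, ← zpow_mul, zpow_sub, mul_inv,
        mul_comm d a, mul_comm b c]
      have : X ^ (c * a) * Y ^ (a * d) * ((X ^ (a * c))⁻¹ * (Y ^ (c * b))⁻¹) =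
          Y ^ (a * d) * (Y ^ (c * b))⁻¹ := by
        rw [mul_comm c a, mul_mul_mul_comm, mul_inv_cancel, one_mul]
      rw [this]
    rw [this, e1, e2, one_zpow, one_zpow, inv_one, mul_one]
  have key : ∀ Z : Abelianization H, Z ^ (a * d - b * c) = 1 → Z ^ (m : ℤ) = 1 → Z = 1 := by
    intro Z h1 h2
    have hg : Z ^ ((Int.gcd (a * d - b * c) m : ℕ) : ℤ) = 1 := by
      rw [Int.gcd_eq_gcd_ab, zpow_add, zpow_mul, zpow_mul, h1, h2, one_zpow, one_zpow, mul_one]
    rw [hdet] at hg
    simpa using hg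
  have hX1 : X = 1 := key X hXdet hXm
  have hY1 : Y = 1 := key Y hYdet hYm
  have hker : ∀ g : H, π g = 1 → g ∈ commutator H := by
    intro g hg
    exact (QuotientGroup.eq_one_iff (N := commutator H) g).mp hg
  rw [eq_top_iff, ← hgen, Subgroup.closure_le]
  rintro _ ⟨i, hi, rfl⟩
  interval_cases i
  · exact hker _ hX1
  · exact hker _ hY1

end exponents

end Cfsg.Agent.Lib.Helper6.PM
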