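import Cfsg.Agent.Lib.Helper6.Mult.PM4
import Cfsg.Agent.Lib.Helper6.Mult.PM6
import Cfsg.Agent.Lib.Helper6.Mult.PM8
import Cfsg.Agent.Lib.Helper6.MultD.MCLX
import Cfsg.Agent.Lib.Helper6.MultD.MCLAp2L
import Cfsg.Agent.Lib.Helper6.MultD.MCLAp2S
import Cfsg.Agent.Lib.Helper6.MultD.MCLAp2H
import Cfsg.Agent.Lib.Helper6.MultD.MCLPp5L
import Cfsg.Agent.Lib.Helper6.MultD.MCLPp5H
import Cfsg.Agent.Lib.Helper6.MultD.MCLCp2L
import Cfsg.Agent.Lib.Helper6.MultD.MCLCp2S
import Cfsg.Agent.Lib.Helper6.MultD.MCLCp2H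
import Cfsg.Agent.Lib.Helper7.McLB9

set_option autoImplicit false
set_option maxRecDepth 100000

/-! # The McLaughlin group on 275 points: the stabilizer `U3(5)` of a set of 50 points, the
stabilizer `U4(3)` of a point, and the stabilizer of order 1000 of a set of 50 points in the
subgroup `U3(5)` -/

namespace Cfsg.Agent.Lib.Helper6.McLMu

open Cfsg.Agent.Lib.Helper6.TC Cfsg.Agent.Lib.Helper6.PM
open Cfsg.Agent.Lib.Helper6.MultD
open Cfsg.Agent.Lib.Helper1 Cfsg.Agent.Lib.Helper1.MatCode Cfsg.Agent.Lib.Helper1.StemSA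
open Cfsg.Agent.Lib.Helper5.Chain

open scoped Pointwise

/-- the model of the McLaughlin group on 275 points, with 19 letters -/
noncomputable abbrev mclS : PModel := Cfsg.Agent.Lib.Helper7.McLB.mclS

theorem card_mclS : Nat.card mclS.G = 898128000 := Cfsg.Agent.Lib.Helper7.McLB.card_McL

/-! ## General lemmas -/

theorem elt_flatten_replicate (M : PModel) (w : List ℕ) (n : ℕ) :
    M.elt (List.replicate n w).flatten = (M.elt w) ^ n := by
  induction n with
  | zero => simp [M.elt_nil]
  | succ k ih => rw [List.replicate_succ, List.flatten_cons, M.elt_append, ih, pow_succ']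

/-- a word which fixes all the points gives the unit -/
theorem elt_eq_one (M : PModel) (w : List ℕ) (hw : ∀ c ∈ w, c < M.nl)
    (h : ∀ q < M.n, wapp M.px w q = q) : M.elt w = 1 := by
  rw [← M.elt_nil]
  exact M.elt_eq_of_wapp w [] hw (by simp) h

/-- a word which moves a point does not give the unit -/
theorem elt_ne_one (M : PModel) (w : List ℕ) (hw : ∀ c ∈ w, c < M.nl) (q : ℕ) (hq : q < M.n)
    (h : wapp M.px w q ≠ q) : M.elt w ≠ 1 := by
  intro h1
  apply h
  have := M.phi_inv_val w hw ⟨q, hq⟩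
  rw [h1, map_one, inv_one] at this
  exact this.symm

theorem lt_flatten_replicate (k nl : ℕ) (u : List ℕ) (hu : ∀ c ∈ u, c < nl) :
    ∀ c ∈ (List.replicate k u).flatten, c < nl := by
  intro c hc
  rw [List.mem_flatten] at hc
  obtain ⟨l, hl, hcl⟩ := hc
  rw [List.mem_replicate] at hl
  rw [hl.2] at hcl
  exact hu c hcl

/-- a group with two letters of orders dividing `m`, `n`, with a product of order dividing `l`,
the numbers `m`, `n`, `l` being pairwise coprime, is perfect -/
theorem perfect_of_two_letters (M : PModel) (hnl : M.nl = 2) (m n l : ℕ)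
    (hx : ∀ q < M.n, wapp M.px (List.replicate m [0]).flatten q = q)
    (hy : ∀ q < M.n, wapp M.px (List.replicate n [1]).flatten q = q)
    (hxy : ∀ q < M.n, wapp M.px (List.replicate l [0, 1]).flatten q = q)
    (hmn : Nat.Coprime m n) (hml : Nat.Coprime m l) (hnl' : Nat.Coprime n l) :
    commutator M.G = ⊤ := by
  have h0 : ∀ c ∈ [0], c < M.nl := by
    intro c hc
    rw [List.mem_singleton] at hc
    omega
  have h1 : ∀ c ∈ [1], c < M.nl := by
    intro c hc
    rw [List.mem_singleton] at hc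
    omega
  have h01 : ∀ c ∈ [0, 1], c < M.nl := by
    intro c hc
    simp only [List.mem_cons, List.not_mem_nil, or_false] at hc
    omega
  apply perfect_of_coprime (M.elt [0]) (M.elt [1]) ?_ m n l ?_ ?_ ?_ hmn hml hnl'
  · rw [← M.closure_letters]
    congr 1
    ext g
    simp only [Set.mem_insert_iff, Set.mem_singleton_iff, Set.mem_ofPred_eq]
    constructor
    · rintro (rfl | rfl)
      · exact ⟨0, by omega, rfl⟩
      · exact ⟨1, by omega, rfl⟩
    · rintro ⟨c, hc, rfl⟩
      have hc' : c < 2 := by omega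
      interval_cases c
      · exact Or.inl rfl
      · exact Or.inr rfl
  · rw [← elt_flatten_replicate]
    exact elt_eq_one M _ (lt_flatten_replicate m M.nl [0] h0) hx
  · rw [← elt_flatten_replicate]
    exact elt_eq_one M _ (lt_flatten_replicate n M.nl [1] h1) hy
  · have e : M.elt [0] * M.elt [1] = M.elt [0, 1] := by
      rw [← M.elt_append]
      rfl
    rw [e, ← elt_flatten_replicate]
    exact elt_eq_one M _ (lt_flatten_replicate l M.nl [0, 1] h01) hxy

/-! ## The stabilizer of the first of the 7128 sets, and the subgroup `U3(5)` -/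

/-- the stabilizer of the first set, a group `U3(5)` -/
noncomputable abbrev KA : Subgroup mclS.G :=
  MulAction.stabilizer mclS.G (ptS mclS masksMCLAp2 0)

theorem card_KA : Nat.card KA = 126000 := by
  have h := card_stab_sets mclS DMCLAp2 chk_structMCLAp2 wsMCLAp2 pmMCLAp2 lwMCLAp2 coreMCLAp2
    (by decide) masksMCLAp2 chk_setsMCLAp2 chk_distinctMCLAp2
  rw [card_mclS] at h
  have e : DMCLAp2.m = 7128 := rfl
  rw [e] at h
  change Nat.card KA * 7128 = 898128000 at h
  omega

/-- the subgroup `U3(5)` -/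
noncomputable abbrev U1 : Subgroup mclS.G := PM.subH mclS wsMCLUM

theorem wsU_lt (i : ℕ) (hi : i < wsMCLUM.length) : ∀ c ∈ wsMCLUM.getD i [], c < mclS.nl := by
  apply tabMCLUM.1
  rw [List.getD_eq_getElem _ _ hi]
  exact List.getElem_mem _

theorem U1_le_KA : U1 ≤ KA := by
  unfold U1 PM.subH
  rw [Subgroup.closure_le]
  rintro _ ⟨i, hi, rfl⟩
  rw [SetLike.mem_coe, MulAction.mem_stabilizer_iff]
  have h := chk_fixAMCL
  simp only [List.all_eq_true, List.mem_range, beq_iff_eq] at h
  have hi' : i < 2 := hi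
  exact elt_smul_maskSet mclS _ (wsU_lt i hi) (pmMCLUM i) (tabMCLUM.2 i hi) _ _
    (fun q hq => h i hi' q hq)

theorem card_mclU_ge : 126000 ≤ Nat.card mclU.G := by
  have h := Cfsg.Agent.Lib.Helper7.McLB.card_ge_of_chain mclU baseMCLU levMCLU
    (isChain_of_chk _ _ _ chk_chainMCLU)
    (by
      intro b hb
      simp only [baseMCLU, List.mem_cons, List.not_mem_nil, or_false] at hb
      show b < 275
      omega)
    (letters_of_chkLet 2 levMCLU chk_letMCLU)
  rwa [chk_prodMCLU] at h

theorem U1_eq_KA : U1 = KA :=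
  Subgroup.eq_of_le_of_card_ge U1_le_KA (by rw [card_KA]; exact card_mclU_ge)

theorem card_mclU : Nat.card mclU.G = 126000 := by
  show Nat.card ↥U1 = 126000
  rw [U1_eq_KA, card_KA]

theorem U1_perfect : commutator ↥U1 = ⊤ := by
  have h := chk_ordsMCLU
  simp only [List.all_eq_true, List.mem_range, beq_iff_eq, Bool.and_eq_true, wappS_eq] at h
  exact perfect_of_two_letters mclU rfl 3 5 7 (fun q hq => (h q hq).1.1) (fun q hq => (h q hq).1.2)
    (fun q hq => (h q hq).2) (by norm_num) (by norm_num) (by norm_num)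

/-! ## The stabilizer of the first point, and the subgroup `U4(3)` -/

/-- the stabilizer of the first point, a group `U4(3)` -/
noncomputable abbrev KP : Subgroup mclS.G := MulAction.stabilizer mclS.G (0 : Fin mclS.n)

theorem pt_zero (PL : ℕ → ℕ) (h : PL 0 = 0) : pt mclS PL 0 = (0 : Fin mclS.n) := by
  unfold pt
  rw [h]
  rfl

theorem card_KP : Nat.card KP = 3265920 := by
  have h := card_stab_pts mclS DMCLPp5 chk_structMCLPp5 wsMCLPp5 pmMCLPp5 lwMCLPp5 coreMCLPp5
    (by decide) PLMCLPp5 PLIMCLPp5 chk_ptsMCLPp5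
  rw [pt_zero PLMCLPp5 chk_fixPMCL.1, card_mclS] at h
  have e : DMCLPp5.m = 275 := rfl
  rw [e] at h
  change Nat.card KP * 275 = 898128000 at h
  omega

/-- the subgroup `U4(3)` -/
noncomputable abbrev V1 : Subgroup mclS.G := PM.subH mclS wsMCLVM

theorem V1_le_KP : V1 ≤ KP := by
  unfold V1 PM.subH
  rw [Subgroup.closure_le]
  rintro _ ⟨i, hi, rfl⟩
  rw [SetLike.mem_coe, MulAction.mem_stabilizer_iff]
  apply mclS.elt_smul
  · apply tabMCLVM.1
    rw [List.getD_eq_getElem _ _ hi]
    exact List.getElem_mem _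
  · have h := tabMCLVM.2 i hi 0 (by decide)
    have hi' : i < 2 := hi
    have e : pmMCLVM i 0 = 0 := by
      interval_cases i
      · exact chk_fixPMCL.2.1
      · exact chk_fixPMCL.2.2
    rw [e] at h
    exact h

theorem card_mclV_ge : 3265920 ≤ Nat.card mclV.G := by
  have h := Cfsg.Agent.Lib.Helper7.McLB.card_ge_of_chain mclV baseMCLV levMCLV
    (isChain_of_chk _ _ _ chk_chainMCLV)
    (by
      intro b hb
      simp only [baseMCLV, List.mem_cons, List.not_mem_nil, or_false] at hb
      show b < 275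
      omega)
    (letters_of_chkLet 2 levMCLV chk_letMCLV)
  rwa [chk_prodMCLV] at h

theorem V1_eq_KP : V1 = KP :=
  Subgroup.eq_of_le_of_card_ge V1_le_KP (by rw [card_KP]; exact card_mclV_ge)

theorem card_V1 : Nat.card ↥V1 = 3265920 := by rw [V1_eq_KP, card_KP]

theorem V1_perfect : commutator ↥V1 = ⊤ := by
  have h := chk_ordsMCLV
  simp only [List.all_eq_true, List.mem_range, beq_iff_eq, Bool.and_eq_true, wappS_eq] at h
  exact perfect_of_two_letters mclV rfl 4 9 7 (fun q hq => (h q hq).1.1) (fun q hq => (h q hq).1.2)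
    (fun q hq => (h q hq).2) (by norm_num) (by norm_num) (by norm_num)

/-! ## The stabilizer of the first of the 126 sets in the subgroup `U3(5)` -/

/-- the stabilizer of the first set, of order 1000 -/
noncomputable abbrev KC : Subgroup mclU.G := MulAction.stabilizer mclU.G (ptS mclU masksMCLCp2 0)

theorem card_KC : Nat.card KC = 1000 := by
  have h := card_stab_sets mclU DMCLCp2 chk_structMCLCp2 wsMCLCp2 pmMCLCp2 lwMCLCp2 coreMCLCp2
    (by decide) masksMCLCp2 chk_setsMCLCp2 chk_distinctMCLCp2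
  rw [card_mclU] at h
  have e : DMCLCp2.m = 126 := rfl
  rw [e] at h
  change Nat.card KC * 126 = 126000 at h
  omega

theorem c8_lt : ∀ c ∈ c8MCL, c < mclU.nl := by decide

/-- the element of order 8 -/
noncomputable def c8 : mclU.G := mclU.elt c8MCL

theorem c8_mem : c8 ∈ KC := by
  rw [MulAction.mem_stabilizer_iff]
  have h := chk_c8MCL
  simp only [List.all_eq_true, List.mem_range, beq_iff_eq, Bool.and_eq_true, wappS_eq] at h
  exact elt_smul_maskSet mclU c8MCL c8_lt (fun q => wapp mclU.px c8MCL q) (fun _ _ => rfl) _ _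
    (fun q hq => (h q hq).1)

theorem c8_pow8 : c8 ^ 2 ^ (2 + 1) = 1 := by
  have h := chk_c8MCL
  simp only [List.all_eq_true, List.mem_range, beq_iff_eq, Bool.and_eq_true, wappS_eq] at h
  show c8 ^ 8 = 1
  unfold c8
  rw [← elt_flatten_replicate]
  exact elt_eq_one mclU _ (lt_flatten_replicate 8 mclU.nl c8MCL c8_lt) (fun q hq => (h q hq).2)

theorem c8_pow4 : ¬ c8 ^ 2 ^ 2 = 1 := by
  show ¬ c8 ^ 4 = 1
  unfold c8
  rw [← elt_flatten_replicate]
  have h := chk_c8neMCL
  rw [wappS_eq] at h
  exact elt_ne_one mclU _ (lt_flatten_replicate 4 mclU.nl c8MCL c8_lt) _ (by decide) h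

theorem orderOf_c8 : orderOf (⟨c8, c8_mem⟩ : KC) = 2 ^ 3 := by
  rw [Subgroup.orderOf_mk]
  exact orderOf_eq_prime_pow c8_pow4 c8_pow8

/-- the normal subgroup of order 125 of the stabilizer of order 1000, with a commutative quotient -/
theorem exists_compl_KC : ∃ N : Subgroup KC, ∃ _ : N.Normal, Nat.card N = 125 ∧
    ∀ x y : KC ⧸ N, x * y = y * x :=
  exists_normal_compl_two 3 125 (by norm_num) (by norm_num) (by rw [card_KC]; norm_num) ⟨c8, c8_mem⟩
    orderOf_c8

theorem KC_eq3 : KC = MulAction.stabilizer mclU.G (ptS mclU masksMCLCp3 0) := by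
  unfold KC ptS
  rw [chk_masks0MCL.2]

theorem KA_eq3 : KA = MulAction.stabilizer mclS.G (ptS mclS masksMCLAp3 0) := by
  unfold KA ptS
  rw [chk_masks0MCL.1]

end Cfsg.Agent.Lib.Helper6.McLMu
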