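import Cfsg.Agent.Lib.Helper6.Mult.PM6

set_option autoImplicit false
set_option maxRecDepth 100000

/-! # Groups with a faithful permutation action given by tables: a cheaper check of the action
of the generators on sets given by masks -/

namespace Cfsg.Agent.Lib.Helper6.PM

open Cfsg.Agent.Lib.Helper6.TC

/-- a bit of a mask, as a number -/
noncomputable def bitN (a q : ℕ) : ℕ := Nat.land (Nat.shiftRight a q) 1

theorem bitN_eq (a q : ℕ) : bitN a q = if a.testBit q then 1 else 0 := by
  unfold bitN
  show (a >>> q) &&& 1 = _
  rw [Nat.and_one_is_mod, Nat.shiftRight_eq_div_pow, Nat.testBit_eq_decide_div_mod_eq]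
  by_cases h : a / 2 ^ q % 2 = 1
  · simp [h]
  · have : a / 2 ^ q % 2 = 0 := by omega
    simp [this]

theorem testBit_eq_of_bitN {a b q q' : ℕ} (h : Nat.beq (bitN a q) (bitN b q') = true) :
    a.testBit q = b.testBit q' := by
  rw [Nat.beq_eq, bitN_eq, bitN_eq] at h
  by_cases h1 : a.testBit q = true <;> by_cases h2 : b.testBit q' = true <;> simp_all

/-- apply a function with values in `Bool` to a number after evaluating it -/
noncomputable def strictAppB (f : ℕ → Bool) (n : ℕ) : Bool :=
  Nat.rec (motive := fun _ => Bool) (f 0) (fun m _ => f (m + 1)) n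

theorem strictAppB_eq (f : ℕ → Bool) (n : ℕ) : strictAppB f n = f n := by
  cases n <;> rfl

/-- the check that a table maps the set of a mask to the set of another mask -/
noncomputable def chkRowB (n : ℕ) (tab : ℕ → ℕ) (b a : ℕ) : Bool :=
  allB (fun q => Nat.beq (bitN b q) (bitN a (tab q))) n

variable (M : PModel) (pm : ℕ → ℕ → ℕ) (masks : ℕ → ℕ) (m : ℕ) (pi : ℕ → ℕ → ℕ)

/-- the check of the action of a generator on the sets, the masks being evaluated once -/
noncomputable def chkSetsB (i : ℕ) : Bool :=
  allB (fun j => strictAppB (fun b => strictAppB (fun a => chkRowB M.n (pm i) b a) (masks j))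
    (masks (pi i j))) m

theorem chkSets_of_B (i : ℕ) (h : chkSetsB M pm masks m pi i = true) :
    chkSets M pm masks m pi i = true := by
  unfold chkSets
  simp only [List.all_eq_true, List.mem_range, beq_iff_eq]
  intro j hj q hq
  have h1 := allB_spec h j hj
  rw [strictAppB_eq, strictAppB_eq] at h1
  exact testBit_eq_of_bitN (allB_spec h1 q hq)

/-- the check that a table maps the set of a mask to the set of another mask -/
theorem testBit_of_chkRowB {n : ℕ} {tab : ℕ → ℕ} {b a : ℕ} (h : chkRowB n tab b a = true) :
    ∀ q < n, b.testBit q = a.testBit (tab q) :=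
  fun q hq => testBit_eq_of_bitN (allB_spec h q hq)

/-- the check that the sets are distinct, with an inverse table, the loop being cheap -/
noncomputable def chkInvB (inv : ℕ → ℕ) : Bool :=
  allB (fun j => Nat.beq (inv (masks j % 2 ^ M.n)) j) m

theorem chkDistinct_of_invB (inv : ℕ → ℕ) (h : chkInvB M masks m inv = true) :
    chkDistinct M masks m = true := by
  apply chkDistinct_of_inv M masks m inv
  simp only [List.all_eq_true, List.mem_range, beq_iff_eq]
  intro j hj
  have := allB_spec h j hj
  rwa [Nat.beq_eq] at this

end Cfsg.Agent.Lib.Helper6.PM
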