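import Cfsg.Agent.Lib.Helper6.Mult.PM4
import Cfsg.Agent.Lib.Helper6.Mult.PM6
import Cfsg.Agent.Lib.Helper6.Mult.PM7
import Cfsg.Agent.Lib.Helper6.MultD.O73X
import Cfsg.Agent.Lib.Helper6.MultD.O73Ap2L
import Cfsg.Agent.Lib.Helper6.MultD.O73Ap2S
import Cfsg.Agent.Lib.Helper6.MultD.O73Ap2H
import Cfsg.Agent.Lib.Helper6.MultD.O73Bp2L
import Cfsg.Agent.Lib.Helper6.MultD.O73Bp2S
import Cfsg.Agent.Lib.Helper6.MultD.O73Bp2H
import Cfsg.Agent.Lib.Helper6.MultD.O73Cp2L
import Cfsg.Agent.Lib.Helper6.MultD.O73Cp2S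
import Cfsg.Agent.Lib.Helper6.MultD.O73Cp2H
import Cfsg.Agent.Lib.Helper6.MultD.O73Cp3L
import Cfsg.Agent.Lib.Helper6.MultD.O73Cp3S
import Cfsg.Agent.Lib.Helper6.MultD.O73Cp3H

set_option autoImplicit false
set_option maxRecDepth 100000

/-! # The presented group `O73`: the stabilizer `L4(3):2` of a set of 130 points, its subgroup
`L4(3)`, the stabilizer `U4(2):2` of a set of 40 points in this one, and its subgroup `U4(2)` -/

namespace Cfsg.Agent.Lib.Helper6.O73Mu

open Cfsg.Agent.Lib.Helper6.TC Cfsg.Agent.Lib.Helper6.TCD Cfsg.Agent.Lib.Helper6.PM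
open Cfsg.Agent.Lib.Helper6.MultD Cfsg.Agent.Lib.Helper6.O73M
open Cfsg.Agent.Lib.Helper1 Cfsg.Agent.Lib.Helper1.MatCode Cfsg.Agent.Lib.Helper1.StemSA

open scoped Pointwise commutatorElement

theorem card_o73Model : Nat.card o73Model.G = 4585351680 := O73M.card_G

/-! ## General lemmas -/

/-- an element which is conjugate to its square is a commutator -/
theorem mem_commutator_of_conj {G : Type*} [Group G] (g t : G) (h : t * g = g * g * t) :
    g ∈ commutator G := by
  have e : g = ⁅g⁻¹, t⁆ := by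
    rw [commutatorElement_def, inv_inv, mul_assoc g⁻¹ t g, h]
    group
  rw [e, commutator_def]
  exact Subgroup.commutator_mem_commutator (Subgroup.mem_top _) (Subgroup.mem_top _)

/-- a letter which is conjugate to its square, by the tables -/
theorem letter_mem_commutator (M : PModel) (i : ℕ) (t : List ℕ) (hi : i < M.nl)
    (ht : ∀ c ∈ t, c < M.nl)
    (h : ∀ q < M.n, wapp M.px (t ++ [i]) q = wapp M.px ([i, i] ++ t) q) :
    M.elt [i] ∈ commutator M.G := by
  apply mem_commutator_of_conj (M.elt [i]) (M.elt t)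
  rw [← M.elt_append, ← M.elt_append, ← M.elt_append]
  apply M.elt_eq_of_wapp
  · intro c hc
    rw [List.mem_append, List.mem_singleton] at hc
    rcases hc with hc | hc
    · exact ht c hc
    · rw [hc]
      exact hi
  · intro c hc
    rw [List.mem_append, List.mem_append, List.mem_singleton] at hc
    rcases hc with (hc | hc) | hc
    · rw [hc]
      exact hi
    · rw [hc]
      exact hi
    · exact ht c hc
  · exact h

/-- the element of a word whose letters are in a subgroup is in the subgroup -/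
theorem elt_mem_of_letters (M : PModel) (H : Subgroup M.G) (w : List ℕ)
    (h : ∀ c ∈ w, M.elt [c] ∈ H) : M.elt w ∈ H := by
  induction w with
  | nil =>
    rw [M.elt_nil]
    exact one_mem _
  | cons c w ih =>
    rw [M.elt_cons]
    exact mul_mem (h c List.mem_cons_self) (ih fun c' hc' => h c' (List.mem_cons_of_mem _ hc'))

/-! ## The stabilizer of the first of the 378 sets, and the subgroup `L4(3)` -/

/-- the stabilizer of the first set, a group `L4(3):2` -/
noncomputable abbrev KA : Subgroup o73Model.G :=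
  MulAction.stabilizer o73Model.G (ptS o73Model masksO73Ap2 0)

theorem card_KA : Nat.card KA = 12130560 := by
  have h := card_stab_sets o73Model DO73Ap2 chk_structO73Ap2 wsO73Ap2 pmO73Ap2 lwO73Ap2 coreO73Ap2
    (by decide) masksO73Ap2 chk_setsO73Ap2 chk_distinctO73Ap2
  rw [card_o73Model] at h
  have e : DO73Ap2.m = 378 := rfl
  rw [e] at h
  change Nat.card KA * 378 = 4585351680 at h
  omega

/-- the subgroup `L4(3)` -/
noncomputable abbrev L1 : Subgroup o73Model.G := PM.subH o73Model wsO73LM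

theorem wsL_lt (i : ℕ) (hi : i < wsO73LM.length) : ∀ c ∈ wsO73LM.getD i [], c < o73Model.nl := by
  apply tabO73LM.1
  rw [List.getD_eq_getElem _ _ hi]
  exact List.getElem_mem _

theorem L1_le_KA : L1 ≤ KA := by
  unfold L1 PM.subH
  rw [Subgroup.closure_le]
  rintro _ ⟨i, hi, rfl⟩
  rw [SetLike.mem_coe, MulAction.mem_stabilizer_iff]
  have h := chk_fixA
  simp only [List.all_eq_true, List.mem_range, beq_iff_eq] at h
  have hi' : i < 7 := hi
  exact elt_smul_maskSet o73Model _ (wsL_lt i hi) (pmO73LM i) (tabO73LM.2 i hi) _ _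
    (fun q hq => h i hi' q hq)

/-- the first letter of the presentation, in the stabilizer and not in the subgroup -/
noncomputable def gb : o73Model.G := o73Model.elt [0]

theorem gb_tab : ∀ q < o73Model.n, wapp o73Model.px [0] q = O73a.px 0 q := fun _ _ => rfl

theorem gb_lt : ∀ c ∈ [0], c < o73Model.nl := by
  intro c hc
  rw [List.mem_singleton] at hc
  rw [hc]
  show 0 < 8
  norm_num

theorem gb_mem_KA : gb ∈ KA := by
  rw [MulAction.mem_stabilizer_iff]
  have h := chk_fixAb
  simp only [List.all_eq_true, List.mem_range, beq_iff_eq] at h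
  exact elt_smul_maskSet o73Model [0] gb_lt (O73a.px 0) gb_tab _ _ (fun q hq => h q hq)

theorem L1_le_fam : L1 ≤ MulAction.stabilizer o73Model.G (family o73Model famO73 40) := by
  apply subH_le_stabilizer_family o73Model wsO73LM pmO73LM famO73 40 piFO73 tabO73LM
  · intro i hi
    have hi' : i < 7 := hi
    interval_cases i
    · exact chk_famO73_0
    · exact chk_famO73_1
    · exact chk_famO73_2
    · exact chk_famO73_3
    · exact chk_famO73_4
    · exact chk_famO73_5
    · exact chk_famO73_6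
  · intro i hi j hj
    have h := chk_piF
    simp only [List.all_eq_true, List.mem_range, decide_eq_true_eq] at h
    exact h i hi j hj

theorem gb_not_mem_fam : gb ∉ MulAction.stabilizer o73Model.G (family o73Model famO73 40) := by
  have h := chk_cm
  simp only [List.all_eq_true, List.mem_range, beq_iff_eq] at h
  have h2 := chk_cmne
  simp only [List.all_eq_true, List.mem_range, bne_iff_ne, ne_eq] at h2
  apply not_mem_stabilizer_family o73Model famO73 40 gb cmO73 (by norm_num)
  · exact elt_smul_maskSet o73Model [0] gb_lt (O73a.px 0) gb_tab _ _ (fun q hq => h q hq)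
  · intro j hj
    exact h2 j hj

theorem L1_ne_KA : L1 ≠ KA := by
  intro h
  apply gb_not_mem_fam
  apply L1_le_fam
  rw [h]
  exact gb_mem_KA

/-! ## The stabilizer of the first of the 117 sets in the subgroup `L4(3)`, and the subgroup
`U4(2)` -/

/-- the stabilizer of the first set, a group `U4(2):2` -/
noncomputable abbrev KB : Subgroup o73L.G := MulAction.stabilizer o73L.G (ptS o73L masksO73Bp2 0)

theorem card_KB_mul : Nat.card KB * 117 = Nat.card o73L.G :=
  card_stab_sets o73L DO73Bp2 chk_structO73Bp2 wsO73Bp2 pmO73Bp2 lwO73Bp2 coreO73Bp2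
    (by decide) masksO73Bp2 chk_setsO73Bp2 chk_distinctO73Bp2

/-- the subgroup `U4(2)` -/
noncomputable abbrev U1 : Subgroup o73L.G := PM.subH o73L wsO73UM

theorem wsU_getD (i : ℕ) (hi : i < 5) : wsO73UM.getD i [] = [i] := by
  interval_cases i <;> rfl

theorem letterL_lt (i : ℕ) (hi : i < 7) : ∀ c ∈ [i], c < o73L.nl := by
  intro c hc
  rw [List.mem_singleton] at hc
  rw [hc]
  exact hi

theorem U1_le_KB : U1 ≤ KB := by
  unfold U1 PM.subH
  rw [Subgroup.closure_le]
  rintro _ ⟨i, hi, rfl⟩
  have hi' : i < 5 := hi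
  rw [SetLike.mem_coe, MulAction.mem_stabilizer_iff, wsU_getD i hi']
  have h := chk_fixB
  simp only [List.all_eq_true, List.mem_range, beq_iff_eq] at h
  exact elt_smul_maskSet o73L [i] (letterL_lt i (by omega)) (pmO73LM i) (fun _ _ => rfl) _ _
    (fun q hq => h i (by omega) q hq)

/-- the sixth generator, in the stabilizer and not in the subgroup -/
noncomputable def g5 : o73L.G := o73L.elt [5]

theorem g5_mem_KB : g5 ∈ KB := by
  rw [MulAction.mem_stabilizer_iff]
  have h := chk_fixB
  simp only [List.all_eq_true, List.mem_range, beq_iff_eq] at h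
  exact elt_smul_maskSet o73L [5] (letterL_lt 5 (by norm_num)) (pmO73LM 5) (fun _ _ => rfl) _ _
    (fun q hq => h 5 (by norm_num) q hq)

/-- the first point -/
def p0 : Fin o73L.n := ⟨0, Nat.pos_of_neZero _⟩

theorem U1_le_stab0 : U1 ≤ MulAction.stabilizer o73L.G p0 := by
  unfold U1 PM.subH
  rw [Subgroup.closure_le]
  rintro _ ⟨i, hi, rfl⟩
  have hi' : i < 5 := hi
  rw [SetLike.mem_coe, MulAction.mem_stabilizer_iff, wsU_getD i hi']
  apply o73L.elt_smul [i] (letterL_lt i (by omega))
  show pmO73LM i 0 = 0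
  exact chk_pt0.1 i hi'

theorem g5_not_mem_U1 : g5 ∉ U1 := by
  intro h
  have h1 := U1_le_stab0 h
  rw [MulAction.mem_stabilizer_iff] at h1
  have h2 : g5⁻¹ • p0 = p0 := by
    rw [inv_smul_eq_iff, h1]
  have h3 := o73L.inv_elt_smul_val [5] (letterL_lt 5 (by norm_num)) p0
  rw [show o73L.elt [5] = g5 from rfl, h2] at h3
  exact chk_pt0.2 h3.symm

theorem U1_ne_KB : U1 ≠ KB := by
  intro h
  apply g5_not_mem_U1
  rw [h]
  exact g5_mem_KB

/-! ## The stabilizers of the first of the 320 sets and of the first of the 405 sets in the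
subgroup `U4(2)` -/

/-- the stabilizer of the first of the 320 sets, of order 81 -/
noncomputable abbrev KT : Subgroup o73U.G := MulAction.stabilizer o73U.G (ptS o73U masksO73Cp2 0)

/-- the stabilizer of the first of the 405 sets, of order 64 -/
noncomputable abbrev KE : Subgroup o73U.G := MulAction.stabilizer o73U.G (ptS o73U masksO73Cp3 0)

theorem card_KT_mul : Nat.card KT * 320 = Nat.card o73U.G :=
  card_stab_sets o73U DO73Cp2 chk_structO73Cp2 wsO73Cp2 pmO73Cp2 lwO73Cp2 coreO73Cp2
    (by decide) masksO73Cp2 chk_setsO73Cp2 chk_distinctO73Cp2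

theorem card_KE_mul : Nat.card KE * 405 = Nat.card o73U.G :=
  card_stab_sets o73U DO73Cp3 chk_structO73Cp3 wsO73Cp3 pmO73Cp3 lwO73Cp3 coreO73Cp3
    (by decide) masksO73Cp3 chk_setsO73Cp3 chk_distinctO73Cp3

/-! ## The orders -/

theorem prod_eq_four (s a b : ℕ) (h : s * a * b = 4) (ha : a ≠ 1) (hb : b ≠ 1) :
    s = 1 ∧ a = 2 ∧ b = 2 := by
  have hs : s ∣ 4 := ⟨a * b, by rw [← h]; ring⟩
  have ha' : a ∣ 4 := ⟨s * b, by rw [← h]; ring⟩
  have hb' : b ∣ 4 := ⟨s * a, by rw [← h]; ring⟩
  have hs4 := Nat.le_of_dvd (by norm_num) hs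
  have ha4 := Nat.le_of_dvd (by norm_num) ha'
  have hb4 := Nat.le_of_dvd (by norm_num) hb'
  interval_cases s <;> interval_cases a <;> interval_cases b <;> simp_all

theorem cards : Nat.card ↥U1 = 25920 ∧ Nat.card ↥KB = 51840 ∧ Nat.card ↥L1 = 6065280 := by
  have hT := card_KT_mul
  have hE := card_KE_mul
  have hB := card_KB_mul
  have eU : Nat.card o73U.G = Nat.card ↥U1 := rfl
  have eL : Nat.card o73L.G = Nat.card ↥L1 := rfl
  rw [eU] at hT hE
  rw [eL] at hB
  obtain ⟨a, ha⟩ : Nat.card ↥U1 ∣ Nat.card ↥KB := Subgroup.card_dvd_of_le U1_le_KB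
  obtain ⟨b, hb⟩ : Nat.card ↥L1 ∣ Nat.card ↥KA := Subgroup.card_dvd_of_le L1_le_KA
  have h3 : a ≠ 1 := by
    intro h
    rw [h, mul_one] at ha
    exact U1_ne_KB (Subgroup.eq_of_le_of_card_ge U1_le_KB ha.le)
  have h4 : b ≠ 1 := by
    intro h
    rw [h, mul_one] at hb
    exact L1_ne_KA (Subgroup.eq_of_le_of_card_ge L1_le_KA hb.le)
  rw [card_KA] at hb
  have h5 : Nat.card KT % 81 = 0 := by omega
  obtain ⟨s, hs⟩ : ∃ s, Nat.card KT = 81 * s := ⟨Nat.card KT / 81, by omega⟩
  have hU : Nat.card ↥U1 = 25920 * s := by omega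
  have hP : 3032640 * (s * a * b) = 3032640 * 4 := by
    have : (12130560 : ℕ) = 117 * (25920 * s * a) * b := by
      rw [hb, ← hB, ha, hU]
      ring
    rw [show (3032640 : ℕ) * 4 = 12130560 from rfl, this]
    ring
  obtain ⟨rfl, rfl, rfl⟩ := prod_eq_four s a b (Nat.eq_of_mul_eq_mul_left (by norm_num) hP) h3 h4
  refine ⟨by omega, by omega, by omega⟩

theorem card_U1 : Nat.card ↥U1 = 25920 := cards.1

theorem card_KB : Nat.card ↥KB = 51840 := cards.2.1

theorem card_L1 : Nat.card ↥L1 = 6065280 := cards.2.2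

theorem card_o73U : Nat.card o73U.G = 25920 := card_U1

theorem card_o73L : Nat.card o73L.G = 6065280 := card_L1

theorem card_KT : Nat.card KT = 81 := by
  have h := card_KT_mul
  rw [card_o73U] at h
  omega

theorem card_KE : Nat.card KE = 64 := by
  have h := card_KE_mul
  rw [card_o73U] at h
  omega

/-! ## The subgroups are perfect -/

theorem inv_facts (i : ℕ) (hi : i ∈ ([0, 1, 2, 3, 4, 6] : List ℕ)) : ∀ q < 364,
    wapp pmO73LM (invwO73.getD i [] ++ [i]) q = wapp pmO73LM ([i, i] ++ invwO73.getD i []) q := by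
  have h := chk_inv
  simp only [List.all_eq_true, List.mem_range, beq_iff_eq, wappS_eq] at h
  exact h i hi

theorem U1_perfect : commutator ↥U1 = ⊤ := by
  show commutator o73U.G = ⊤
  rw [eq_top_iff, ← o73U.closure_letters, Subgroup.closure_le]
  rintro _ ⟨c, hc, rfl⟩
  have hc' : c < 5 := hc
  rw [SetLike.mem_coe]
  apply letter_mem_commutator o73U c (invwO73.getD c []) hc
  · interval_cases c <;> decide
  · have hm : c ∈ ([0, 1, 2, 3, 4, 6] : List ℕ) := by
      interval_cases c <;> decide
    exact inv_facts c hm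

theorem L1_perfect : commutator ↥L1 = ⊤ := by
  show commutator o73L.G = ⊤
  rw [eq_top_iff, ← o73L.closure_letters, Subgroup.closure_le]
  rintro _ ⟨c, hc, rfl⟩
  have hc' : c < 7 := hc
  rw [SetLike.mem_coe]
  have h6 : ∀ i ∈ ([0, 1, 2, 3, 4, 6] : List ℕ), o73L.elt [i] ∈ commutator o73L.G := by
    intro i hi
    apply letter_mem_commutator o73L i (invwO73.getD i [])
    · show i < 7
      revert hi
      decide +revert
    · revert hi
      decide +revert
    · exact inv_facts i hi
  by_cases h5 : c = 5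
  · subst h5
    have e : o73L.elt [5] = o73L.elt w5O73 := by
      apply o73L.elt_eq_of_wapp _ _ (letterL_lt 5 (by norm_num)) (by decide)
      have h := chk_w5
      simp only [List.all_eq_true, List.mem_range, beq_iff_eq, wappS_eq] at h
      intro q hq
      exact (h q hq).symm
    rw [e]
    apply elt_mem_of_letters
    intro c hc
    apply h6
    revert hc
    decide +revert
  · apply h6
    interval_cases c <;> first | decide | exact absurd rfl h5

/-! ## The quotients of order two -/

theorem exists_quotA : ∃ (Q : Type) (_ : Group Q) (_ : IsCyclic Q) (q : KA →* Q),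
    Function.Surjective q ∧ Nat.card Q = 2 ^ 1 ∧ ∀ k : KA, q k = 1 ↔ (k : o73Model.G) ∈ L1 :=
  exists_quot_two KA L1 L1_le_KA (by rw [card_KA, card_L1])

theorem exists_quotB : ∃ (Q : Type) (_ : Group Q) (_ : IsCyclic Q) (q : KB →* Q),
    Function.Surjective q ∧ Nat.card Q = 2 ^ 1 ∧ ∀ k : KB, q k = 1 ↔ (k : o73L.G) ∈ U1 :=
  exists_quot_two KB U1 U1_le_KB (by rw [card_KB, card_U1])

theorem KA_eq3 : KA = MulAction.stabilizer o73Model.G (ptS o73Model masksO73Ap3 0) := by
  unfold KA ptS
  rw [chk_masks0.1]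

theorem KB_eq3 : KB = MulAction.stabilizer o73L.G (ptS o73L masksO73Bp3 0) := by
  unfold KB ptS
  rw [chk_masks0.2]

end Cfsg.Agent.Lib.Helper6.O73Mu
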