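import Cfsg.Agent.Lib.Helper6.TCP.O732
import Cfsg.Agent.Lib.Helper6.Mult.O73A
import Cfsg.Agent.Lib.Helper6.Mult.Cover1
import Cfsg.Agent.Lib.Helper6.WP10

set_option autoImplicit false
set_option maxRecDepth 100000

/-! # A central extension of the orthogonal group `PΩ(7, 3)` by a group of order 2: the maps -/

namespace Cfsg.Agent.Lib.Helper6.O73E2

open Cfsg Cfsg.Agent.Lib.Helper6.TC Cfsg.Agent.Lib.Helper6.TCD Cfsg.Agent.Lib.Helper6.TCP
open Cfsg.Agent.Lib.Helper6.PM

/-- the extension -/
abbrev Γ : Type := O732.G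

/-- the generators -/
noncomputable def gen (c : ℕ) : Γ := PresentedGroup.mk O732.Rels (ceOf O732.gc c)

/-- the central element -/
noncomputable def z : Γ := gen 0 * gen 0

theorem mk_wordElt (w : List ℕ) :
    PresentedGroup.mk O732.Rels (wordElt O732.gc w) = (w.map gen).prod := by
  induction w with
  | nil => simp [wordElt_nil]
  | cons c w ih =>
    rw [wordElt_cons, map_mul, ih, List.map_cons, List.prod_cons]
    rfl

theorem base_prod : ∀ b ∈ O732.base, (b.map gen).prod = 1 := by
  intro b hb
  rw [← mk_wordElt]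
  exact O732.hbase b hb

theorem gen_inv (c : ℕ) (hc : c < 16) : gen (invc O732.INV c) = (gen c)⁻¹ := O732.hinvG c hc

theorem gen_add8 (c : ℕ) (hc : c < 8) : gen (c + 8) = (gen c)⁻¹ := by
  have h := gen_inv c (by omega)
  have e : invc O732.INV c = c + 8 := by interval_cases c <;> decide
  rw [e] at h
  exact h

theorem comm_of_rel {G : Type*} [Group G] {a a' x x' : G} (h1 : a' = a⁻¹) (h2 : x' = x⁻¹)
    (h : a * (x * (x * (a' * (x' * (x' * 1))))) = 1) : a * (x * x) = (x * x) * a := by
  subst h1 h2
  calc a * (x * x) = (a * (x * (x * (a⁻¹ * (x⁻¹ * (x⁻¹ * 1)))))) * ((x * x) * a) := by group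
    _ = (x * x) * a := by rw [h, one_mul]

theorem gen_comm_z (c : ℕ) (hc : c < 16) : gen c * z = z * gen c := by
  have hs : ∀ c' : ℕ, [c', 0, 0, c' + 8, 8, 8] ∈ O732.base → c' < 8 →
      gen c' * z = z * gen c' := by
    intro c' hb hc'
    have h := base_prod _ hb
    simp only [List.map_cons, List.map_nil, List.prod_cons, List.prod_nil] at h
    exact comm_of_rel (gen_add8 c' hc') (gen_add8 0 (by decide)) h
  have hinv : ∀ g : Γ, g * z = z * g → g⁻¹ * z = z * g⁻¹ := by
    intro g hg
    calc g⁻¹ * z = g⁻¹ * (z * g) * g⁻¹ := by group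
      _ = g⁻¹ * (g * z) * g⁻¹ := by rw [hg]
      _ = z * g⁻¹ := by group
  have h0 : gen 0 * z = z * gen 0 := by
    unfold z
    rw [mul_assoc]
  have hlow : ∀ c' < 8, gen c' * z = z * gen c' := by
    intro c' hc'
    interval_cases c'
    · exact h0
    · exact hs 1 (by decide +kernel) (by decide)
    · exact hs 2 (by decide +kernel) (by decide)
    · exact hs 3 (by decide +kernel) (by decide)
    · exact hs 4 (by decide +kernel) (by decide)
    · exact hs 5 (by decide +kernel) (by decide)
    · exact hs 6 (by decide +kernel) (by decide)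
    · exact hs 7 (by decide +kernel) (by decide)
  by_cases h8 : c < 8
  · exact hlow c h8
  · have e : c = (c - 8) + 8 := by omega
    rw [e, gen_add8 (c - 8) (by omega)]
    exact hinv _ (hlow (c - 8) (by omega))

theorem of_eq_gen (i : Fin 16) : (PresentedGroup.of i : Γ) = gen i.val := by
  unfold gen
  rw [ceOf_gcF, Fin.ofNat_val_eq_self]
  rfl

theorem z_central : z ∈ Subgroup.center Γ := by
  rw [Subgroup.mem_center_iff]
  intro g
  have h : g ∈ Subgroup.centralizer ({z} : Set Γ) := by
    have htop : Subgroup.closure (Set.range (PresentedGroup.of (rels := O732.Rels))) = ⊤ :=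
      PresentedGroup.closure_range_of _
    have hle : Subgroup.closure (Set.range (PresentedGroup.of (rels := O732.Rels))) ≤
        Subgroup.centralizer ({z} : Set Γ) := by
      rw [Subgroup.closure_le]
      rintro _ ⟨i, rfl⟩
      rw [SetLike.mem_coe, Subgroup.mem_centralizer_iff]
      intro y hy
      rw [Set.mem_singleton_iff] at hy
      subst hy
      rw [of_eq_gen]
      exact (gen_comm_z i.val i.isLt).symm
    rw [htop] at hle
    exact hle (Subgroup.mem_top g)
  rw [Subgroup.mem_centralizer_iff] at h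
  exact (h z rfl).symm

instance : (Subgroup.zpowers z).Normal := Cover.normal_zpowers_of_central z_central

/-! ## The map to the orthogonal group -/

/-- the words of the columns -/
def cw (c : ℕ) : List ℕ := if c < 8 then [c] else if c < 16 then [c - 8] else []

theorem chkσ : (O732.base.all fun b => (b.flatMap cw).all (fun c => Nat.blt c 8) &&
    allB (fun q => Nat.beq (wappS O73a.px (b.flatMap cw) q) q) 364) = true := by
  decide +kernel

theorem hrelσ : ∀ b ∈ O732.base,
    PresentedGroup.mk O73.Rels (wordElt O73.gc (b.flatMap cw)) = 1 := by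
  intro b hb
  have h := List.all_eq_true.mp chkσ b hb
  rw [Bool.and_eq_true] at h
  have h1 : ∀ c ∈ b.flatMap cw, c < 8 := by
    intro c hc
    have := List.all_eq_true.mp h.1 c hc
    rwa [Nat.blt_eq] at this
  have h2 := O73M.o73Model.elt_eq_of_wapp (b.flatMap cw) [] h1 (by simp) (by
    intro q hq
    have := allB_spec h.2 q hq
    rw [Nat.beq_eq, wappS_eq] at this
    exact this)
  rw [O73M.o73Model.elt_nil] at h2
  exact h2

/-- the map onto the orthogonal group -/
noncomputable def σ : Γ →* O73.G := wpHomW cw O732.hbl hrelσ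

theorem σ_gen (c : ℕ) (hc : c < 16) :
    σ (gen c) = PresentedGroup.mk O73.Rels (wordElt O73.gc (cw c)) := by
  have h := wpHomW_of (rels := O73.Rels) (gc := O73.gc) cw O732.hbl hrelσ (Fin.ofNat 16 c)
  rw [Fin.val_ofNat, Nat.mod_eq_of_lt hc] at h
  exact h

theorem σ_z : σ z = 1 := by
  unfold z
  rw [map_mul, σ_gen 0 (by decide), ← map_mul, ← wordElt_append]
  exact O73.hbase [0, 0] (by decide +kernel)

theorem σ_surjective : Function.Surjective σ := by
  rw [← MonoidHom.range_eq_top, eq_top_iff, ← O73M.closure_letters, Subgroup.closure_le]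
  rintro _ ⟨c, hc, rfl⟩
  refine ⟨gen c, ?_⟩
  rw [σ_gen c (by omega)]
  unfold cw
  rw [if_pos hc]
  rfl

end Cfsg.Agent.Lib.Helper6.O73E2
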