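import Cfsg.Agent.Lib.Helper6.Mult.O73E2a

set_option autoImplicit false
set_option maxRecDepth 100000

/-! # A central extension of the orthogonal group `PΩ(7, 3)` by a group of order 2: the kernel -/

namespace Cfsg.Agent.Lib.Helper6.O73E2

open Cfsg Cfsg.Agent.Lib.Helper6.TC Cfsg.Agent.Lib.Helper6.TCD Cfsg.Agent.Lib.Helper6.TCP

/-- the quotient by the central element -/
abbrev Q : Type := Γ ⧸ Subgroup.zpowers z

/-- the images of the generators -/
noncomputable def q (c : ℕ) : Q := QuotientGroup.mk' (Subgroup.zpowers z) (gen c)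

theorem q00 : q 0 * q 0 = 1 := by
  unfold q
  rw [← map_mul]
  exact (QuotientGroup.eq_one_iff _).mpr (Subgroup.mem_zpowers z)

theorem qprod_base (b : List ℕ) (hb : b ∈ O732.base) : (b.map q).prod = 1 := by
  have h1 := congrArg (QuotientGroup.mk' (Subgroup.zpowers z)) (base_prod _ hb)
  rw [map_list_prod, map_one, List.map_map] at h1
  exact h1

theorem base_lift : ∀ b ∈ O73.base, b ∈ O732.base ∨ b ++ [0, 0] ∈ O732.base := by
  decide +kernel

theorem hrelτ : ∀ b ∈ O73.base, (b.map q).prod = 1 := by
  intro b hb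
  rcases base_lift b hb with h | h
  · exact qprod_base b h
  · have h1 := qprod_base _ h
    rw [List.map_append, List.prod_append] at h1
    simp only [List.map_cons, List.map_nil, List.prod_cons, List.prod_nil, mul_one] at h1
    rw [q00, mul_one] at h1
    exact h1

/-- the map from the orthogonal group to the quotient -/
noncomputable def τ : O73.G →* Q := wgHom q O73.hbl hrelτ

theorem q_sq (c : ℕ) (hc : c < 8) : q c * q c = 1 := by
  have hb : [c, c] ∈ O73.base := by interval_cases c <;> decide +kernel
  have h := hrelτ _ hb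
  simpa using h

theorem q_add8 (c : ℕ) (hc : c < 8) : q (c + 8) = q c := by
  have h : q (c + 8) = (q c)⁻¹ := by
    unfold q
    rw [gen_add8 c hc, map_inv]
  rw [h]
  exact (eq_inv_of_mul_eq_one_left (q_sq c hc)).symm

theorem τ_letter (c : ℕ) (hc : c < 8) :
    τ (PresentedGroup.mk O73.Rels (wordElt O73.gc [c])) = q c := by
  rw [wordElt_cons, wordElt_nil, mul_one, ceOf_gcF]
  have := wgHom_of q O73.hbl hrelτ (Fin.ofNat 8 c)
  rw [Fin.val_ofNat, Nat.mod_eq_of_lt hc] at this
  exact this

theorem τσ_gen (c : ℕ) (hc : c < 16) : τ (σ (gen c)) = q c := by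
  rw [σ_gen c hc]
  unfold cw
  by_cases h8 : c < 8
  · rw [if_pos h8]
    exact τ_letter c h8
  · rw [if_neg h8, if_pos hc, τ_letter (c - 8) (by omega)]
    have e : c = (c - 8) + 8 := by omega
    rw [e, q_add8 (c - 8) (by omega)]
    congr 1

theorem hτσ : ∀ x : Γ, τ (σ x) = (QuotientGroup.mk x : Q) := by
  have h : τ.comp σ = QuotientGroup.mk' (Subgroup.zpowers z) := by
    apply PresentedGroup.ext
    intro i
    rw [of_eq_gen]
    exact τσ_gen i.val i.isLt
  intro x
  exact DFunLike.congr_fun h x

theorem ker_σ : σ.ker = Subgroup.zpowers z := Cover.ker_eq_zpowers σ z σ_z τ hτσ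

/-! ## The central element is a product of commutators -/

/-- the images of the generators in the abelianization, written additively -/
noncomputable def a (c : ℕ) : Additive (Abelianization Γ) :=
  Additive.ofMul (Abelianization.of (gen c))

theorem ab_sum (b : List ℕ) :
    Additive.ofMul (Abelianization.of ((b.map gen).prod)) = (b.map a).sum := by
  induction b with
  | nil => simp
  | cons c b ih =>
    rw [List.map_cons, List.prod_cons, map_mul, ofMul_mul, ih, List.map_cons, List.sum_cons]
    rfl

theorem base_sum (b : List ℕ) (hb : b ∈ O732.base) : (b.map a).sum = 0 := by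
  rw [← ab_sum, base_prod b hb, map_one, ofMul_one]

theorem key_add {A : Type*} [AddCommGroup A] (a0 a2 : A)
    (h1 : a2 + (a2 + (a0 + a0)) = 0)
    (h2 : a0 + (a2 + (a0 + (a2 + (a0 + a0)))) = 0) : a0 + a0 = 0 := by
  have : a0 + a0 = (a0 + (a2 + (a0 + (a2 + (a0 + a0))))) - (a2 + (a2 + (a0 + a0))) := by abel
  rw [this, h1, h2, sub_zero]

theorem z_mem_commutator : z ∈ commutator Γ := by
  apply Cover.mem_commutator_of_abelianization
  have s := fun b hb => base_sum b hb
  have c1 := s [2, 2, 0, 0] (by decide +kernel)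
  have c2 := s [0, 2, 0, 2, 0, 0] (by decide +kernel)
  simp only [List.map_cons, List.map_nil, List.sum_cons, List.sum_nil, add_zero] at c1 c2
  have h := key_add (a 0) (a 2) c1 c2
  unfold a at h
  rw [← ofMul_mul, ← map_mul, ofMul_eq_zero] at h
  exact h

end Cfsg.Agent.Lib.Helper6.O73E2
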