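import Cfsg.Agent.Lib.Helper6.Spor.O732Rep
import Cfsg.Agent.Lib.Helper6.Mult.O73E2b
import Cfsg.Agent.Lib.Helper6.Mult.Cover2

set_option autoImplicit false
set_option maxRecDepth 100000

/-! # A stem extension of the orthogonal group `PΩ(7, 3)` with a kernel of order 2 -/

namespace Cfsg.Agent.Lib.Helper6.O73E2

open Cfsg Cfsg.Agent.Lib.Helper6.TC Cfsg.Agent.Lib.Helper6.TCD Cfsg.Agent.Lib.Helper6.TCP
open Cfsg.Agent.Lib.Helper6.PM

theorem exists_rep : ∃ φ : Γ →* Equiv.Perm (Fin O732a.N), ∀ w, (∀ c ∈ w, c < 16) →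
    ∀ p : Fin O732a.N,
      ((φ (PresentedGroup.mk O732.Rels (wordElt O732.gc w)))⁻¹ p).val = wapp O732a.px w p.val :=
  perm_rep0 O732Rep.hP O732.hC (O732.rel_cover O732Rep.hP O732Rep.hfix)

theorem z_ne_one : z ≠ 1 := by
  intro h
  obtain ⟨φ, hφ⟩ := exists_rep
  have h1 := hφ [0, 0] (by decide) ⟨0, by decide⟩
  have e : PresentedGroup.mk O732.Rels (wordElt O732.gc [0, 0]) = z := by
    rw [mk_wordElt]
    simp [z]
  rw [e, h, map_one, inv_one, Equiv.Perm.one_apply] at h1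
  have h2 : wapp O732a.px [0, 0] 0 ≠ 0 := by decide +kernel
  exact h2 h1.symm

theorem z_pow_two : z ^ 2 = 1 := by
  have h := base_prod [0, 0, 0, 0] (by decide +kernel)
  simp only [List.map_cons, List.map_nil, List.prod_cons, List.prod_nil, mul_one] at h
  rw [pow_two]
  unfold z
  rw [mul_assoc]
  exact h

theorem orderOf_z : orderOf z = 2 := by
  haveI : Fact (Nat.Prime 2) := ⟨Nat.prime_two⟩
  exact orderOf_eq_prime z_pow_two z_ne_one

/-- a stem extension of the orthogonal group whose kernel has order 2 -/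
theorem exists_cover : ∃ (Γ₀ : Type) (_ : Group Γ₀) (_ : Finite Γ₀) (σ₀ : Γ₀ →* O73.G),
    Cfsg.IsStemExtension σ₀ ∧ IsCyclic σ₀.ker ∧ Nat.card σ₀.ker = 2 := by
  haveI : Finite O73.G := O73M.finite_G
  have hfin : Finite Γ :=
    Cover.finite_of_ker σ σ_surjective z ker_σ (by norm_num) orderOf_z
  exact ⟨Γ, inferInstance, hfin, σ,
    Cover.stem_of_central σ σ_surjective z z_central ker_σ z_mem_commutator orderOf_z⟩

end Cfsg.Agent.Lib.Helper6.O73E2
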