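import Cfsg.Agent.Lib.Helper6.Mult.O73E3a

set_option autoImplicit false
set_option maxRecDepth 100000

/-! # A central extension of the orthogonal group `PΩ(7, 3)` by a cyclic group of order 3:
the kernel -/

namespace Cfsg.Agent.Lib.Helper6.O73E3

open Cfsg Cfsg.Agent.Lib.Helper6.TC Cfsg.Agent.Lib.Helper6.TCD Cfsg.Agent.Lib.Helper6.TCP

/-- the quotient by the central element -/
abbrev Q : Type := Γ ⧸ Subgroup.zpowers z

/-- the images of the generators -/
noncomputable def q (c : ℕ) : Q := QuotientGroup.mk' (Subgroup.zpowers z) (gen c)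

theorem q8 : q 8 = 1 := (QuotientGroup.eq_one_iff _).mpr (Subgroup.mem_zpowers z)

theorem q9 : q 9 = 1 := by
  unfold q
  rw [gen9, map_inv]
  have : QuotientGroup.mk' (Subgroup.zpowers z) z = 1 :=
    (QuotientGroup.eq_one_iff _).mpr (Subgroup.mem_zpowers z)
  rw [this, inv_one]

theorem qprod_eq_one (w : List ℕ) (μ : ℕ) (h : w ++ List.replicate μ 9 ∈ O733.base) :
    (w.map q).prod = 1 := by
  have h1 := congrArg (QuotientGroup.mk' (Subgroup.zpowers z)) (base_prod _ h)
  rw [map_list_prod, map_one, List.map_map, List.map_append, List.prod_append,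
    List.map_replicate, List.prod_replicate] at h1
  have h2 : ((QuotientGroup.mk' (Subgroup.zpowers z)) ∘ gen) 9 = 1 := q9
  rw [h2, one_pow, mul_one] at h1
  exact h1

theorem base_lift : ∀ b ∈ O73.base, ∃ μ < 3, b ++ List.replicate μ 9 ∈ O733.base := by
  decide +kernel

theorem hrelτ : ∀ b ∈ O73.base, (b.map q).prod = 1 := by
  intro b hb
  obtain ⟨μ, _, h⟩ := base_lift b hb
  exact qprod_eq_one b μ h

/-- the map from the orthogonal group to the quotient -/
noncomputable def τ : O73.G →* Q := wgHom q O73.hbl hrelτ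

theorem τσ_gen (c : ℕ) (hc : c < 10) : τ (σ (gen c)) = q c := by
  rw [σ_gen c hc]
  unfold cw
  by_cases h8 : c < 8
  · rw [if_pos h8, wordElt_cons, wordElt_nil, mul_one, ceOf_gcF]
    have := wgHom_of q O73.hbl hrelτ (Fin.ofNat 8 c)
    rw [Fin.val_ofNat, Nat.mod_eq_of_lt h8] at this
    exact this
  · rw [if_neg h8, wordElt_nil, map_one, map_one]
    have : c = 8 ∨ c = 9 := by omega
    rcases this with rfl | rfl
    · exact q8.symm
    · exact q9.symm

theorem hτσ : ∀ x : Γ, τ (σ x) = (QuotientGroup.mk x : Q) := by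
  have h : τ.comp σ = QuotientGroup.mk' (Subgroup.zpowers z) := by
    apply PresentedGroup.ext
    intro i
    rw [of_eq_gen]
    exact τσ_gen i.val i.isLt
  intro x
  exact DFunLike.congr_fun h x

theorem ker_σ : σ.ker = Subgroup.zpowers z := Cover.ker_eq_zpowers σ z σ_z τ hτσ

/-! ## The central element is a product of commutators -/

/-- the images of the generators in the abelianization, written additively -/
noncomputable def a (c : ℕ) : Additive (Abelianization Γ) :=
  Additive.ofMul (Abelianization.of (gen c))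

theorem ab_sum (b : List ℕ) :
    Additive.ofMul (Abelianization.of ((b.map gen).prod)) = (b.map a).sum := by
  induction b with
  | nil => simp
  | cons c b ih =>
    rw [List.map_cons, List.prod_cons, map_mul, ofMul_mul, ih, List.map_cons, List.sum_cons]
    rfl

theorem base_sum (b : List ℕ) (hb : b ∈ O733.base) : (b.map a).sum = 0 := by
  rw [← ab_sum, base_prod b hb, map_one, ofMul_one]

theorem flat_sum (w : List ℕ) (n : ℕ) :
    (((List.replicate n w).flatten).map a).sum = n • (w.map a).sum := by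
  induction n with
  | zero => simp
  | succ k ih =>
    rw [List.replicate_succ, List.flatten_cons, List.map_append, List.sum_append, ih, succ_nsmul,
      add_comm]

theorem key_add {A : Type*} [AddCommGroup A] (a0 a1 a2 a3 a4 a6 a7 a8 a9 : A)
    (h0 : a0 + a0 = 0) (h1 : a1 + a1 = 0) (h2 : a2 + a2 = 0) (h3 : a3 + a3 = 0)
    (h4 : a4 + a4 = 0) (h6 : a6 + a6 = 0) (h7 : a7 + a7 = 0)
    (hsp : 10 • (a2 + (a1 + (a0 + (a2 + (a3 + (a4 + (a2 + (a6 + a7)))))))) + a9 = 0)
    (h89 : a8 + a9 = 0) : a8 = 0 := by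
  have hX : 10 • (a2 + (a1 + (a0 + (a2 + (a3 + (a4 + (a2 + (a6 + a7)))))))) =
      5 • (a0 + a0) + 5 • (a1 + a1) + 15 • (a2 + a2) + 5 • (a3 + a3) + 5 • (a4 + a4) +
        5 • (a6 + a6) + 5 • (a7 + a7) := by abel
  rw [hX, h0, h1, h2, h3, h4, h6, h7] at hsp
  simp only [smul_zero, add_zero, zero_add] at hsp
  rw [hsp, add_zero] at h89
  exact h89

theorem a8_zero : a 8 = 0 := by
  have s := fun b hb => base_sum b hb
  have c0 := s [0, 0] (by decide +kernel)
  have c1 := s [1, 1] (by decide +kernel)
  have c2 := s [2, 2] (by decide +kernel)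
  have c3 := s [3, 3] (by decide +kernel)
  have c4 := s [4, 4] (by decide +kernel)
  have c6 := s [6, 6] (by decide +kernel)
  have c7 := s [7, 7] (by decide +kernel)
  have c89 := s [8, 9] (by decide +kernel)
  have hspm : (List.replicate 10 [2, 1, 0, 2, 3, 4, 2, 6, 7]).flatten ++ [9] ∈ O733.base := by
    decide +kernel
  have csp := s _ hspm
  rw [List.map_append, List.sum_append, flat_sum] at csp
  simp only [List.map_cons, List.map_nil, List.sum_cons, List.sum_nil, add_zero]
    at c0 c1 c2 c3 c4 c6 c7 c89 csp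
  exact key_add (a 0) (a 1) (a 2) (a 3) (a 4) (a 6) (a 7) (a 8) (a 9) c0 c1 c2 c3 c4 c6 c7 csp c89

theorem z_mem_commutator : z ∈ commutator Γ := by
  apply Cover.mem_commutator_of_abelianization
  have h := a8_zero
  unfold a at h
  rw [ofMul_eq_zero] at h
  exact h

end Cfsg.Agent.Lib.Helper6.O73E3
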