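import Cfsg.Agent.Lib.Helper2.IsoRingEquiv2
import Cfsg.Agent.Lib.Helper2.EquivComm
import Cfsg.Prelude.Def_Classical

set_option autoImplicit false

/-! # The orthogonal groups `PΩ(2m+1, F)` of isomorphic fields are isomorphic -/

namespace Cfsg.Agent.Lib.Helper6.O73T

open Cfsg.Agent.Lib.Helper2

theorem quadFormOdd_map {F K : Type*} [Field F] [Field K] (e : F ≃+* K) (m : ℕ)
    (v : Unit ⊕ (Fin m ⊕ Fin m) → F) :
    Cfsg.quadFormOdd m K (fun i => e (v i)) = e (Cfsg.quadFormOdd m F v) := by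
  unfold Cfsg.quadFormOdd
  simp only [map_add, map_pow, map_sum, map_mul]

/-- the isomorphism of the orthogonal groups given by an isomorphism of the fields -/
noncomputable def pomegaOddEquiv {F K : Type*} [Field F] [Field K] (e : F ≃+* K) (m : ℕ) :
    Cfsg.POmega F (Cfsg.quadFormOdd m F) ≃* Cfsg.POmega K (Cfsg.quadFormOdd m K) :=
  EquivComm.centerQuotEquiv (EquivComm.commutatorEquiv
    (IsoRingEquiv.isoEquiv e (Cfsg.quadFormOdd m F) (Cfsg.quadFormOdd m K) (quadFormOdd_map e m)))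

end Cfsg.Agent.Lib.Helper6.O73T
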