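import Cfsg.Agent.Lib.Helper6.Mult.O73C
import Cfsg.Agent.Lib.Helper6.Mult.O73E2c
import Cfsg.Agent.Lib.Helper6.Mult.O73E3c
import Cfsg.Agent.Lib.Helper6.Mult.O73T
import Cfsg.Agent.Lib.Helper6.Spor.O73Mat
import Cfsg.Agent.Lib.Helper1.Stem14
import Cfsg.Agent.Lib.Helper1.Stem16

set_option autoImplicit false
set_option maxRecDepth 100000

/-! # The Schur multiplier of the orthogonal group `PΩ(7, 3)` is cyclic of order 6 -/

namespace Cfsg.Agent.Lib.Helper6.O73Mu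

open Cfsg.Agent.Lib.Helper6.TC Cfsg.Agent.Lib.Helper6.TCD Cfsg.Agent.Lib.Helper6.PM
open Cfsg.Agent.Lib.Helper1

universe u

/-- a stem extension of the presented group with a cyclic kernel of order 6: the fibre product of
the ones with kernels of orders 2 and 3 -/
theorem exists_cover6 : ∃ (Γ₀ : Type) (_ : Group Γ₀) (_ : Finite Γ₀) (σ₀ : Γ₀ →* TCP.O73.G),
    Cfsg.IsStemExtension σ₀ ∧ IsCyclic σ₀.ker ∧ Nat.card σ₀.ker = 6 := by
  obtain ⟨Γ₂, i1, i2, σ₂, hσ₂, hc₂, hcard₂⟩ := O73E2.exists_cover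
  obtain ⟨Γ₃, j1, j2, σ₃, hσ₃, hc₃, hcard₃⟩ := O73E3.exists_cover
  have hcop : Nat.Coprime (Nat.card σ₂.ker) (Nat.card σ₃.ker) := by
    rw [hcard₂, hcard₃]
    norm_num
  obtain ⟨hcyc, hcard⟩ := Stem.fibreHom_ker_cyclic σ₂ σ₃ hc₂ hc₃ hcop
  refine ⟨Stem.fibreProd σ₂ σ₃, inferInstance, inferInstance, Stem.fibreHom σ₂ σ₃,
    Stem.fibreHom_isStem σ₂ σ₃ hσ₂ hσ₃ hcop, hcyc, ?_⟩
  rw [hcard, hcard₂, hcard₃]

/-- the Schur multiplier of the orthogonal group `PΩ(7, 3)` is cyclic of order 6 -/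
theorem multiplier {F : Type u} [Field F] [Fintype F] (hF : Fintype.card F = 3) :
    Cfsg.HasCyclicSchurMultiplier (Cfsg.POmega F (Cfsg.quadFormOdd 3 F)) 6 := by
  have e1 : TCP.O73.G ≃* Cfsg.POmega (ZMod 3) (Cfsg.quadFormOdd 3 (ZMod 3)) := O73Mat.isoP
  have e2 := O73T.pomegaOddEquiv (ZMod.ringEquivOfPrime F Nat.prime_three hF) 3
  exact Stem.hasCyclicSchurMultiplier_of_equiv (e1.trans e2) 6 exists_cover6
    (fun Γ _ _ σ hσ => hub Γ σ hσ)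

end Cfsg.Agent.Lib.Helper6.O73Mu
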