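import Cfsg.Agent.Lib.Helper6.Mult.Parity
import Cfsg.Agent.Lib.Helper6.Mult.O73C
import Cfsg.Agent.Lib.Helper6.Spor.O73Simple
import Cfsg.Agent.Lib.Helper6.MultD.O83X
import Cfsg.Agent.Lib.Helper6.MultD.O83Ap3L
import Cfsg.Agent.Lib.Helper6.MultD.O83Ap3S
import Cfsg.Agent.Lib.Helper6.MultD.O83Bp3I
import Cfsg.Agent.Lib.Helper6.MultD.O83Bp3L
import Cfsg.Agent.Lib.Helper6.MultD.O83Bp3S
import Cfsg.Agent.Lib.Helper5.StemRes

set_option autoImplicit false
set_option maxRecDepth 100000

/-! # The presented group `Y422` (a group `O8+(3):2`): its subgroup `O8+(3)` of the words of even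
length, the stabilizer `3^6:L4(3)` of a set of 351 points in it, and the subgroup `L4(3)` of this
one, image of the subgroup `L4(3)` of the presented group `O73`; the kernels of the stem
extensions of the subgroup `O8+(3)` which are `3`-groups are trivial -/

namespace Cfsg.Agent.Lib.Helper6.O83Mu

open Cfsg.Agent.Lib.Helper6.TC Cfsg.Agent.Lib.Helper6.TCD Cfsg.Agent.Lib.Helper6.PM
open Cfsg.Agent.Lib.Helper6.MultD Cfsg.Agent.Lib.Helper6.Y422M Cfsg.Agent.Lib.Helper6.O73M
open Cfsg.Agent.Lib.Helper1 Cfsg.Agent.Lib.Helper1.MatCode Cfsg.Agent.Lib.Helper1.StemSA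

open scoped Pointwise commutatorElement

universe u

/-! ## The parity -/

/-- the parity of the words of the presented group `Y422` -/
noncomputable def par : y422Model.G →* Multiplicative (ZMod 2) :=
  parityHom (k := 9) (base := TCP.Y422.base) (by decide +kernel)

theorem par_elt (w : List ℕ) : par (y422Model.elt w) = Multiplicative.ofAdd ((w.length : ℕ) : ZMod 2) :=
  parityHom_wordElt _ w

theorem card_ker_par : Nat.card par.ker * 2 = 9904359628800 := by
  have h : Nat.card par.ker * 2 = Nat.card TCP.Y422.G :=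
    card_ker_parityHom (k := 9) (base := TCP.Y422.base) (by decide +kernel)
  rw [Y422M.card_G] at h
  exact h

/-- the subgroup `O8+(3)` -/
noncomputable abbrev W1 : Subgroup y422Model.G := PM.subH y422Model wsO83W

theorem W1_le_ker : W1 ≤ par.ker := by
  unfold W1 PM.subH
  rw [Subgroup.closure_le]
  rintro _ ⟨i, hi, rfl⟩
  rw [SetLike.mem_coe, MonoidHom.mem_ker, par_elt]
  have hi' : i < 8 := hi
  interval_cases i <;> rfl

theorem card_W1_le : Nat.card ↥W1 * 2 ≤ 9904359628800 := by
  have h := Subgroup.card_le_of_le W1_le_ker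
  have h2 := card_ker_par
  omega

/-! ## The homomorphism from the presented group `O73` -/

theorem cw83_lt : ∀ b ∈ TCP.O73.base, ∀ c ∈ b.flatMap cw83, c < 9 := by decide +kernel

/-- the action of a word of the presented group `O73`, from the tables -/
theorem wapp_cw83 (b : List ℕ) (hb : ∀ c ∈ b, c < 8) (q : ℕ) (hq : q < 1080) :
    wapp y422Model.px (b.flatMap cw83) q = wapp pmP83 b q :=
  (PM.wapp_expand y422Model wsP83 pmP83 tabP83 b hb q hq).1

theorem hrelψ : ∀ b ∈ TCP.O73.base,
    PresentedGroup.mk TCP.Y422.Rels (wordElt TCP.Y422.gc (b.flatMap cw83)) = 1 := by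
  intro b hb
  have h := chk_psi83
  simp only [List.all_eq_true, List.mem_range, beq_iff_eq, wappS_eq] at h
  have e : y422Model.elt (b.flatMap cw83) = y422Model.elt [] :=
    y422Model.elt_eq_of_wapp _ _ (cw83_lt b hb) (by simp) (fun q hq => by
      rw [wapp_cw83 b (TCP.O73.hbl b hb) q hq]
      exact h b hb q hq)
  rw [y422Model.elt_nil] at e
  exact e

/-- the homomorphism from the presented group `O73`, the letters being multiplied by the central
involution `(abcdefh)^9` of the subgroup generated by the eight first letters -/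
noncomputable def psi : o73Model.G →* y422Model.G :=
  wpHomW (rels := TCP.Y422.Rels) (gc := TCP.Y422.gc) cw83 TCP.O73.hbl hrelψ

theorem psi_elt (w : List ℕ) (hw : ∀ c ∈ w, c < 8) :
    psi (o73Model.elt w) = y422Model.elt (w.flatMap cw83) := by
  show FreeGroup.lift (fun i : Fin 8 => PresentedGroup.mk TCP.Y422.Rels
    (wordElt TCP.Y422.gc (cw83 i.val))) (wordElt (gcF 8) w) = _
  exact lift_wordElt_flatMap cw83 w hw

theorem cw83_0_lt : ∀ c ∈ cw83 0, c < 9 := by decide +kernel

theorem psi_injective : Function.Injective psi := by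
  haveI : IsSimpleGroup o73Model.G := O73Simple.simple.1
  rw [← MonoidHom.ker_eq_bot_iff]
  rcases (inferInstance : psi.ker.Normal).eq_bot_or_eq_top with h | h
  · exact h
  · exfalso
    have h1 : o73Model.elt [0] ∈ psi.ker := by
      rw [h]
      exact Subgroup.mem_top _
    rw [MonoidHom.mem_ker, psi_elt [0] (by decide)] at h1
    have h2 : ([0] : List ℕ).flatMap cw83 = cw83 0 := by
      rw [List.flatMap_cons, List.flatMap_nil, List.append_nil]
    rw [h2] at h1
    have h3 := y422Model.inv_elt_smul_val (cw83 0) cw83_0_lt ⟨1, by decide⟩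
    rw [h1, inv_one, one_smul] at h3
    have h4 := chk_psi_ne83
    have h5 : wapp y422Model.px (cw83 0) 1 = pmP83 0 1 := by
      have := wapp_cw83 [0] (by decide) 1 (by decide)
      rw [h2] at this
      exact this
    exact h4 (h5 ▸ h3.symm)

/-! ## The subgroup `L4(3)` -/

/-- the subgroup `3^6:L4(3)` of the subgroup `O8+(3)` -/
noncomputable abbrev KA1 : Subgroup o83W.G := PM.subH o83W wsO83K

/-- the subgroup `L4(3)` of the subgroup `3^6:L4(3)` -/
noncomputable abbrev L2 : Subgroup o83K.G := PM.subH o83K wsO83L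

/-- the inclusion of the subgroup `L4(3)` -/
noncomputable def incL : o83L.G →* y422Model.G :=
  (PM.subH y422Model wsO83W).subtype.comp ((PM.subH o83W wsO83K).subtype.comp
    (PM.subH o83K wsO83L).subtype)

theorem incL_injective : Function.Injective incL := by
  intro x y h
  exact Subtype.ext (Subtype.ext (Subtype.ext h))

theorem incL_elt (w : List ℕ) :
    incL (o83L.elt w) = y422Model.elt (expand wsO83W (expand wsO83K (expand wsO83L w))) := rfl

theorem wsO73LM_lt (i : ℕ) (hi : i < 7) : ∀ c ∈ wsO73LM.getD i [], c < 8 := by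
  interval_cases i <;> decide

theorem lt_psiL : ((List.range 7).all fun i =>
    ((wsO73LM.getD i []).flatMap cw83).all (fun c => decide (c < 9)) &&
    (expand wsO83W (expand wsO83K [i])).all (fun c => decide (c < 9))) = true := by
  decide +kernel

theorem incL_letter (i : ℕ) (hi : i < 7) :
    incL (o83L.elt [i]) = psi (o73Model.elt (wsO73LM.getD i [])) := by
  rw [incL_elt, psi_elt _ (wsO73LM_lt i hi)]
  have e : expand wsO83L [i] = [i] := by
    interval_cases i <;> rfl
  rw [e]
  have h := chk_psiL83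
  simp only [List.all_eq_true, List.mem_range, beq_iff_eq, wappS_eq] at h
  have h2 := lt_psiL
  simp only [List.all_eq_true, List.mem_range, Bool.and_eq_true, decide_eq_true_eq] at h2
  have hK : ∀ j ∈ expand wsO83K [i], j < wsO83W.length := by
    interval_cases i <;> decide
  exact (y422Model.elt_eq_of_wapp _ _ (h2 i hi).1 (h2 i hi).2 (fun q hq => by
    rw [wapp_cw83 _ (wsO73LM_lt i hi) q hq,
      (PM.wapp_expand y422Model wsO83W pmO83W tabO83W (expand wsO83K [i]) hK q hq).1]
    exact h i hi q hq)).symm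

theorem range_incL : incL.range = O73Mu.L1.map psi := by
  rw [MonoidHom.range_eq_map, ← o83L.closure_letters, MonoidHom.map_closure]
  unfold O73Mu.L1 PM.subH
  rw [MonoidHom.map_closure]
  congr 1
  ext g
  constructor
  · rintro ⟨_, ⟨c, hc, rfl⟩, rfl⟩
    have hc' : c < 7 := hc
    exact ⟨_, ⟨c, hc', rfl⟩, (incL_letter c hc').symm⟩
  · rintro ⟨_, ⟨i, hi, rfl⟩, rfl⟩
    have hi' : i < 7 := hi
    exact ⟨_, ⟨i, hi', rfl⟩, incL_letter i hi'⟩

/-- the subgroup `L4(3)` is isomorphic to the subgroup `L4(3)` of the presented group `O73` -/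
noncomputable def equivL : o83L.G ≃* ↥O73Mu.L1 :=
  ((MonoidHom.ofInjective incL_injective).trans (MulEquiv.subgroupCongr range_incL)).trans
    (O73Mu.L1.equivMapOfInjective psi psi_injective).symm

theorem card_o83L : Nat.card o83L.G = 6065280 := by
  rw [Nat.card_congr equivL.toEquiv]
  exact O73Mu.card_L1

theorem o83L_perfect : commutator o83L.G = ⊤ :=
  perfect_of_equiv equivL.symm O73Mu.L1_perfect

theorem o83L_bound3 (Γ' : Type u) [Group Γ'] [Finite Γ'] (σ' : Γ' →* o83L.G)
    (hσ' : Cfsg.IsStemExtension σ') (hk : IsPGroup 3 σ'.ker) : Nat.card σ'.ker ≤ 1 :=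
  bound_of_equiv equivL 3 1 O73Mu.L_bound3 Γ' σ' hσ' hk

/-! ## The orders -/

/-- the stabilizer of the first of the 1120 sets in the subgroup `O8+(3)` -/
noncomputable abbrev SA1 : Subgroup o83W.G := MulAction.stabilizer o83W.G (ptS o83W masksO83Ap3 0)

theorem card_SA1_mul : Nat.card SA1 * 1120 = Nat.card o83W.G :=
  card_stab_sets o83W DO83Ap3 chk_structO83Ap3 wsO83Ap3 pmO83Ap3 lwO83Ap3 coreO83Ap3
    (by decide) masksO83Ap3 chk_setsO83Ap3 chk_distinctO83Ap3

theorem wsK_lt (i : ℕ) (hi : i < wsO83K.length) : ∀ c ∈ wsO83K.getD i [], c < o83W.nl := by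
  apply tabO83K.1
  rw [List.getD_eq_getElem _ _ hi]
  exact List.getElem_mem _

theorem KA1_le_SA1 : KA1 ≤ SA1 := by
  unfold KA1 PM.subH
  rw [Subgroup.closure_le]
  rintro _ ⟨i, hi, rfl⟩
  rw [SetLike.mem_coe, MulAction.mem_stabilizer_iff]
  have h := chk_fixA83
  simp only [List.all_eq_true, List.mem_range, beq_iff_eq] at h
  have hi' : i < 8 := hi
  exact elt_smul_maskSet o83W _ (wsK_lt i hi) (pmO83K i) (tabO83K.2 i hi) _ _
    (fun q hq => h i hi' q hq)

/-- the stabilizer of the first of the 729 sets in the subgroup `3^6:L4(3)` -/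
noncomputable abbrev SB1 : Subgroup o83K.G := MulAction.stabilizer o83K.G (ptS o83K masksO83Bp3 0)

theorem card_SB1_mul : Nat.card SB1 * 729 = Nat.card o83K.G :=
  card_stab_sets o83K DO83Bp3 chk_structO83Bp3 wsO83Bp3 pmO83Bp3 lwO83Bp3 coreO83Bp3
    (by decide) masksO83Bp3 chk_setsO83Bp3 chk_distinctO83Bp3

theorem wsL_getD (i : ℕ) (hi : i < 7) : wsO83L.getD i [] = [i] := by
  interval_cases i <;> rfl

theorem letterK_lt (i : ℕ) (hi : i < 8) : ∀ c ∈ [i], c < o83K.nl := by
  intro c hc
  rw [List.mem_singleton] at hc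
  rw [hc]
  exact hi

theorem L2_le_SB1 : L2 ≤ SB1 := by
  unfold L2 PM.subH
  rw [Subgroup.closure_le]
  rintro _ ⟨i, hi, rfl⟩
  have hi' : i < 7 := hi
  rw [SetLike.mem_coe, MulAction.mem_stabilizer_iff, wsL_getD i hi']
  have h := chk_fixB83
  simp only [List.all_eq_true, List.mem_range, beq_iff_eq] at h
  exact elt_smul_maskSet o83K [i] (letterK_lt i (by omega)) (pmO83K i) (fun _ _ => rfl) _ _
    (fun q hq => h i hi' q hq)

theorem cards : Nat.card SB1 = 6065280 ∧ Nat.card ↥KA1 = 4421589120 ∧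
    Nat.card ↥W1 = 4952179814400 := by
  have hA := card_SA1_mul
  have hB := card_SB1_mul
  have hW := card_W1_le
  have eW : Nat.card o83W.G = Nat.card ↥W1 := rfl
  have eK : Nat.card o83K.G = Nat.card ↥KA1 := rfl
  have eL : Nat.card o83L.G = Nat.card ↥L2 := rfl
  have h1 := Subgroup.card_le_of_le KA1_le_SA1
  have h2 := Subgroup.card_le_of_le L2_le_SB1
  have h3 := card_o83L
  rw [eL] at h3
  rw [eK] at hB
  rw [eW] at hA
  have e1 : DO83Ap3.m = 1120 := rfl
  have e2 : DO83Bp3.m = 729 := rfl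
  refine ⟨by omega, by omega, by omega⟩

theorem SB1_eq : SB1 = L2 := by
  symm
  apply Subgroup.eq_of_le_of_card_ge L2_le_SB1
  rw [cards.1]
  have eL : Nat.card o83L.G = Nat.card ↥L2 := rfl
  rw [← eL, card_o83L]

/-! ## The stem extensions of the subgroup `3^6:L4(3)` -/

theorem esB83 : CO83Bp3.es.sum = 0 := by decide +kernel

theorem hordB83 : ∀ i < DO83Bp3.k, Nat.Coprime (DO83Bp3.ords.getD i 0) 3 :=
  O73Mu.hord_of_chk _ _ (by decide +kernel)

theorem L2_perfect : commutator ↥L2 = ⊤ := o83L_perfect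

theorem L2_bound3 (Γ' : Type u) [Group Γ'] [Finite Γ'] (σ' : Γ' →* ↥L2)
    (hσ' : Cfsg.IsStemExtension σ') (hk : IsPGroup 3 σ'.ker) : Nat.card σ'.ker ≤ 1 :=
  o83L_bound3 Γ' σ' hσ' hk

theorem K_bound3 (Γ' : Type u) [Group Γ'] [Finite Γ'] (σ' : Γ' →* ↥KA1)
    (hσ' : Cfsg.IsStemExtension σ') (hk : IsPGroup 3 σ'.ker) : Nat.card σ'.ker ≤ 1 := by
  haveI : Fact (Nat.Prime 3) := ⟨Nat.prime_three⟩
  have h : Nat.card σ'.ker ≤ 3 ^ CO83Bp3.es.sum * 1 := bound_sets_cyc.{u} o83K 3 DO83Bp3 CO83Bp3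
    rfl chk_certO83Bp3 chk_structO83Bp3 wsO83Bp3 pmO83Bp3 lwO83Bp3 coreO83Bp3 (by decide)
    hordB83 masksO83Bp3 chk_setsO83Bp3 chk_distinctO83Bp3 SB1 rfl (1 : SB1 →* Unit) L2
    L2_le_SB1 (fun k => ⟨fun _ => SB1_eq ▸ k.2, fun _ => rfl⟩) L2_perfect 1 L2_bound3 Γ' σ' hσ' hk
  rw [esB83] at h
  omega

/-! ## The stem extensions of the subgroup `O8+(3)` -/

theorem W_bound3 (Γ : Type u) [Group Γ] [Finite Γ] (σ : Γ →* ↥W1)
    (hσ : Cfsg.IsStemExtension σ) (hk : IsPGroup 3 σ.ker) : Nat.card σ.ker ≤ 1 := by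
  haveI : Fact (Nat.Prime 3) := ⟨Nat.prime_three⟩
  apply Cfsg.Agent.Lib.Helper5.StemRes.card_ker_le_of_index_coprime σ hσ 3 hk KA1 ?_ 1 K_bound3
  have h := Subgroup.card_mul_index KA1
  have eW : Nat.card o83W.G = Nat.card ↥W1 := rfl
  rw [cards.2.1, eW, cards.2.2] at h
  have h2 : KA1.index = 1120 := by omega
  have h3 : ¬ 3 ∣ KA1.index := by
    rw [h2]
    norm_num
  exact h3

/-! ## The subgroup `O8+(3)` is perfect -/

/-- the element of a word which is conjugate to its square, by the tables -/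
theorem word_mem_commutator (M : PModel) (g t : List ℕ) (hg : ∀ c ∈ g, c < M.nl)
    (ht : ∀ c ∈ t, c < M.nl)
    (h : ∀ q < M.n, wapp M.px (t ++ g) q = wapp M.px (g ++ g ++ t) q) :
    M.elt g ∈ commutator M.G := by
  apply O73Mu.mem_commutator_of_conj (M.elt g) (M.elt t)
  rw [← M.elt_append, ← M.elt_append, ← M.elt_append]
  apply M.elt_eq_of_wapp
  · intro c hc
    rw [List.mem_append] at hc
    rcases hc with hc | hc
    · exact ht c hc
    · exact hg c hc
  · intro c hc
    rw [List.mem_append, List.mem_append] at hc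
    rcases hc with (hc | hc) | hc
    · exact hg c hc
    · exact hg c hc
    · exact ht c hc
  · exact h

theorem inv83_facts (i : ℕ) (hi : i < 8) :
    o83W.elt (invg83.getD i []) ∈ commutator o83W.G := by
  have h := chk_inv83
  simp only [List.all_eq_true, List.mem_range, beq_iff_eq, wappS_eq] at h
  apply word_mem_commutator o83W _ (invt83.getD i [])
  · interval_cases i <;> decide
  · interval_cases i <;> decide
  · exact fun q hq => h i hi q hq

theorem W1_perfect : commutator ↥W1 = ⊤ := by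
  show commutator o83W.G = ⊤
  have c2 : o83W.elt [2] ∈ commutator o83W.G := inv83_facts 0 (by norm_num)
  have c3 : o83W.elt [3] ∈ commutator o83W.G := inv83_facts 1 (by norm_num)
  have c5 : o83W.elt [5] ∈ commutator o83W.G := inv83_facts 2 (by norm_num)
  have c1 : o83W.elt [1] ∈ commutator o83W.G := by
    have h : o83W.elt [1, 2] ∈ commutator o83W.G := inv83_facts 3 (by norm_num)
    have e : o83W.elt [1, 2] = o83W.elt [1] * o83W.elt [2] := o83W.elt_cons 1 [2]
    have e2 : o83W.elt [1] = o83W.elt [1, 2] * (o83W.elt [2])⁻¹ := by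
      rw [e]
      group
    rw [e2]
    exact mul_mem h (inv_mem c2)
  have c0 : o83W.elt [0] ∈ commutator o83W.G := by
    have h : o83W.elt [1, 0] ∈ commutator o83W.G := inv83_facts 4 (by norm_num)
    have e : o83W.elt [1, 0] = o83W.elt [1] * o83W.elt [0] := o83W.elt_cons 1 [0]
    have e2 : o83W.elt [0] = (o83W.elt [1])⁻¹ * o83W.elt [1, 0] := by
      rw [e]
      group
    rw [e2]
    exact mul_mem (inv_mem c1) h
  have c4 : o83W.elt [4] ∈ commutator o83W.G := by
    have h : o83W.elt [3, 3, 4] ∈ commutator o83W.G := inv83_facts 5 (by norm_num)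
    have e : o83W.elt [3, 3, 4] = o83W.elt [3] * (o83W.elt [3] * o83W.elt [4]) := by
      rw [o83W.elt_cons 3 [3, 4], o83W.elt_cons 3 [4]]
    have e2 : o83W.elt [4] = (o83W.elt [3])⁻¹ * ((o83W.elt [3])⁻¹ * o83W.elt [3, 3, 4]) := by
      rw [e]
      group
    rw [e2]
    exact mul_mem (inv_mem c3) (mul_mem (inv_mem c3) h)
  have c6 : o83W.elt [6] ∈ commutator o83W.G := by
    have h : o83W.elt [5, 5, 6] ∈ commutator o83W.G := inv83_facts 6 (by norm_num)
    have e : o83W.elt [5, 5, 6] = o83W.elt [5] * (o83W.elt [5] * o83W.elt [6]) := by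
      rw [o83W.elt_cons 5 [5, 6], o83W.elt_cons 5 [6]]
    have e2 : o83W.elt [6] = (o83W.elt [5])⁻¹ * ((o83W.elt [5])⁻¹ * o83W.elt [5, 5, 6]) := by
      rw [e]
      group
    rw [e2]
    exact mul_mem (inv_mem c5) (mul_mem (inv_mem c5) h)
  have c7 : o83W.elt [7] ∈ commutator o83W.G := by
    have h : o83W.elt [0, 7] ∈ commutator o83W.G := inv83_facts 7 (by norm_num)
    have e : o83W.elt [0, 7] = o83W.elt [0] * o83W.elt [7] := o83W.elt_cons 0 [7]
    have e2 : o83W.elt [7] = (o83W.elt [0])⁻¹ * o83W.elt [0, 7] := by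
      rw [e]
      group
    rw [e2]
    exact mul_mem (inv_mem c0) h
  rw [eq_top_iff, ← o83W.closure_letters, Subgroup.closure_le]
  rintro _ ⟨c, hc, rfl⟩
  have hc' : c < 8 := hc
  rw [SetLike.mem_coe]
  interval_cases c
  · exact c0
  · exact c1
  · exact c2
  · exact c3
  · exact c4
  · exact c5
  · exact c6
  · exact c7

end Cfsg.Agent.Lib.Helper6.O83Mu
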