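import Cfsg.Agent.Lib.Helper6.Spor.ONL37
import Cfsg.Agent.Lib.Helper6.Mult.L37C
import Cfsg.Agent.Lib.Helper1.Stem14
import Cfsg.Agent.Lib.Helper1.Stem20

set_option autoImplicit false
set_option maxRecDepth 100000

/-! # Stem extensions of the subgroups `L₃(7)` and `L₃(7):2` of the presented group O'N

* `K = ⟨a, …, f⟩ = L₃(7):2` (of index 122760): its stem extensions with a 3-group as kernel are
  trivial, by restriction to the subgroup `⟨ef, ab, a⟩ = 3 × S₃`, of index prime to 3.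
* `K1 = ψ(L37) = L₃(7)`, of index 2 in `K`, perfect: its stem extensions with a 2-group or a
  7-group as kernel are trivial. -/

namespace Cfsg.Agent.Lib.Helper6.ONL37Mu

open Cfsg.Spor Cfsg.Agent.Lib.Helper6.TC Cfsg.Agent.Lib.Helper6.TCD
open Cfsg.Agent.Lib.Helper6.TCP.ON Cfsg.Agent.Lib.Helper1

open scoped commutatorElement

universe u

/-- the subgroup `L₃(7):2` generated by `a, …, f` -/
abbrev K : Subgroup ON := subH Rels Cfsg.Agent.S1692.S

/-- the subgroup `L₃(7)`, the image of the presented group `L37` -/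
noncomputable abbrev K1 : Subgroup ON := ONL37.psi.range

/-! ## Words -/

/-- the element of a word in the columns -/
noncomputable def ev (w : List ℕ) : ON := PresentedGroup.mk Rels (wordElt gc w)

theorem ev_nil : ev [] = 1 := by
  unfold ev
  rw [wordElt_nil, map_one]

theorem ev_append (u v : List ℕ) : ev (u ++ v) = ev u * ev v := by
  unfold ev
  rw [wordElt_append, map_mul]

/-- a word fixing the three points of the base is trivial -/
abbrev chkBase (w : List ℕ) : Prop :=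
  (∀ c ∈ w, c < 8) ∧ wappS ONa.px w 35 = 35 ∧ wappS ONa.px w 45 = 45 ∧ wappS ONa.px w 0 = 0

theorem ev_eq_one (w : List ℕ) (h : chkBase w) : ev w = 1 :=
  ONOrd.base_trivial w h.1 h.2.1 h.2.2.1 h.2.2.2

theorem ev_eq_ev (u v r : List ℕ) (hu : chkBase (u ++ r)) (hv : chkBase (v ++ r)) :
    ev u = ev v := by
  have h1 := ev_eq_one _ hu
  have h2 := ev_eq_one _ hv
  rw [ev_append] at h1 h2
  exact mul_right_cancel (h1.trans h2.symm)

theorem ev_mem_K (w : List ℕ) (hw : ∀ c ∈ w, 2 ≤ c ∧ c < 8) : ev w ∈ K :=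
  mk_wordElt_mem_subH w (fun c hc => ONL37.hcolS c (hw c hc).1 (hw c hc).2)

/-! ## The subgroup `3 × S₃` of `K` -/

/-- `ef`, of order 3 -/
noncomputable def X : ON := ev [6, 7]

/-- `ab`, of order 3 -/
noncomputable def Y : ON := ev [2, 3]

/-- `a` -/
noncomputable def T : ON := ev [2]

theorem X_pow : X ^ 3 = 1 := by
  have h : ev ([6, 7] ++ [6, 7] ++ [6, 7]) = 1 := ev_eq_one _ (by decide +kernel)
  rw [ev_append, ev_append] at h
  rw [pow_succ, pow_two]
  exact h

theorem Y_pow : Y ^ 3 = 1 := by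
  have h : ev ([2, 3] ++ [2, 3] ++ [2, 3]) = 1 := ev_eq_one _ (by decide +kernel)
  rw [ev_append, ev_append] at h
  rw [pow_succ, pow_two]
  exact h

theorem X_ne_one : X ≠ 1 :=
  ONOrd.ne_one_of_move [6, 7] (by decide) (q := 1) (by norm_num) (by decide +kernel)

theorem Y_ne_one : Y ≠ 1 :=
  ONOrd.ne_one_of_move [2, 3] (by decide) (q := 1) (by norm_num) (by decide +kernel)

theorem orderOf_X : orderOf X = 3 := by
  haveI : Fact (Nat.Prime 3) := ⟨Nat.prime_three⟩
  exact orderOf_eq_prime X_pow X_ne_one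

theorem orderOf_Y : orderOf Y = 3 := by
  haveI : Fact (Nat.Prime 3) := ⟨Nat.prime_three⟩
  exact orderOf_eq_prime Y_pow Y_ne_one

theorem T_mul_T : T * T = 1 := by
  have h : ev ([2] ++ [2]) = 1 := ev_eq_one _ (by decide +kernel)
  rwa [ev_append] at h

theorem T_inv : T⁻¹ = T := inv_eq_of_mul_eq_one_left T_mul_T

theorem X_mul_Y : X * Y = Y * X := by
  have h : ev ([6, 7] ++ [2, 3]) = ev ([2, 3] ++ [6, 7]) :=
    ev_eq_ev _ _ [7, 6, 3, 2] (by decide +kernel) (by decide +kernel)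
  rwa [ev_append, ev_append] at h

theorem T_X_T : T⁻¹ * X * T = X := by
  rw [T_inv]
  have h : ev ([2] ++ [6, 7] ++ [2]) = ev [6, 7] :=
    ev_eq_ev _ _ [7, 6] (by decide +kernel) (by decide +kernel)
  rwa [ev_append, ev_append] at h

theorem Y_inv : Y⁻¹ = ev [3, 2] := by
  apply inv_eq_of_mul_eq_one_right
  have h : ev ([2, 3] ++ [3, 2]) = 1 := ev_eq_one _ (by decide +kernel)
  rwa [ev_append] at h

theorem T_Y_T : T⁻¹ * Y * T = Y⁻¹ := by
  rw [T_inv, Y_inv]
  have h : ev ([2] ++ [2, 3] ++ [2]) = ev [3, 2] :=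
    ev_eq_ev _ _ [2, 3] (by decide +kernel) (by decide +kernel)
  rwa [ev_append, ev_append] at h

theorem X_ne_Y : X ≠ Y := by
  intro h
  have h1 : ev ([6, 7] ++ [3, 2]) ≠ 1 :=
    ONOrd.ne_one_of_move _ (by decide) (q := 1) (by norm_num) (by decide +kernel)
  apply h1
  rw [ev_append, ← Y_inv]
  show X * Y⁻¹ = 1
  rw [h, mul_inv_cancel]

theorem X_ne_Y_sq : X ≠ Y ^ 2 := by
  intro h
  have h1 : ev ([6, 7] ++ [2, 3]) ≠ 1 :=
    ONOrd.ne_one_of_move _ (by decide) (q := 1) (by norm_num) (by decide +kernel)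
  apply h1
  rw [ev_append]
  show X * Y = 1
  rw [h, ← pow_succ]
  exact Y_pow

theorem X_not_mem : X ∉ Subgroup.zpowers Y := by
  intro h
  obtain ⟨k, hk⟩ := Subgroup.mem_zpowers_iff.mp h
  rcases SmallStem.zpow_cases_of_orderOf_three Y orderOf_Y k with h1 | h1 | h1
  · exact X_ne_one (hk.symm.trans h1)
  · exact X_ne_Y (hk.symm.trans h1)
  · exact X_ne_Y_sq (hk.symm.trans h1)

/-- the generators in `K` -/
noncomputable def x : ↥K := ⟨X, ev_mem_K _ (by decide)⟩

noncomputable def y : ↥K := ⟨Y, ev_mem_K _ (by decide)⟩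

noncomputable def t : ↥K := ⟨T, ev_mem_K _ (by decide)⟩

/-- the subgroup `3 × S₃` -/
noncomputable def H : Subgroup ↥K := Subgroup.closure {x, y, t}

instance finite_ON : Finite ON := ONUB.card_le.1

theorem card_ON : Nat.card ON = 460815505920 := by
  obtain ⟨φ, _, _, _, h, _⟩ := ONOrd.rep
  exact h

theorem index_K : K.index = 122760 := by
  obtain ⟨φ, _, ⟨F, _⟩, _, _, _⟩ := ONOrd.rep
  rw [Subgroup.index, Nat.card_congr F, Nat.card_fin]

theorem card_K : Nat.card ↥K = 3753792 := by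
  have h := Subgroup.card_mul_index K
  rw [index_K, card_ON] at h
  exact Nat.eq_of_mul_eq_mul_right (by norm_num : 0 < 122760) (h.trans (by norm_num))

theorem orderOf_x : orderOf x = 3 := by
  rw [← Subgroup.orderOf_coe]
  exact orderOf_X

theorem orderOf_y : orderOf y = 3 := by
  rw [← Subgroup.orderOf_coe]
  exact orderOf_Y

theorem x_not_mem : x ∉ Subgroup.zpowers y := by
  intro h
  obtain ⟨k, hk⟩ := Subgroup.mem_zpowers_iff.mp h
  apply X_not_mem
  refine Subgroup.mem_zpowers_iff.mpr ⟨k, ?_⟩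
  have := congrArg Subtype.val hk
  rwa [Subgroup.coe_zpow] at this

theorem nine_dvd : 9 ∣ Nat.card H :=
  SmallStem.nine_dvd_card_of_commute x y orderOf_x orderOf_y (Subtype.ext X_mul_Y) x_not_mem H
    (Subgroup.subset_closure (by simp)) (Subgroup.subset_closure (by simp))

theorem index_H : ¬ 3 ∣ H.index := by
  intro h
  have h1 := Subgroup.card_mul_index H
  rw [card_K] at h1
  obtain ⟨a, ha⟩ := nine_dvd
  obtain ⟨b, hb⟩ := h
  rw [ha, hb] at h1
  have : 27 * (a * b) = 3753792 := by rw [← h1]; ring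
  omega

/-- the generators in `H` -/
noncomputable def x' : ↥H := ⟨x, Subgroup.subset_closure (by simp)⟩

noncomputable def y' : ↥H := ⟨y, Subgroup.subset_closure (by simp)⟩

noncomputable def t' : ↥H := ⟨t, Subgroup.subset_closure (by simp)⟩

theorem closure_H : Subgroup.closure ({x', y', t'} : Set ↥H) = ⊤ := by
  have h := Subgroup.closure_closure_coe_preimage (k := ({x, y, t} : Set ↥K))
  have e : ((↑) ⁻¹' ({x, y, t} : Set ↥K) : Set (Subgroup.closure ({x, y, t} : Set ↥K)))
      = ({x', y', t'} : Set ↥H) := by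
    ext g
    simp only [Set.mem_preimage, Set.mem_insert_iff, Set.mem_singleton_iff]
    constructor
    · rintro (h | h | h)
      · exact Or.inl (Subtype.ext h)
      · exact Or.inr (Or.inl (Subtype.ext h))
      · exact Or.inr (Or.inr (Subtype.ext h))
    · rintro (h | h | h)
      · exact Or.inl (congrArg Subtype.val h)
      · exact Or.inr (Or.inl (congrArg Subtype.val h))
      · exact Or.inr (Or.inr (congrArg Subtype.val h))
  rw [e] at h
  exact h

theorem H_stem (Γ' : Type u) [Group Γ'] [Finite Γ'] (σ' : Γ' →* ↥H)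
    (hσ' : Cfsg.IsStemExtension σ') : Nat.card σ'.ker ≤ 1 := by
  have hx3 : x' ^ 3 = 1 := Subtype.ext (Subtype.ext X_pow)
  have hy3 : orderOf y' = 3 := by
    rw [← Subgroup.orderOf_coe]
    exact orderOf_y
  have h := SmallStem.ker_eq_bot_of_three_s3 x' y' t' closure_H hx3 hy3
    (Subtype.ext (Subtype.ext T_mul_T)) (Subtype.ext (Subtype.ext X_mul_Y))
    (Subtype.ext (Subtype.ext T_X_T)) (Subtype.ext (Subtype.ext T_Y_T)) σ' hσ'
  rw [h, Subgroup.card_bot]

/-- **the stem extensions of `K = L₃(7):2` with a 3-group as kernel are trivial** -/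
theorem bound3_K (Γ : Type u) [Group Γ] [Finite Γ] (σ : Γ →* ↥K)
    (hσ : Cfsg.IsStemExtension σ) (hk : IsPGroup 3 σ.ker) : Nat.card σ.ker ≤ 1 := by
  haveI : Fact (Nat.Prime 3) := ⟨Nat.prime_three⟩
  refine Cfsg.Agent.Lib.Helper5.StemRes.card_ker_le_of_index_coprime σ hσ 3 hk H index_H 1 ?_
  intro Γ' _ _ σ' hσ' _
  exact H_stem Γ' σ' hσ'

/-! ## The subgroup `K1 = L₃(7)` -/

theorem K1_le_K : K1 ≤ K := ONL37.psi_range_le

/-- the isomorphism of the presented group `L37` with `K1` -/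
noncomputable def eK1 : Cfsg.Agent.Lib.Helper6.TCP.L37.G ≃* ↥K1 :=
  MonoidHom.ofInjective ONL37.psi_injective

theorem card_K1 : Nat.card ↥K1 = 1876896 := by
  rw [← Nat.card_congr eK1.toEquiv]
  exact L37M.card_G

theorem index_K1 : K1.index = 245520 := by
  have h := Subgroup.card_mul_index K1
  rw [card_K1, card_ON] at h
  exact Nat.eq_of_mul_eq_mul_left (by norm_num : 0 < 1876896) (h.trans (by norm_num))

theorem relindex_K1 : K1.relIndex K = 2 := by
  have h := Subgroup.relIndex_mul_index K1_le_K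
  rw [index_K1, index_K] at h
  exact Nat.eq_of_mul_eq_mul_right (by norm_num : 0 < 122760) (h.trans (by norm_num))

theorem L37_perfect : commutator L37M.l37Model.G = ⊤ := by
  have hs : IsSimpleGroup L37M.l37Model.G := L37Simple.simple.1
  rcases hs.eq_bot_or_eq_top_of_normal (commutator L37M.l37Model.G) inferInstance with h | h
  · exfalso
    have h1 : ⁅L37M.ss⁻¹, L37M.rr⁆ ∈ commutator L37M.l37Model.G :=
      Subgroup.commutator_mem_commutator (Subgroup.mem_top _) (Subgroup.mem_top _)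
    rw [h, Subgroup.mem_bot, commutatorElement_eq_one_iff_mul_comm] at h1
    apply L37M.rr_pow7_ne
    have h2 := L37M.ss_rr_ss
    rw [h1, inv_mul_cancel_right] at h2
    exact h2.symm
  · exact h

theorem K1_perfect : commutator ↥K1 = ⊤ := by
  have hperf : commutator Cfsg.Agent.Lib.Helper6.TCP.L37.G = ⊤ := L37_perfect
  have h := Stem.map_commutator_of_surjective eK1.toMonoidHom eK1.surjective
  rw [hperf, ← MonoidHom.range_eq_map] at h
  rw [← h]
  exact MonoidHom.range_eq_top.mpr eK1.surjective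

theorem bound_K1_of (p : ℕ)
    (hb : ∀ (Γ : Type u) [Group Γ] [Finite Γ] (σ : Γ →* Cfsg.Agent.Lib.Helper6.TCP.L37.G),
      Cfsg.IsStemExtension σ → IsPGroup p σ.ker → Nat.card σ.ker ≤ 1)
    (Γ : Type u) [Group Γ] [Finite Γ] (σ : Γ →* ↥K1)
    (hσ : Cfsg.IsStemExtension σ) (hk : IsPGroup p σ.ker) : Nat.card σ.ker ≤ 1 := by
  have h1 := Stem.isStem_comp_equiv (MulEquiv.refl Γ) eK1.symm σ hσ
  have e2 := Stem.kerEquiv (MulEquiv.refl Γ) eK1.symm σ
  have hk' : IsPGroup p (eK1.symm.toMonoidHom.comp (σ.comp (MulEquiv.refl Γ).toMonoidHom)).ker :=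
    hk.of_equiv e2.symm
  have h2 := hb Γ _ h1 hk'
  exact (Nat.card_congr e2.toEquiv).ge.trans h2

/-- **the stem extensions of `K1 = L₃(7)` with a 2-group as kernel are trivial** -/
theorem bound2_K1 (Γ : Type u) [Group Γ] [Finite Γ] (σ : Γ →* ↥K1)
    (hσ : Cfsg.IsStemExtension σ) (hk : IsPGroup 2 σ.ker) : Nat.card σ.ker ≤ 1 :=
  bound_K1_of 2 L37M.bound2 Γ σ hσ hk

/-- **the stem extensions of `K1 = L₃(7)` with a 7-group as kernel are trivial** -/
theorem bound7_K1 (Γ : Type u) [Group Γ] [Finite Γ] (σ : Γ →* ↥K1)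
    (hσ : Cfsg.IsStemExtension σ) (hk : IsPGroup 7 σ.ker) : Nat.card σ.ker ≤ 1 :=
  bound_K1_of 7 L37M.bound7 Γ σ hσ hk

end Cfsg.Agent.Lib.Helper6.ONL37Mu
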