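import Cfsg.Agent.Lib.Helper6.Mult.PM7

set_option autoImplicit false
set_option maxRecDepth 100000

/-! # Groups with a faithful permutation action given by tables: the check of the action of the
generators on sets given by masks, cut in ranges of sets -/

namespace Cfsg.Agent.Lib.Helper6.PM

open Cfsg.Agent.Lib.Helper6.TC

variable (M : PModel) (pm : ℕ → ℕ → ℕ) (masks : ℕ → ℕ) (m : ℕ) (pi : ℕ → ℕ → ℕ)

/-- the check of the action of a generator on the sets `lo, …, lo + len - 1` -/
noncomputable def chkSetsBR (i lo len : ℕ) : Bool :=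
  allB (fun j => strictAppB (fun b => strictAppB (fun a => chkRowB M.n (pm i) b a)
    (masks (lo + j))) (masks (pi i (lo + j)))) len

/-- the ranges cover the sets -/
noncomputable def chkCuts (cuts : List (ℕ × ℕ)) : Bool :=
  allB (fun j => cuts.any fun c => decide (c.1 ≤ j) && decide (j < c.1 + c.2)) m

theorem chkSets_of_BR (i : ℕ) (cuts : List (ℕ × ℕ)) (hc : chkCuts m cuts = true)
    (h : ∀ c ∈ cuts, chkSetsBR M pm masks pi i c.1 c.2 = true) :
    chkSets M pm masks m pi i = true := by
  unfold chkSets
  simp only [List.all_eq_true, List.mem_range, beq_iff_eq]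
  intro j hj q hq
  have h0 := allB_spec hc j hj
  rw [List.any_eq_true] at h0
  obtain ⟨c, hcm, hcj⟩ := h0
  rw [Bool.and_eq_true, decide_eq_true_eq, decide_eq_true_eq] at hcj
  have h1 := allB_spec (h c hcm) (j - c.1) (by omega)
  have e : c.1 + (j - c.1) = j := by omega
  rw [e, strictAppB_eq, strictAppB_eq] at h1
  exact testBit_eq_of_bitN (allB_spec h1 q hq)

end Cfsg.Agent.Lib.Helper6.PM
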