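import Cfsg.Agent.Lib.Helper6.Mult.PM4
import Cfsg.Agent.Lib.Helper6.Mult.PM6
import Cfsg.Agent.Lib.Helper6.Mult.PM8

set_option autoImplicit false
set_option maxRecDepth 100000

/-! # General lemmas on the models used for the computation of multipliers (the same statements
as in the files of the first groups treated, gathered here without their data) -/

namespace Cfsg.Agent.Lib.Helper6.PMG

open Cfsg.Agent.Lib.Helper6.TC Cfsg.Agent.Lib.Helper6.PM
open Cfsg.Agent.Lib.Helper1 Cfsg.Agent.Lib.Helper1.MatCode Cfsg.Agent.Lib.Helper1.StemSA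

open scoped Pointwise

theorem elt_flatten_replicate (M : PModel) (w : List ℕ) (n : ℕ) :
    M.elt (List.replicate n w).flatten = (M.elt w) ^ n := by
  induction n with
  | zero => simp [M.elt_nil]
  | succ k ih => rw [List.replicate_succ, List.flatten_cons, M.elt_append, ih, pow_succ']

/-- a word which fixes all the points gives the unit -/
theorem elt_eq_one (M : PModel) (w : List ℕ) (hw : ∀ c ∈ w, c < M.nl)
    (h : ∀ q < M.n, wapp M.px w q = q) : M.elt w = 1 := by
  rw [← M.elt_nil]
  exact M.elt_eq_of_wapp w [] hw (by simp) h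

theorem lt_flatten_replicate (k nl : ℕ) (u : List ℕ) (hu : ∀ c ∈ u, c < nl) :
    ∀ c ∈ (List.replicate k u).flatten, c < nl := by
  intro c hc
  rw [List.mem_flatten] at hc
  obtain ⟨l, hl, hcl⟩ := hc
  rw [List.mem_replicate] at hl
  rw [hl.2] at hcl
  exact hu c hcl

/-- a group with two letters of orders dividing `m`, `n`, with a product of order dividing `l`,
the numbers `m`, `n`, `l` being pairwise coprime, is perfect -/
theorem perfect_of_two_letters (M : PModel) (hnl : M.nl = 2) (m n l : ℕ)
    (hx : ∀ q < M.n, wapp M.px (List.replicate m [0]).flatten q = q)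
    (hy : ∀ q < M.n, wapp M.px (List.replicate n [1]).flatten q = q)
    (hxy : ∀ q < M.n, wapp M.px (List.replicate l [0, 1]).flatten q = q)
    (hmn : Nat.Coprime m n) (hml : Nat.Coprime m l) (hnl' : Nat.Coprime n l) :
    commutator M.G = ⊤ := by
  have h0 : ∀ c ∈ [0], c < M.nl := by
    intro c hc
    rw [List.mem_singleton] at hc
    omega
  have h1 : ∀ c ∈ [1], c < M.nl := by
    intro c hc
    rw [List.mem_singleton] at hc
    omega
  have h01 : ∀ c ∈ [0, 1], c < M.nl := by
    intro c hc
    simp only [List.mem_cons, List.not_mem_nil, or_false] at hc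
    omega
  apply perfect_of_coprime (M.elt [0]) (M.elt [1]) ?_ m n l ?_ ?_ ?_ hmn hml hnl'
  · rw [← M.closure_letters]
    congr 1
    ext g
    simp only [Set.mem_insert_iff, Set.mem_singleton_iff, Set.mem_ofPred_eq]
    constructor
    · rintro (rfl | rfl)
      · exact ⟨0, by omega, rfl⟩
      · exact ⟨1, by omega, rfl⟩
    · rintro ⟨c, hc, rfl⟩
      have hc' : c < 2 := by omega
      interval_cases c
      · exact Or.inl rfl
      · exact Or.inr rfl
  · rw [← elt_flatten_replicate]
    exact elt_eq_one M _ (lt_flatten_replicate m M.nl [0] h0) hx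
  · rw [← elt_flatten_replicate]
    exact elt_eq_one M _ (lt_flatten_replicate n M.nl [1] h1) hy
  · have e : M.elt [0] * M.elt [1] = M.elt [0, 1] := by
      rw [← M.elt_append]
      rfl
    rw [e, ← elt_flatten_replicate]
    exact elt_eq_one M _ (lt_flatten_replicate l M.nl [0, 1] h01) hxy

theorem prod_eq_four (s a b : ℕ) (h : s * a * b = 4) (ha : a ≠ 1) (hb : b ≠ 1) :
    s = 1 ∧ a = 2 ∧ b = 2 := by
  have hs : s ∣ 4 := ⟨a * b, by rw [← h]; ring⟩
  have ha' : a ∣ 4 := ⟨s * b, by rw [← h]; ring⟩
  have hb' : b ∣ 4 := ⟨s * a, by rw [← h]; ring⟩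
  have hs4 := Nat.le_of_dvd (by norm_num) hs
  have ha4 := Nat.le_of_dvd (by norm_num) ha'
  have hb4 := Nat.le_of_dvd (by norm_num) hb'
  interval_cases s <;> interval_cases a <;> interval_cases b <;> simp_all

/-- the orders of the generators are coprime to the prime -/
theorem hord_of_chk (D : SAData) (p : ℕ)
    (h : ((List.range D.k).all fun i => Nat.gcd (D.ords.getD i 0) p == 1) = true) :
    ∀ i < D.k, Nat.Coprime (D.ords.getD i 0) p := by
  simp only [List.all_eq_true, List.mem_range, beq_iff_eq] at h
  exact h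

theorem comm_quot_top {K : Type*} [Group K] : ∀ x y : K ⧸ (⊤ : Subgroup K), x * y = y * x := by
  intro x y
  have : Subsingleton (K ⧸ (⊤ : Subgroup K)) := QuotientGroup.subsingleton_quotient_top
  exact Subsingleton.elim _ _

end Cfsg.Agent.Lib.Helper6.PMG
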