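import Cfsg.Agent.Lib.Helper6.Mult.PM3
import Cfsg.Agent.Lib.Lead.CarveSgn

set_option autoImplicit false

/-! An element of a permutation model acting on a family of sets as an involution with an odd
number of transpositions is not in a subgroup generated by words of odd order stabilizing the
family. -/

namespace Cfsg.Agent.Lib.Helper6.PM

open scoped Pointwise

variable (M : PModel) (masks : ℕ → ℕ) (m : ℕ)

/-- the number of the sets of a family moved by an element, from its table on the family -/
theorem ncard_moved_family (hD : chkDistinct M masks m = true) (g : M.G) (pi : ℕ → ℕ)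
    (hg : ∀ j < m, g • ptS M masks j = ptS M masks (pi j)) (hpi : ∀ j < m, pi j < m) :
    Set.ncard {x | x ∈ family M masks m ∧ g • x ≠ x} =
      ((Finset.range m).filter fun j => pi j ≠ j).card := by
  have hinj := ptS_inj M masks m hD
  have e : {x | x ∈ family M masks m ∧ g • x ≠ x} =
      (fun j => ptS M masks j) '' (((Finset.range m).filter fun j => pi j ≠ j : Finset ℕ) : Set ℕ) := by
    ext x
    constructor
    · rintro ⟨⟨j, hj, rfl⟩, hne⟩
      refine ⟨j, ?_, rfl⟩
      simp only [Finset.coe_filter, Finset.mem_range, Set.mem_ofPred_eq]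
      refine ⟨hj, fun h => hne ?_⟩
      rw [hg j hj, h]
    · rintro ⟨j, hj, rfl⟩
      simp only [Finset.coe_filter, Finset.mem_range, Set.mem_ofPred_eq] at hj
      refine ⟨⟨j, hj.1, rfl⟩, ?_⟩
      show g • ptS M masks j ≠ ptS M masks j
      rw [hg j hj.1]
      intro h
      exact hj.2 (hinj _ (hpi j hj.1) _ hj.1 h)
  rw [e, Set.InjOn.ncard_image, Set.ncard_coe_finset]
  intro j hj j' hj' h
  simp only [Finset.coe_filter, Finset.mem_range, Set.mem_ofPred_eq] at hj hj'
  exact hinj j hj.1 j' hj'.1 h

theorem card_filter_range_eq (m : ℕ) (p : ℕ → Bool) :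
    ((Finset.range m).filter fun j => p j = true).card = ((List.range m).filter p).length := by
  rw [Finset.card_def, Finset.filter_val, Finset.range_val, Multiset.range, Multiset.filter_coe,
    Multiset.coe_card]
  congr 1
  apply List.filter_congr
  intro x _
  simp

end Cfsg.Agent.Lib.Helper6.PM
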