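import Mathlib
import Cfsg.Prelude.Def_Classical

set_option autoImplicit false

/-! # The special unitary groups and their quotients by the centre over isomorphic fields -/

namespace Cfsg.Agent.Lib.Helper6.PSUEquiv

open Matrix

variable {F K : Type*} [Field F] [Field K] {n : ℕ}

/-- the isomorphism of the special linear groups given by an isomorphism of fields -/
noncomputable def slEquiv (e : F ≃+* K) :
    SpecialLinearGroup (Fin n) F ≃* SpecialLinearGroup (Fin n) K where
  toFun := SpecialLinearGroup.map e.toRingHom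
  invFun := SpecialLinearGroup.map e.symm.toRingHom
  left_inv g := by
    apply Subtype.ext
    ext i j
    rw [SpecialLinearGroup.map_apply_coe, SpecialLinearGroup.map_apply_coe,
      RingHom.mapMatrix_apply, RingHom.mapMatrix_apply, Matrix.map_apply, Matrix.map_apply]
    exact e.symm_apply_apply _
  right_inv g := by
    apply Subtype.ext
    ext i j
    rw [SpecialLinearGroup.map_apply_coe, SpecialLinearGroup.map_apply_coe,
      RingHom.mapMatrix_apply, RingHom.mapMatrix_apply, Matrix.map_apply, Matrix.map_apply]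
    exact e.apply_symm_apply _
  map_mul' := map_mul _

theorem slToMat_slEquiv (e : F ≃+* K) (g : SpecialLinearGroup (Fin n) F) :
    Cfsg.slToMat n K (slEquiv e g) = (Cfsg.slToMat n F g).map e := by
  ext i j
  show ((SpecialLinearGroup.map e.toRingHom g : SpecialLinearGroup (Fin n) K) :
    Matrix (Fin n) (Fin n) K) i j = e ((g : Matrix (Fin n) (Fin n) F) i j)
  rw [SpecialLinearGroup.map_apply_coe, RingHom.mapMatrix_apply, Matrix.map_apply]
  rfl

theorem map_mulVec (e : F ≃+* K) (A : Matrix (Fin n) (Fin n) F) (u : Fin n → F) :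
    (A.map e) *ᵥ (fun i => e (u i)) = fun i => e ((A *ᵥ u) i) := by
  funext i
  simp [Matrix.mulVec, dotProduct, map_sum, map_mul]

theorem hermForm_map (e : F ≃+* K) (q : ℕ) (u v : Fin n → F) :
    Cfsg.hermForm n K q (fun i => e (u i)) (fun i => e (v i)) = e (Cfsg.hermForm n F q u v) := by
  unfold Cfsg.hermForm
  rw [map_sum]
  apply Finset.sum_congr rfl
  intro i _
  rw [map_mul, map_pow]

theorem slEquiv_mem (e : F ≃+* K) (q : ℕ) (g : SpecialLinearGroup (Fin n) F)
    (hg : g ∈ Cfsg.SU n F q) : slEquiv e g ∈ Cfsg.SU n K q := by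
  intro u v
  have hu : u = fun i => e (e.symm (u i)) := by funext i; simp
  have hv : v = fun i => e (e.symm (v i)) := by funext i; simp
  rw [slToMat_slEquiv, hu, hv, map_mulVec, map_mulVec, hermForm_map, hermForm_map]
  congr 1
  exact hg _ _

theorem slEquiv_symm (e : F ≃+* K) :
    (slEquiv e : SpecialLinearGroup (Fin n) F ≃* _).symm = slEquiv e.symm := rfl

/-- the isomorphism of the special unitary groups -/
noncomputable def suEquiv (e : F ≃+* K) (q : ℕ) : ↥(Cfsg.SU n F q) ≃* ↥(Cfsg.SU n K q) where
  toFun g := ⟨slEquiv e g.1, slEquiv_mem e q g.1 g.2⟩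
  invFun g := ⟨slEquiv e.symm g.1, slEquiv_mem e.symm q g.1 g.2⟩
  left_inv g := by
    apply Subtype.ext
    show (slEquiv e).symm (slEquiv e g.1) = g.1
    exact (slEquiv e).symm_apply_apply _
  right_inv g := by
    apply Subtype.ext
    show slEquiv e ((slEquiv e).symm g.1) = g.1
    exact (slEquiv e).apply_symm_apply _
  map_mul' a b := by
    apply Subtype.ext
    exact map_mul (slEquiv e) a.1 b.1

theorem map_center {G H : Type*} [Group G] [Group H] (f : G ≃* H) :
    (Subgroup.center G).map f.toMonoidHom = Subgroup.center H := by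
  ext x
  rw [Subgroup.mem_map, Subgroup.mem_center_iff]
  constructor
  · rintro ⟨y, hy, rfl⟩ z
    rw [Subgroup.mem_center_iff] at hy
    obtain ⟨w, rfl⟩ := f.surjective z
    show f w * f y = f y * f w
    rw [← map_mul, ← map_mul, hy w]
  · intro h
    refine ⟨f.symm x, ?_, f.apply_symm_apply x⟩
    rw [Subgroup.mem_center_iff]
    intro w
    apply f.injective
    rw [map_mul, map_mul, f.apply_symm_apply]
    exact h (f w)

/-- the isomorphism of the projective special unitary groups -/
noncomputable def psuEquiv (e : F ≃+* K) (q : ℕ) : Cfsg.PSU n F q ≃* Cfsg.PSU n K q :=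
  QuotientGroup.congr _ _ (suEquiv e q) (map_center (suEquiv e q))

end Cfsg.Agent.Lib.Helper6.PSUEquiv
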