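import Cfsg.Agent.Lib.Helper6.WP9
import Cfsg.Agent.Lib.Helper1.Stem14

set_option autoImplicit false

/-! # The parity of the words in a group presented by relators of even length, and the transport
of bounds on the kernels of the stem extensions along an isomorphism -/

namespace Cfsg.Agent.Lib.Helper6.TC

section parity

variable {k : ℕ} [NeZero k]

theorem lift_parity_wordElt (w : List ℕ) :
    FreeGroup.lift (fun _ : Fin k => Multiplicative.ofAdd (1 : ZMod 2)) (wordElt (gcF k) w) =
      Multiplicative.ofAdd ((w.length : ℕ) : ZMod 2) := by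
  induction w with
  | nil =>
    rw [wordElt_nil, map_one, List.length_nil, Nat.cast_zero]
    rfl
  | cons c w ih =>
    rw [wordElt_cons, map_mul, ih, ceOf_gcF, FreeGroup.lift_apply_of, List.length_cons,
      Nat.cast_succ, ← ofAdd_add, add_comm]

theorem parity_aux {base : List (List ℕ)} (h : ∀ b ∈ base, b.length % 2 = 0) :
    ∀ r ∈ wrels k base,
      FreeGroup.lift (fun _ : Fin k => Multiplicative.ofAdd (1 : ZMod 2)) r = 1 := by
  rintro r ⟨b, hb, rfl⟩
  rw [lift_parity_wordElt]
  have h0 : ((b.length : ℕ) : ZMod 2) = 0 := by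
    rw [ZMod.natCast_eq_zero_iff]
    exact Nat.dvd_of_mod_eq_zero (h b hb)
  rw [h0]
  rfl

/-- the parity of the words, when the relators have even lengths -/
noncomputable def parityHom {base : List (List ℕ)} (h : ∀ b ∈ base, b.length % 2 = 0) :
    WG k base →* Multiplicative (ZMod 2) :=
  PresentedGroup.toGroup (parity_aux h)

theorem parityHom_wordElt {base : List (List ℕ)} (h : ∀ b ∈ base, b.length % 2 = 0)
    (w : List ℕ) :
    parityHom h (PresentedGroup.mk (wrels k base) (wordElt (gcF k) w)) =
      Multiplicative.ofAdd ((w.length : ℕ) : ZMod 2) := by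
  show FreeGroup.lift (fun _ : Fin k => Multiplicative.ofAdd (1 : ZMod 2)) (wordElt (gcF k) w) = _
  exact lift_parity_wordElt w

/-- the kernel of the parity has index two, when there is a word of odd length -/
theorem card_ker_parityHom {base : List (List ℕ)} (h : ∀ b ∈ base, b.length % 2 = 0)
    [Finite (WG k base)] : Nat.card (parityHom (k := k) h).ker * 2 = Nat.card (WG k base) := by
  have hs : Function.Surjective (parityHom (k := k) h) := by
    intro y
    induction y using Multiplicative.rec with
    | _ y =>
    by_cases hy : y = 0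
    · exact ⟨1, by rw [map_one, hy]; rfl⟩
    · refine ⟨PresentedGroup.mk _ (wordElt (gcF k) [0]), ?_⟩
      rw [parityHom_wordElt, List.length_singleton, Nat.cast_one]
      congr 1
      revert hy
      revert y
      decide
  have h1 := Subgroup.card_mul_index (parityHom (k := k) h).ker
  rw [Subgroup.index_ker, MonoidHom.range_eq_top.mpr hs, Subgroup.card_top] at h1
  have h2 : Nat.card (Multiplicative (ZMod 2)) = 2 := by
    rw [Nat.card_eq_fintype_card]
    rfl
  rw [h2] at h1
  exact h1

end parity

end Cfsg.Agent.Lib.Helper6.TC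

namespace Cfsg.Agent.Lib.Helper6.PM

open Cfsg.Agent.Lib.Helper1

universe u

/-- a bound on the kernels of the stem extensions is transported along an isomorphism -/
theorem bound_of_equiv {G G' : Type*} [Group G] [Group G'] (e : G' ≃* G) (p t : ℕ)
    (hT : ∀ (Γ : Type u) [Group Γ] [Finite Γ] (σ : Γ →* G),
      Cfsg.IsStemExtension σ → IsPGroup p σ.ker → Nat.card σ.ker ≤ t)
    (Γ : Type u) [Group Γ] [Finite Γ] (σ : Γ →* G') (hσ : Cfsg.IsStemExtension σ)
    (hk : IsPGroup p σ.ker) : Nat.card σ.ker ≤ t := by
  have h1 := Stem.isStem_comp_equiv (MulEquiv.refl Γ) e σ hσ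
  have e2 := Stem.kerEquiv (MulEquiv.refl Γ) e σ
  rw [← Nat.card_congr e2.toEquiv]
  exact hT Γ _ h1 (hk.of_equiv e2.symm)

/-- perfect groups are transported along isomorphisms -/
theorem perfect_of_equiv {G G' : Type*} [Group G] [Group G'] (e : G ≃* G')
    (h : commutator G = ⊤) : commutator G' = ⊤ := by
  have h2 : (commutator G).map e.toMonoidHom = commutator G' := by
    rw [commutator_def, commutator_def, Subgroup.map_commutator, ← MonoidHom.range_eq_map,
      MonoidHom.range_eq_top.mpr e.surjective]
  rw [← h2, h, ← MonoidHom.range_eq_map, MonoidHom.range_eq_top.mpr e.surjective]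

end Cfsg.Agent.Lib.Helper6.PM
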