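import Cfsg.Agent.Lib.Helper6.Mult.Sp8D

set_option autoImplicit false

/-! # The Schur multiplier of the group `Sp8(2)` is trivial -/

namespace Cfsg.Agent.Lib.Helper6.Mult.Sp82F

open Cfsg.Agent.Lib.Helper1

universe u

/-- the Schur multiplier of the projective symplectic group of dimension 8 over a field with two
elements is trivial -/
theorem main {F : Type u} [Field F] [Fintype F] (hF : Fintype.card F = 2) :
    Cfsg.HasCyclicSchurMultiplier (Cfsg.PSp 4 F) 1 :=
  Stem.hasCyclicSchurMultiplier_of_equiv (Cfsg.Agent.Lib.Helper6.Sp8.pspEquiv hF) 1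
    Cfsg.Agent.Lib.Helper6.Sp8Mu.exists_cover Cfsg.Agent.Lib.Helper6.Sp8Mu.hub

end Cfsg.Agent.Lib.Helper6.Mult.Sp82F
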