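import Mathlib
import Cfsg.Agent.S0245
import Cfsg.Agent.S0246
import Cfsg.Agent.Lib.Helper1.SpBasic
import Cfsg.Agent.Lib.Helper1.Sp6Z
import Cfsg.Agent.Lib.Helper6.Spor.S82Simple
import Cfsg.Agent.Lib.Helper6.WP10
import Cfsg.Agent.Lib.Helper6.Simp7
import Cfsg.Agent.Lib.Helper6.Mult.PM1

/-!
# The group `Sp₈(2)` acting on the 256 coded vectors, generated by nine transvections
-/

set_option autoImplicit false
set_option maxRecDepth 100000

namespace Cfsg.Agent.Lib.Helper6.Sp8

open Matrix Equiv Cfsg.Agent.Lib.Helper1.SpBasic Cfsg.Agent.Lib.Helper6.TC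

/-- the group -/
abbrev G8 := Matrix.symplecticGroup (Fin 4) (ZMod 2)

/-- the vectors -/
abbrev V8 := Fin 4 ⊕ Fin 4 → ZMod 2

/-- the vector with a given code -/
def dec (n : Fin 256) : V8 := fun i =>
  match i with
  | .inl i => if n.val.testBit i.val then 1 else 0
  | .inr i => if n.val.testBit (4 + i.val) then 1 else 0

/-- the code of a vector -/
def enc (x : V8) : Fin 256 :=
  Fin.ofNat 256 ((x (.inl 0)).val + 2 * (x (.inl 1)).val + 4 * (x (.inl 2)).val +
    8 * (x (.inl 3)).val + 16 * (x (.inr 0)).val + 32 * (x (.inr 1)).val +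
    64 * (x (.inr 2)).val + 128 * (x (.inr 3)).val)

theorem enc_dec : ∀ n : Fin 256, enc (dec n) = n := by decide +kernel

theorem dec_injective : Function.Injective dec :=
  Function.LeftInverse.injective enc_dec

theorem dec_surjective : Function.Surjective dec := by
  have hc : Fintype.card V8 = Fintype.card (Fin 256) := by
    rw [Fintype.card_fun, Fintype.card_sum, Fintype.card_fin, ZMod.card, Fintype.card_fin]
    norm_num
  exact ((Fintype.bijective_iff_injective_and_card dec).mpr ⟨dec_injective, hc.symm⟩).2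

theorem dec_enc (x : V8) : dec (enc x) = x := by
  obtain ⟨n, rfl⟩ := dec_surjective x
  rw [enc_dec]

/-- the action on the coded vectors -/
def φ : G8 →* Perm (Fin 256) where
  toFun g :=
    { toFun := fun n => enc ((g : Matrix _ _ (ZMod 2)) *ᵥ dec n)
      invFun := fun n => enc (((g⁻¹ : G8) : Matrix _ _ (ZMod 2)) *ᵥ dec n)
      left_inv := fun n => by
        show enc (((g⁻¹ : G8) : Matrix _ _ (ZMod 2)) *ᵥ dec (enc ((g : Matrix _ _ (ZMod 2)) *ᵥ dec n))) = n
        rw [dec_enc, inv_mulVec_mulVec, enc_dec]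
      right_inv := fun n => by
        show enc ((g : Matrix _ _ (ZMod 2)) *ᵥ dec (enc (((g⁻¹ : G8) : Matrix _ _ (ZMod 2)) *ᵥ dec n))) = n
        rw [dec_enc, mulVec_inv_mulVec, enc_dec] }
  map_one' := by
    apply Equiv.ext
    intro n
    show enc (((1 : G8) : Matrix _ _ (ZMod 2)) *ᵥ dec n) = n
    rw [coe_one_mulVec, enc_dec]
  map_mul' g h := by
    apply Equiv.ext
    intro n
    show enc (((g * h : G8) : Matrix _ _ (ZMod 2)) *ᵥ dec n) =
      enc ((g : Matrix _ _ (ZMod 2)) *ᵥ dec (enc ((h : Matrix _ _ (ZMod 2)) *ᵥ dec n)))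
    rw [dec_enc, coe_mul_mulVec]

theorem φ_apply (g : G8) (n : Fin 256) : φ g n = enc ((g : Matrix _ _ (ZMod 2)) *ᵥ dec n) := rfl

theorem dec_φ (g : G8) (n : Fin 256) : dec (φ g n) = (g : Matrix _ _ (ZMod 2)) *ᵥ dec n := by
  rw [φ_apply, dec_enc]

theorem φ_injective : Function.Injective φ := by
  intro g h hgh
  apply ext_mulVec
  intro x
  obtain ⟨n, rfl⟩ := dec_surjective x
  rw [← dec_φ, ← dec_φ, hgh]

/-- the form on the codes -/
def bN (n k : ℕ) : Bool :=
  ((n.testBit 0 && k.testBit 4) ^^ (n.testBit 1 && k.testBit 5) ^^ (n.testBit 2 && k.testBit 6) ^^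
    (n.testBit 3 && k.testBit 7)) ^^
  ((n.testBit 4 && k.testBit 0) ^^ (n.testBit 5 && k.testBit 1) ^^ (n.testBit 6 && k.testBit 2) ^^
    (n.testBit 7 && k.testBit 3))

/-- the transvections on the codes -/
def tvN (k n : ℕ) : ℕ := if bN n k then n ^^^ k else n

/-- the codes of the centres of the nine transvections -/
def codeL : List ℕ := [1, 2, 16, 33, 6, 64, 12, 128, 18]

/-- the code of the centre of the transvection of a column -/
def code (c : ℕ) : Fin 256 := Fin.ofNat 256 (codeL.getD c 0)

theorem tv_chk : ∀ c : Fin 9, ∀ n : Fin 256,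
    (enc (dec n + ((1 : ZMod 2) * Cfsg.sympForm 4 (ZMod 2) (dec n) (dec (code c.val))) •
      dec (code c.val))).val = tvN (codeL.getD c.val 0) n.val := by decide +kernel

/-- the transvection of a column -/
def gen (c : ℕ) : G8 := T (dec (code c)) 1

theorem φ_gen (c : ℕ) (hc : c < 9) (n : Fin 256) :
    (φ (gen c) n).val = tvN (codeL.getD c 0) n.val := by
  rw [φ_apply, gen, T_mulVec]
  exact tv_chk ⟨c, hc⟩ n

theorem gen_mul_self (c : ℕ) : gen c * gen c = 1 := by
  unfold gen
  rw [T_add]
  have : (1 : ZMod 2) + 1 = 0 := by decide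
  rw [this, T_zero]

theorem gen_inv (c : ℕ) : (gen c)⁻¹ = gen c := inv_eq_of_mul_eq_one_left (gen_mul_self c)

/-- the table of the columns -/
def px (c q : ℕ) : ℕ := tvN (codeL.getD c 0) q

theorem px_lt : ∀ c < 9, ∀ q < 256, px c q < 256 := by decide +kernel

/-- the element of a word of columns -/
def elt (w : List ℕ) : G8 := (w.map gen).prod

theorem elt_nil : elt [] = 1 := rfl

theorem elt_append (u v : List ℕ) : elt (u ++ v) = elt u * elt v := by
  unfold elt
  rw [List.map_append, List.prod_append]

theorem phi_inv_val : ∀ w, (∀ c ∈ w, c < 9) → ∀ p : Fin 256,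
    ((φ (elt w))⁻¹ p).val = wapp px w p.val := by
  intro w
  induction w with
  | nil =>
    intro _ p
    rw [elt_nil, map_one, inv_one]
    rfl
  | cons c w ih =>
    intro hw p
    have hc : c < 9 := hw c List.mem_cons_self
    have e : elt (c :: w) = gen c * elt w := by
      unfold elt
      rw [List.map_cons, List.prod_cons]
    have h1 : (φ (gen c))⁻¹ = φ (gen c) := by rw [← map_inv, gen_inv]
    rw [e, map_mul, _root_.mul_inv_rev, Perm.mul_apply, h1, wapp_cons,
      ih (fun c' hc' => hw c' (List.mem_cons_of_mem _ hc')) (φ (gen c) p), φ_gen c hc p]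
    rfl

/-- the order of the group -/
theorem card_G8 : Nat.card G8 = 47377612800 := by
  rw [Cfsg.Agent.S0245.result (F := ZMod 2) (q := 2) (ZMod.card 2) 4]
  decide

instance finite_G8 : Finite G8 := Nat.finite_of_card_ne_zero (by rw [card_G8]; norm_num)

/-! ## The isomorphism with the presented group -/

/-- the action of a word of columns on a code -/
def wact (w : List ℕ) (q : ℕ) : ℕ := w.foldl (fun q c => tvN (codeL.getD c 0) q) q

theorem wact_eq (w : List ℕ) (q : ℕ) : wact w q = wapp px w q := rfl

theorem hchk : (TCP.S82.base.all fun b => (List.range 256).all fun q => wact b q == q) = true := by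
  decide +kernel

theorem hrel : ∀ b ∈ TCP.S82.base, (b.map gen).prod = 1 := by
  intro b hb
  have h := hchk
  simp only [List.all_eq_true, List.mem_range, beq_iff_eq] at h
  have hb9 : ∀ c ∈ b, c < 9 := TCP.S82.hbl b hb
  apply φ_injective
  apply inv_injective
  apply Equiv.ext
  intro p
  apply Fin.ext
  have h1 := phi_inv_val b hb9 p
  unfold elt at h1
  rw [h1, ← wact_eq, h b hb p.val p.isLt, map_one, inv_one]
  rfl

/-- the homomorphism from the presented group to the symplectic group -/
noncomputable def beta : TCP.S82.G →* G8 := wgHom gen TCP.S82.hbl hrel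

theorem beta_of (i : Fin 9) :
    beta (PresentedGroup.mk (wrels 9 TCP.S82.base) (FreeGroup.of i)) = gen i.val :=
  wgHom_of gen TCP.S82.hbl hrel i

theorem gen0_ne_one : gen 0 ≠ 1 := by
  intro h
  have h1 := φ_gen 0 (by decide) ⟨16, by decide⟩
  rw [h, map_one] at h1
  revert h1
  decide

theorem beta_bijective : Function.Bijective beta := by
  have hinj : Function.Injective beta := by
    refine Simp.injective_of_simple beta S82Simple.simple.1
      (x := PresentedGroup.mk (wrels 9 TCP.S82.base) (FreeGroup.of ⟨0, by decide⟩)) ?_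
    rw [beta_of]
    exact gen0_ne_one
  have hfin : Finite TCP.S82.G :=
    Nat.finite_of_card_ne_zero (by rw [S82Simple.simple.2]; norm_num)
  rw [Nat.bijective_iff_injective_and_card]
  exact ⟨hinj, by rw [S82Simple.simple.2, card_G8]⟩

theorem closure_letters : Subgroup.closure {g : G8 | ∃ c < 9, g = elt [c]} = ⊤ := by
  have key : ∀ x ∈ Subgroup.closure (Set.range (PresentedGroup.of (rels := wrels 9 TCP.S82.base))),
      beta x ∈ Subgroup.closure {g : G8 | ∃ c < 9, g = elt [c]} := by
    intro x hx
    induction hx using Subgroup.closure_induction with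
    | mem y hy =>
      obtain ⟨i, rfl⟩ := hy
      apply Subgroup.subset_closure
      refine ⟨i.val, i.isLt, ?_⟩
      show beta (PresentedGroup.mk _ (FreeGroup.of i)) = elt [i.val]
      rw [beta_of]
      unfold elt
      simp
    | one => rw [map_one]; exact Subgroup.one_mem _
    | mul y z _ _ hy hz => rw [map_mul]; exact Subgroup.mul_mem _ hy hz
    | inv y _ hy => rw [map_inv]; exact Subgroup.inv_mem _ hy
  rw [eq_top_iff]
  intro g _
  obtain ⟨x, rfl⟩ := beta_bijective.2 g
  apply key
  rw [PresentedGroup.closure_range_of]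
  exact Subgroup.mem_top x

/-- the model of the group -/
noncomputable def sp8Model : PM.PModel where
  G := G8
  n := 256
  nl := 9
  px := px
  elt := elt
  phi := φ
  elt_nil := elt_nil
  elt_append := elt_append
  px_lt := px_lt
  phi_inv_val := phi_inv_val
  phi_injective := φ_injective
  closure_letters := closure_letters

/-! ## The projective symplectic group over a field with two elements -/

open Cfsg.Agent.Lib.Helper1.Sp6 in
/-- the center of a symplectic group over a field of characteristic 2 is trivial -/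
theorem center_eq_bot {F : Type*} [Field F] (h2 : (2 : F) = 0) :
    Subgroup.center (symplecticGroup (Fin 4) F) = ⊥ := by
  rw [eq_bot_iff]
  intro z hz
  rw [Subgroup.mem_bot]
  rcases (Cfsg.Agent.S0246.mem_center_iff (by norm_num) z).1 hz with rfl | rfl
  · rfl
  · apply Subtype.ext
    show (-1 : Matrix (Fin 4 ⊕ Fin 4) (Fin 4 ⊕ Fin 4) F) = 1
    have h1 : (-1 : F) = 1 := by linear_combination -h2
    ext i j
    simp [Matrix.one_apply]
    split_ifs <;> simp [h1]

open Cfsg.Agent.Lib.Helper1.Sp6 in
/-- the group is isomorphic to the projective symplectic group over a field with two elements -/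
noncomputable def pspEquiv {F : Type*} [Field F] [Fintype F] (hF : Fintype.card F = 2) :
    G8 ≃* Cfsg.PSp 4 F :=
  haveI : Fact (Nat.Prime 2) := ⟨Nat.prime_two⟩
  have h2 : (2 : F) = 0 := by
    have h := Nat.cast_card_eq_zero F
    rw [hF] at h
    exact_mod_cast h
  (spCongr (ZMod.ringEquivOfPrime F Nat.prime_two hF)).trans
    ((QuotientGroup.quotientBot).symm.trans
      (QuotientGroup.quotientMulEquivOfEq (center_eq_bot h2).symm))

end Cfsg.Agent.Lib.Helper6.Sp8
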