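import Cfsg.Agent.Lib.Helper6.Mult.StemX2
import Cfsg.Agent.Lib.Helper6.Mult.Chunk2

set_option autoImplicit false
set_option maxRecDepth 100000

/-! Labelled actions with labels in a finite commutative `2`-group: the certificate with rows
combined by exclusive disjunction, checked range by range. -/

namespace Cfsg.Agent.Lib.Helper6.StemX

open Cfsg.Agent.Lib.Helper1 Cfsg.Agent.Lib.Helper1.StemSA Cfsg.Agent.Lib.Helper1.StemZA
  Cfsg.Agent.Lib.Helper1.StemZC Cfsg.Agent.Lib.Helper1.StemZP Cfsg.Agent.Lib.Helper6.Mult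

variable (D : SAData) (C : XCert)

/-- the check of a range of rows -/
def rowChunk (lo len : ℕ) : Bool :=
  (List.range len).all fun i => decide (C.N ≤ lo + i) || rowOK D C (lo + i)

/-- the check of a range of unknowns -/
def unkChunk (lo len : ℕ) : Bool :=
  (List.range len).all fun i => decide (D.n ≤ lo + i) || chkUnk D C (lo + i)

/-- the unknowns of the columns are in the range -/
def chkUnkLt : Bool := (List.range C.N).all fun c => decide (C.unk c < D.n)

theorem chkCertX_of_chunks (K₁ sz₁ K₂ sz₂ : ℕ) (hK₁ : C.N ≤ K₁ * sz₁) (hK₂ : D.n ≤ K₂ * sz₂)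
    (h0 : chkSmallX D C = true) (hunk : chkUnkLt D C = true)
    (h1 : ∀ k < K₁, rowChunk D C (k * sz₁) sz₁ = true)
    (h2 : ∀ k < K₂, unkChunk D C (k * sz₂) sz₂ = true)
    (hrel : ((List.range C.bs.length).all fun j =>
      chkRel D C.toP (C.rel.getD j []) (C.bs.getD j 0) (C.es.getD j 0)) = true) :
    chkCertX D C = true := by
  have e1 : (List.range C.N).all (rowOK D C) = true :=
    all_range_of_chunks _ C.N K₁ sz₁ hK₁ h1
  have e2 : (List.range D.n).all (chkUnk D C) = true :=
    all_range_of_chunks _ D.n K₂ sz₂ hK₂ h2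
  rw [List.all_eq_true] at e1 e2
  unfold chkUnkLt at hunk
  rw [List.all_eq_true] at hunk
  apply chkCertX_of_parts D C h0
  · intro i hi
    exact e1 i (List.mem_range.mpr hi)
  · intro c hc
    have := hunk c (List.mem_range.mpr hc)
    rwa [decide_eq_true_eq] at this
  · intro b hb
    exact e2 b (List.mem_range.mpr hb)
  · exact hrel

end Cfsg.Agent.Lib.Helper6.StemX
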