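import Cfsg.Agent.Lib.Helper6.Mult.PM4
import Cfsg.Agent.Lib.Helper6.Mult.PM6
import Cfsg.Agent.Lib.Helper6.Mult.PM7
import Cfsg.Agent.Lib.Helper6.Mult.PM8
import Cfsg.Agent.Lib.Helper6.Mult.PMSgn
import Cfsg.Agent.Lib.Helper6.Mult.PM13
import Cfsg.Agent.Lib.Helper6.MultD.SP8X
import Cfsg.Agent.Lib.Helper6.MultD.SP8SGS
import Cfsg.Agent.Lib.Helper6.MultD.SP8Ap2L
import Cfsg.Agent.Lib.Helper6.MultD.SP8Ap2S
import Cfsg.Agent.Lib.Helper6.MultD.SP8Ap2H
import Cfsg.Agent.Lib.Helper6.MultD.SP8Bp2L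
import Cfsg.Agent.Lib.Helper6.MultD.SP8Bp2S
import Cfsg.Agent.Lib.Helper6.MultD.SP8Bp2HP
import Cfsg.Agent.Lib.Helper6.MultD.SP8Cp2L
import Cfsg.Agent.Lib.Helper6.MultD.SP8Cp2S
import Cfsg.Agent.Lib.Helper6.MultD.SP8Cp2H

set_option autoImplicit false
set_option maxRecDepth 100000

/-! # The group `Sp8(2)`: the stabilizer `O8-(2)` of a set of 119 points, its subgroup `Ω8-(2)`,
the stabilizer `L2(16):2` of a set of 51 points in this one, its subgroup `L2(16)`, and the
stabilizer `D34` of a set of 17 points in that one -/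

namespace Cfsg.Agent.Lib.Helper6.Sp8Mu

open Cfsg.Agent.Lib.Helper6.TC Cfsg.Agent.Lib.Helper6.TCD Cfsg.Agent.Lib.Helper6.PM
open Cfsg.Agent.Lib.Helper6.MultD Cfsg.Agent.Lib.Helper6.Sp8
open Cfsg.Agent.Lib.Helper1 Cfsg.Agent.Lib.Helper1.MatCode Cfsg.Agent.Lib.Helper1.StemSA

open scoped Pointwise commutatorElement

theorem card_sp8Model : Nat.card sp8Model.G = 47377612800 := card_G8

/-- the stability of the set of a mask under a table -/
theorem fix_of_chk (M : PModel) (w : List ℕ) (hw : ∀ c ∈ w, c < M.nl) (tab : ℕ → ℕ)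
    (htab : ∀ q < M.n, wapp M.px w q = tab q) (a : ℕ)
    (h : ((List.range M.n).all fun q => a.testBit q == a.testBit (tab q)) = true) :
    M.elt w ∈ MulAction.stabilizer M.G (maskSet M a) := by
  rw [MulAction.mem_stabilizer_iff]
  simp only [List.all_eq_true, List.mem_range, beq_iff_eq] at h
  exact elt_smul_maskSet M w hw tab htab a a h

/-! ## The stabilizer of the first of the 120 sets, and the subgroup `Ω8-(2)` -/

/-- the stabilizer of the first set, a group `O8-(2)` -/
noncomputable abbrev KA : Subgroup sp8Model.G :=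
  MulAction.stabilizer sp8Model.G (ptS sp8Model masksSP8Ap2 0)

theorem card_KA : Nat.card KA = 394813440 := by
  have h := card_stab_sets sp8Model DSP8Ap2 chk_structSP8Ap2 wsSP8Ap2 pmSP8Ap2 lwSP8Ap2 coreSP8Ap2
    (by decide) masksSP8Ap2 chk_setsSP8Ap2 chk_distinctSP8Ap2
  rw [card_sp8Model] at h
  have e : DSP8Ap2.m = 120 := rfl
  rw [e] at h
  change Nat.card KA * 120 = 47377612800 at h
  omega

/-- the subgroup `Ω8-(2)` -/
noncomputable abbrev O1 : Subgroup sp8Model.G := PM.subH sp8Model wsSP8OM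

theorem wsO_lt (i : ℕ) (hi : i < wsSP8OM.length) : ∀ c ∈ wsSP8OM.getD i [], c < sp8Model.nl := by
  apply tabSP8OM.1
  rw [List.getD_eq_getElem _ _ hi]
  exact List.getElem_mem _

theorem O1_le_KA : O1 ≤ KA := by
  unfold O1 PM.subH
  rw [Subgroup.closure_le]
  rintro _ ⟨i, hi, rfl⟩
  have hi' : i < 2 := hi
  have h := chk_fixASP8
  rw [List.all_eq_true] at h
  exact fix_of_chk sp8Model _ (wsO_lt i hi) (pmSP8OM i) (tabSP8OM.2 i hi) _
    (h i (List.mem_range.mpr hi'))

/-- the first letter of the presentation, a reflection in the stabilizer -/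
noncomputable def gr : sp8Model.G := sp8Model.elt [0]

theorem gr_lt : ∀ c ∈ [0], c < sp8Model.nl := by
  intro c hc
  rw [List.mem_singleton] at hc
  rw [hc]
  show 0 < 9
  norm_num

theorem gr_mem_KA : gr ∈ KA :=
  fix_of_chk sp8Model [0] gr_lt (Sp8.px 0) (fun _ _ => rfl) _ chk_fixArSP8

theorem gr_mul_self : gr * gr = 1 := by
  show Sp8.elt [0] * Sp8.elt [0] = 1
  simp [Sp8.elt, gen_mul_self]

theorem wsSG_getD (i : ℕ) (hi : i < 2) : wsSP8SG.getD i [] = wsSP8OM.getD i [] := by
  interval_cases i <;> rfl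

theorem subSG_le : PM.subH sp8Model wsSP8SG ≤
    MulAction.stabilizer sp8Model.G (family sp8Model masksSP8SG 765) := by
  apply subH_le_stabilizer_family sp8Model wsSP8SG pmSP8SG masksSP8SG 765 piSP8SG tabSP8SG
  · intro i hi
    have hi' : i < 3 := hi
    apply chkSets_of_B
    interval_cases i
    · exact chk_setsSP8SG_0
    · exact chk_setsSP8SG_1
    · exact chk_setsSP8SG_2
  · intro i hi j hj
    have h := chk_piSP8SG
    simp only [List.all_eq_true, List.mem_range, decide_eq_true_eq] at h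
    exact h i hi j hj

theorem eltSG_mem (i : ℕ) (hi : i < 3) : sp8Model.elt (wsSP8SG.getD i []) ∈
    MulAction.stabilizer sp8Model.G (family sp8Model masksSP8SG 765) := by
  apply subSG_le
  exact Subgroup.subset_closure ⟨i, hi, rfl⟩

/-- the reflection is not in the subgroup `Ω8-(2)`: it acts on the 765 maximal totally singular
subspaces as an odd permutation -/
theorem gr_not_mem_O1 : gr ∉ O1 := by
  unfold O1 PM.subH
  apply Cfsg.Agent.Lib.Carve.Sgn.not_mem_closure_of_odd_involution
    (family sp8Model masksSP8SG 765) (Set.toFinite _) _ ?_ gr (eltSG_mem 2 (by norm_num))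
    gr_mul_self 315 (by decide) ?_
  · rintro g ⟨i, hi, rfl⟩
    have hi' : i < 2 := hi
    refine ⟨?_, 3, by decide, ?_⟩
    · rw [← wsSG_getD i hi']
      exact eltSG_mem i (by omega)
    · have h := chk_ab3SP8
      simp only [List.all_eq_true, List.mem_range, beq_iff_eq, wappS_eq] at h
      have hlt := wsO_lt i hi
      have e3 : sp8Model.elt (wsSP8OM.getD i [] ++ wsSP8OM.getD i [] ++ wsSP8OM.getD i []) =
          sp8Model.elt [] := by
        apply sp8Model.elt_eq_of_wapp
        · intro c hc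
          simp only [List.mem_append] at hc
          rcases hc with (hc | hc) | hc <;> exact hlt c hc
        · intro c hc
          simp at hc
        · intro q hq
          exact h i hi' q hq
      rw [sp8Model.elt_append, sp8Model.elt_append, sp8Model.elt_nil] at e3
      rw [pow_succ, pow_two]
      exact e3
  · have hc := ncard_moved_family sp8Model masksSP8SG 765 chk_distinctSP8SG gr (piSP8SG 2) ?_ ?_
    · rw [hc]
      have e := card_filter_range_eq 765 (fun j => piSP8SG 2 j != j)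
      have e2 : ((Finset.range 765).filter fun j => piSP8SG 2 j ≠ j) =
          ((Finset.range 765).filter fun j => (piSP8SG 2 j != j) = true) := by
        apply Finset.filter_congr
        intro x _
        simp
      rw [e2, e, chk_countSP8SG]
    · intro j hj
      have h := elt_smul_ptS sp8Model wsSP8SG pmSP8SG masksSP8SG 765 piSP8SG tabSP8SG ?_ 2
        (by decide) j hj
      · exact h
      · intro i hi
        have hi' : i < 3 := hi
        apply chkSets_of_B
        interval_cases i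
        · exact chk_setsSP8SG_0
        · exact chk_setsSP8SG_1
        · exact chk_setsSP8SG_2
    · intro j hj
      have h := chk_piSP8SG
      simp only [List.all_eq_true, List.mem_range, decide_eq_true_eq] at h
      exact h 2 (by norm_num) j hj

theorem O1_ne_KA : O1 ≠ KA := by
  intro h
  apply gr_not_mem_O1
  rw [h]
  exact gr_mem_KA

/-! ## The stabilizer of the first of the 24192 sets in the subgroup `Ω8-(2)`, and the subgroup
`L2(16)` -/

/-- the stabilizer of the first set, a group `L2(16):2` -/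
noncomputable abbrev KB : Subgroup sp8O.G := MulAction.stabilizer sp8O.G (ptS sp8O masksSP8Bp2 0)

theorem card_KB_mul : Nat.card KB * 24192 = Nat.card sp8O.G :=
  card_stab_sets sp8O DSP8Bp2 chk_structSP8Bp2 wsSP8Bp2 pmSP8Bp2 lwSP8Bp2 coreSP8Bp2
    (by decide) masksSP8Bp2 chk_setsSP8Bp2 chk_distinctSP8Bp2

/-- the subgroup `L2(16)` -/
noncomputable abbrev L1 : Subgroup sp8O.G := PM.subH sp8O wsSP8LM

theorem wsL_lt (i : ℕ) (hi : i < wsSP8LM.length) : ∀ c ∈ wsSP8LM.getD i [], c < sp8O.nl := by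
  apply tabSP8LM.1
  rw [List.getD_eq_getElem _ _ hi]
  exact List.getElem_mem _

theorem L1_le_KB : L1 ≤ KB := by
  unfold L1 PM.subH
  rw [Subgroup.closure_le]
  rintro _ ⟨i, hi, rfl⟩
  have hi' : i < 2 := hi
  have h := chk_fixBSP8
  rw [List.all_eq_true] at h
  exact fix_of_chk sp8O _ (wsL_lt i hi) (pmSP8LM i) (tabSP8LM.2 i hi) _
    (h i (List.mem_range.mpr hi'))

/-- an element of the stabilizer which is not in the subgroup `L2(16)` -/
noncomputable def gt : sp8O.G := sp8O.elt (wsSP8TM.getD 0 [])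

theorem gt_lt : ∀ c ∈ wsSP8TM.getD 0 [], c < sp8O.nl := by
  apply tabSP8TM.1
  rw [List.getD_eq_getElem _ _ (by decide)]
  exact List.getElem_mem _

theorem gt_mem_KB : gt ∈ KB :=
  fix_of_chk sp8O _ gt_lt (pmSP8TM 0) (tabSP8TM.2 0 (by decide)) _ chk_fixBtSP8

theorem L1_le_fam : L1 ≤ MulAction.stabilizer sp8O.G (family sp8O masksSP8Cp2 120) := by
  apply subH_le_stabilizer_family sp8O wsSP8LM pmSP8LM masksSP8Cp2 120 DSP8Cp2.pi tabSP8LM
  · intro i hi
    have hi' : i < 2 := hi
    apply chkSets_of_B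
    interval_cases i
    · exact chk_famSP8_0
    · exact chk_famSP8_1
  · intro i hi j hj
    have h := chk_piFSP8
    simp only [List.all_eq_true, List.mem_range, decide_eq_true_eq] at h
    exact h i hi j hj

theorem gt_not_mem_fam : gt ∉ MulAction.stabilizer sp8O.G (family sp8O masksSP8Cp2 120) := by
  have h := chk_cmSP8
  simp only [List.all_eq_true, List.mem_range, beq_iff_eq] at h
  have h2 := chk_cmneSP8
  simp only [List.all_eq_true, List.mem_range, bne_iff_ne, ne_eq] at h2
  apply not_mem_stabilizer_family sp8O masksSP8Cp2 120 gt cmSP8 (by norm_num)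
  · exact elt_smul_maskSet sp8O _ gt_lt (pmSP8TM 0) (tabSP8TM.2 0 (by decide)) _ _
      (fun q hq => h q hq)
  · intro j hj
    exact h2 j hj

theorem L1_ne_KB : L1 ≠ KB := by
  intro h
  apply gt_not_mem_fam
  apply L1_le_fam
  rw [h]
  exact gt_mem_KB

/-! ## The stabilizer of the first of the 120 sets in the subgroup `L2(16)` -/

/-- the stabilizer of the first set, a dihedral group of order 34 -/
noncomputable abbrev KC : Subgroup sp8L.G := MulAction.stabilizer sp8L.G (ptS sp8L masksSP8Cp2 0)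

theorem card_KC_mul : Nat.card KC * 120 = Nat.card sp8L.G :=
  card_stab_sets sp8L DSP8Cp2 chk_structSP8Cp2 wsSP8Cp2 pmSP8Cp2 lwSP8Cp2 coreSP8Cp2
    (by decide) masksSP8Cp2 chk_setsSP8Cp2 chk_distinctSP8Cp2

theorem wsCE_lt (i : ℕ) (hi : i < wsSP8CE.length) : ∀ c ∈ wsSP8CE.getD i [], c < sp8L.nl := by
  apply tabSP8CE.1
  rw [List.getD_eq_getElem _ _ hi]
  exact List.getElem_mem _

/-- an involution of the stabilizer -/
noncomputable def gc : sp8L.G := sp8L.elt (wsSP8CE.getD 0 [])

/-- an element of order 17 of the stabilizer -/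
noncomputable def g17 : sp8L.G := sp8L.elt (wsSP8CE.getD 1 [])

theorem gCE_mem_KC (i : ℕ) (hi : i < 2) : sp8L.elt (wsSP8CE.getD i []) ∈ KC := by
  have h := chk_fixCSP8
  rw [List.all_eq_true] at h
  exact fix_of_chk sp8L _ (wsCE_lt i hi) (pmSP8CE i) (tabSP8CE.2 i hi) _
    (h i (List.mem_range.mpr hi))

/-- an element of a model which moves a point is not trivial -/
theorem elt_ne_one_of_tab (M : PModel) (w : List ℕ) (hw : ∀ c ∈ w, c < M.nl) (tab : ℕ → ℕ)
    (htab : ∀ q < M.n, wapp M.px w q = tab q) (p : ℕ) (hp : p < M.n) (h : tab p ≠ p) :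
    M.elt w ≠ 1 := by
  intro h1
  have h3 := M.inv_elt_smul_val w hw ⟨p, hp⟩
  rw [h1, inv_one, one_smul, htab p hp] at h3
  exact h h3.symm

theorem elt_eq_one_of_chk (M : PModel) (w : List ℕ) (hw : ∀ c ∈ w, c < M.nl)
    (h : ((List.range M.n).all fun q => wappS M.px w q == q) = true) : M.elt w = 1 := by
  simp only [List.all_eq_true, List.mem_range, beq_iff_eq, wappS_eq] at h
  rw [← M.elt_nil]
  apply M.elt_eq_of_wapp w [] hw (by simp)
  intro q hq
  rw [h q hq]
  rfl

theorem orderOf_gc : orderOf gc = 2 := by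
  apply orderOf_eq_prime
  · rw [pow_two]
    show sp8L.elt (wsSP8CE.getD 0 []) * sp8L.elt (wsSP8CE.getD 0 []) = 1
    rw [← sp8L.elt_append]
    apply elt_eq_one_of_chk sp8L
    · intro c hc
      rw [List.mem_append] at hc
      rcases hc with hc | hc <;> exact wsCE_lt 0 (by decide) c hc
    · exact chk_c2SP8
  · exact elt_ne_one_of_tab sp8L _ (wsCE_lt 0 (by decide)) (pmSP8CE 0)
      (tabSP8CE.2 0 (by decide)) _ (by decide) chk_neSP8.1

theorem orderOf_g17 : orderOf g17 = 17 := by
  haveI : Fact (Nat.Prime 17) := ⟨by norm_num⟩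
  apply orderOf_eq_prime
  · have e : g17 = sp8L.elt [0, 1] := rfl
    rw [e, ← PMG.elt_flatten_replicate]
    apply elt_eq_one_of_chk sp8L
    · apply PMG.lt_flatten_replicate
      intro c hc
      simp only [List.mem_cons, List.not_mem_nil, or_false] at hc
      rcases hc with rfl | rfl
      · show 0 < 2
        norm_num
      · show 1 < 2
        norm_num
    · exact chk_g17SP8
  · exact elt_ne_one_of_tab sp8L _ (wsCE_lt 1 (by decide)) (pmSP8CE 1)
      (tabSP8CE.2 1 (by decide)) _ (by decide) chk_neSP8.2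

theorem gc_mem_KC : gc ∈ KC := gCE_mem_KC 0 (by norm_num)

theorem g17_mem_KC : g17 ∈ KC := gCE_mem_KC 1 (by norm_num)

theorem dvd_card_KC : 34 ∣ Nat.card KC := by
  have h2 : orderOf (⟨gc, gc_mem_KC⟩ : KC) = 2 := by
    rw [Subgroup.orderOf_mk]
    exact orderOf_gc
  have h17 : orderOf (⟨g17, g17_mem_KC⟩ : KC) = 17 := by
    rw [Subgroup.orderOf_mk]
    exact orderOf_g17
  have d2 : 2 ∣ Nat.card KC := by
    rw [← h2]
    exact orderOf_dvd_natCard _
  have d17 : 17 ∣ Nat.card KC := by
    rw [← h17]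
    exact orderOf_dvd_natCard _
  exact Nat.Coprime.mul_dvd_of_dvd_of_dvd (by norm_num) d2 d17

/-! ## The orders -/

theorem cards : Nat.card KC = 34 ∧ Nat.card ↥L1 = 4080 ∧ Nat.card KB = 8160 ∧
    Nat.card ↥O1 = 197406720 := by
  have hB := card_KB_mul
  have hC := card_KC_mul
  have eO : Nat.card sp8O.G = Nat.card ↥O1 := rfl
  have eL : Nat.card sp8L.G = Nat.card ↥L1 := rfl
  rw [eO] at hB
  rw [eL] at hC
  obtain ⟨a, ha⟩ : Nat.card ↥O1 ∣ Nat.card KA := Subgroup.card_dvd_of_le O1_le_KA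
  obtain ⟨b, hb⟩ : Nat.card ↥L1 ∣ Nat.card KB := Subgroup.card_dvd_of_le L1_le_KB
  obtain ⟨j, hj⟩ := dvd_card_KC
  have h3 : a ≠ 1 := by
    intro h
    rw [h, mul_one] at ha
    exact O1_ne_KA (Subgroup.eq_of_le_of_card_ge O1_le_KA ha.le)
  have h4 : b ≠ 1 := by
    intro h
    rw [h, mul_one] at hb
    exact L1_ne_KB (Subgroup.eq_of_le_of_card_ge L1_le_KB hb.le)
  rw [card_KA] at ha
  have hP : 98703360 * (j * a * b) = 98703360 * 4 := by
    have : (394813440 : ℕ) = ((34 * j * 120) * b * 24192) * a := by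
      rw [ha, ← hB, hb, ← hC, hj]
    rw [show (98703360 : ℕ) * 4 = 394813440 from rfl, this]
    ring
  obtain ⟨rfl, rfl, rfl⟩ := PMG.prod_eq_four j a b (Nat.eq_of_mul_eq_mul_left (by norm_num) hP)
    h3 h4
  refine ⟨by omega, by omega, by omega, by omega⟩

theorem card_KC : Nat.card KC = 34 := cards.1

theorem card_L1 : Nat.card ↥L1 = 4080 := cards.2.1

theorem card_KB : Nat.card KB = 8160 := cards.2.2.1

theorem card_O1 : Nat.card ↥O1 = 197406720 := cards.2.2.2

end Cfsg.Agent.Lib.Helper6.Sp8Mu
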