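import Cfsg.Agent.Lib.Helper6.Mult.Sp8B
import Cfsg.Agent.Lib.Lead.CarveV4
import Cfsg.Agent.Lib.Helper6.MultD.SP8Ep3L
import Cfsg.Agent.Lib.Helper6.MultD.SP8Ep3S
import Cfsg.Agent.Lib.Helper6.MultD.SP8Ep3H
import Cfsg.Agent.Lib.Helper6.MultD.SP8Fp3L
import Cfsg.Agent.Lib.Helper6.MultD.SP8Fp3S
import Cfsg.Agent.Lib.Helper6.MultD.SP8Fp3H
import Cfsg.Agent.Lib.Helper6.MultD.SP8Gp3L
import Cfsg.Agent.Lib.Helper6.MultD.SP8Gp3S
import Cfsg.Agent.Lib.Helper6.MultD.SP8Gp3H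
import Cfsg.Agent.Lib.Helper6.MultD.SP8HL
import Cfsg.Agent.Lib.Helper6.MultD.SP8HS
import Cfsg.Agent.Lib.Helper6.MultD.SP8HH

set_option autoImplicit false
set_option maxRecDepth 100000

/-! # The group `Sp8(2)`: the subgroups are perfect, the quotients of order two, and the chain
`Ω8-(2) > 2^6:U4(2) > U4(2)` of stabilizers -/

namespace Cfsg.Agent.Lib.Helper6.Sp8Mu

open Cfsg.Agent.Lib.Helper6.TC Cfsg.Agent.Lib.Helper6.TCD Cfsg.Agent.Lib.Helper6.PM
open Cfsg.Agent.Lib.Helper6.MultD Cfsg.Agent.Lib.Helper6.Sp8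
open Cfsg.Agent.Lib.Helper1 Cfsg.Agent.Lib.Helper1.MatCode Cfsg.Agent.Lib.Helper1.StemSA

open scoped Pointwise commutatorElement

/-! ## The subgroups `L2(16)` and `Ω8-(2)` are perfect -/

theorem L1_perfect : commutator ↥L1 = ⊤ := by
  show commutator sp8L.G = ⊤
  have hx := chk_x3SP8
  have hy := chk_y5SP8
  have hxy := chk_g17SP8
  simp only [List.all_eq_true, List.mem_range, beq_iff_eq, wappS_eq] at hx hy hxy
  exact PMG.perfect_of_two_letters sp8L rfl 3 5 17 hx hy hxy (by norm_num) (by norm_num)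
    (by norm_num)

theorem O1_perfect : commutator ↥O1 = ⊤ := by
  show commutator sp8O.G = ⊤
  have h1 := chk_r1SP8
  have h2 := chk_r2SP8
  simp only [List.all_eq_true, List.mem_range, beq_iff_eq, wappS_eq] at h1 h2
  apply perfect_of_two_rels (gs sp8O wsSP8Bp2)
    (hgen sp8O DSP8Bp2 wsSP8Bp2 pmSP8Bp2 lwSP8Bp2 coreSP8Bp2) 3 ?_
    ([0, 1, 0, 1, 0, 1, 0, 1, 0, 1, 0, 1, 0, 1, 0, 1], [])
    ([0, 1, 0, 1, 1, 0, 1, 0, 1, 1, 0, 1, 0, 1, 1, 0, 1, 0, 1, 1, 0, 1, 0, 1, 1, 0, 1, 0, 1, 1,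
      0, 1, 0, 1, 1, 0, 1, 0, 1, 1], []) (by decide) (by decide) ?_ ?_ (by decide)
  · intro i hi
    have h := hpow sp8O DSP8Bp2 wsSP8Bp2 pmSP8Bp2 lwSP8Bp2 coreSP8Bp2 i hi
    interval_cases i
    · exact h
    · exact h
  · rw [wordProd_nil]
    exact eq_one_of_pm sp8O DSP8Bp2 wsSP8Bp2 pmSP8Bp2 lwSP8Bp2 coreSP8Bp2 _ (by decide) h1
  · rw [wordProd_nil]
    exact eq_one_of_pm sp8O DSP8Bp2 wsSP8Bp2 pmSP8Bp2 lwSP8Bp2 coreSP8Bp2 _ (by decide) h2

/-! ## The quotients of order two -/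

theorem exists_quotA : ∃ (Q : Type) (_ : Group Q) (_ : IsCyclic Q) (q : KA →* Q),
    Function.Surjective q ∧ Nat.card Q = 2 ^ 1 ∧ ∀ k : KA, q k = 1 ↔ (k : sp8Model.G) ∈ O1 :=
  exists_quot_two KA O1 O1_le_KA (by rw [card_KA, card_O1])

theorem exists_quotB : ∃ (Q : Type) (_ : Group Q) (_ : IsCyclic Q) (q : KB →* Q),
    Function.Surjective q ∧ Nat.card Q = 2 ^ 1 ∧ ∀ k : KB, q k = 1 ↔ (k : sp8O.G) ∈ L1 :=
  exists_quot_two KB L1 L1_le_KB (by rw [card_KB, card_L1])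

theorem KA_eq3 : KA = MulAction.stabilizer sp8Model.G (ptS sp8Model masksSP8Ap3 0) := by
  unfold KA ptS
  rw [chk_masks0SP8.1]

theorem KA_eq5 : KA = MulAction.stabilizer sp8Model.G (ptS sp8Model masksSP8Ap5 0) := by
  unfold KA ptS
  rw [chk_masks0SP8.2]

/-- the trivial quotient of a subgroup by itself -/
theorem exists_quot_one {G : Type} [Group G] (K H : Subgroup G) (h : H = K) :
    ∃ (Q : Type) (_ : Group Q) (_ : IsCyclic Q) (q : K →* Q),
      ∀ k : K, q k = 1 ↔ (k : G) ∈ H := by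
  refine ⟨Unit, inferInstance, isCyclic_of_subsingleton, 1, ?_⟩
  intro k
  rw [h]
  exact ⟨fun _ => k.2, fun _ => rfl⟩

/-! ## The chain of stabilizers -/

/-- the stabilizer of the first of the 119 points in the subgroup `Ω8-(2)`, a group `2^6:U4(2)` -/
noncomputable abbrev KE : Subgroup sp8O.G := MulAction.stabilizer sp8O.G (ptS sp8O masksSP8Ep3 0)

theorem card_KE_mul : Nat.card KE * 119 = Nat.card sp8O.G :=
  card_stab_sets sp8O DSP8Ep3 chk_structSP8Ep3 wsSP8Ep3 pmSP8Ep3 lwSP8Ep3 coreSP8Ep3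
    (by decide) masksSP8Ep3 chk_setsSP8Ep3 chk_distinctSP8Ep3

/-- the subgroup `2^6:U4(2)` -/
noncomputable abbrev P1 : Subgroup sp8O.G := PM.subH sp8O wsSP8PM

theorem wsP_lt (i : ℕ) (hi : i < wsSP8PM.length) : ∀ c ∈ wsSP8PM.getD i [], c < sp8O.nl := by
  apply tabSP8PM.1
  rw [List.getD_eq_getElem _ _ hi]
  exact List.getElem_mem _

theorem P1_le_KE : P1 ≤ KE := by
  unfold P1 PM.subH
  rw [Subgroup.closure_le]
  rintro _ ⟨i, hi, rfl⟩
  have hi' : i < 2 := hi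
  have h := chk_fixESP8
  rw [List.all_eq_true] at h
  exact fix_of_chk sp8O _ (wsP_lt i hi) (pmSP8PM i) (tabSP8PM.2 i hi) _
    (h i (List.mem_range.mpr hi'))

/-- the stabilizer of the first of the 64 points in the subgroup `2^6:U4(2)`, a group `U4(2)` -/
noncomputable abbrev KF : Subgroup sp8P.G := MulAction.stabilizer sp8P.G (ptS sp8P masksSP8Fp3 0)

theorem card_KF_mul : Nat.card KF * 64 = Nat.card sp8P.G :=
  card_stab_sets sp8P DSP8Fp3 chk_structSP8Fp3 wsSP8Fp3 pmSP8Fp3 lwSP8Fp3 coreSP8Fp3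
    (by decide) masksSP8Fp3 chk_setsSP8Fp3 chk_distinctSP8Fp3

/-- the subgroup `U4(2)` -/
noncomputable abbrev U1 : Subgroup sp8P.G := PM.subH sp8P wsSP8UM

theorem wsU_lt (i : ℕ) (hi : i < wsSP8UM.length) : ∀ c ∈ wsSP8UM.getD i [], c < sp8P.nl := by
  apply tabSP8UM.1
  rw [List.getD_eq_getElem _ _ hi]
  exact List.getElem_mem _

theorem U1_le_KF : U1 ≤ KF := by
  unfold U1 PM.subH
  rw [Subgroup.closure_le]
  rintro _ ⟨i, hi, rfl⟩
  have hi' : i < 2 := hi
  have h := chk_fixFSP8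
  rw [List.all_eq_true] at h
  exact fix_of_chk sp8P _ (wsU_lt i hi) (pmSP8UM i) (tabSP8UM.2 i hi) _
    (h i (List.mem_range.mpr hi'))

/-- the stabilizer of the first of the 405 sets in the subgroup `U4(2)`, of order 64 -/
noncomputable abbrev KG : Subgroup sp8U.G := MulAction.stabilizer sp8U.G (ptS sp8U masksSP8Gp3 0)

theorem card_KG_mul : Nat.card KG * 405 = Nat.card sp8U.G :=
  card_stab_sets sp8U DSP8Gp3 chk_structSP8Gp3 wsSP8Gp3 pmSP8Gp3 lwSP8Gp3 coreSP8Gp3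
    (by decide) masksSP8Gp3 chk_setsSP8Gp3 chk_distinctSP8Gp3

/-- the stabilizer of the first of the 720 pairs in the subgroup `U4(2)`, of order 36 -/
noncomputable abbrev KH : Subgroup sp8U.G := MulAction.stabilizer sp8U.G (ptS sp8U masksSP8H 0)

theorem card_KH_mul : Nat.card KH * 720 = Nat.card sp8U.G :=
  card_stab_sets sp8U DSP8H chk_structSP8H wsSP8H pmSP8H lwSP8H coreSP8H
    (by decide) masksSP8H chk_setsSP8H chk_distinctSP8H

theorem wsHE_lt (i : ℕ) (hi : i < wsSP8HE.length) : ∀ c ∈ wsSP8HE.getD i [], c < sp8U.nl := by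
  apply tabSP8HE.1
  rw [List.getD_eq_getElem _ _ hi]
  exact List.getElem_mem _

/-- the first involution of the stabilizer of the first pair -/
noncomputable def ha : sp8U.G := sp8U.elt (wsSP8HE.getD 0 [])

/-- the second involution of the stabilizer of the first pair -/
noncomputable def hb : sp8U.G := sp8U.elt (wsSP8HE.getD 1 [])

theorem gHE_mem_KH (i : ℕ) (hi : i < 2) : sp8U.elt (wsSP8HE.getD i []) ∈ KH := by
  have h := chk_fixHSP8
  rw [List.all_eq_true] at h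
  exact fix_of_chk sp8U _ (wsHE_lt i hi) (pmSP8HE i) (tabSP8HE.2 i hi) _
    (h i (List.mem_range.mpr hi))

theorem ha_mem_KH : ha ∈ KH := gHE_mem_KH 0 (by norm_num)

theorem hb_mem_KH : hb ∈ KH := gHE_mem_KH 1 (by norm_num)

theorem invH_facts : ha * ha = 1 ∧ hb * hb = 1 ∧ ha * hb = hb * ha := by
  have h := chk_invHSP8
  simp only [List.all_eq_true, List.mem_range, beq_iff_eq, wappS_eq, Bool.and_eq_true] at h
  have l0 := wsHE_lt 0 (by decide)
  have l1 := wsHE_lt 1 (by decide)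
  refine ⟨?_, ?_, ?_⟩
  · show sp8U.elt (wsSP8HE.getD 0 []) * sp8U.elt (wsSP8HE.getD 0 []) = 1
    rw [← sp8U.elt_append, ← sp8U.elt_nil]
    apply sp8U.elt_eq_of_wapp
    · intro c hc
      rw [List.mem_append] at hc
      rcases hc with hc | hc <;> exact l0 c hc
    · intro c hc
      simp at hc
    · intro q hq
      exact (h q hq).1.1
  · show sp8U.elt (wsSP8HE.getD 1 []) * sp8U.elt (wsSP8HE.getD 1 []) = 1
    rw [← sp8U.elt_append, ← sp8U.elt_nil]
    apply sp8U.elt_eq_of_wapp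
    · intro c hc
      rw [List.mem_append] at hc
      rcases hc with hc | hc <;> exact l1 c hc
    · intro c hc
      simp at hc
    · intro q hq
      exact (h q hq).1.2
  · show sp8U.elt (wsSP8HE.getD 0 []) * sp8U.elt (wsSP8HE.getD 1 []) =
      sp8U.elt (wsSP8HE.getD 1 []) * sp8U.elt (wsSP8HE.getD 0 [])
    rw [← sp8U.elt_append, ← sp8U.elt_append]
    apply sp8U.elt_eq_of_wapp
    · intro c hc
      rw [List.mem_append] at hc
      rcases hc with hc | hc
      · exact l0 c hc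
      · exact l1 c hc
    · intro c hc
      rw [List.mem_append] at hc
      rcases hc with hc | hc
      · exact l1 c hc
      · exact l0 c hc
    · intro q hq
      exact (h q hq).2

theorem neH_facts : ha ≠ 1 ∧ hb ≠ 1 ∧ ha ≠ hb := by
  have h := chk_neHSP8
  have lt4 : 4 < sp8U.n := by
    show (4 : ℕ) < 256
    norm_num
  have lt8 : 8 < sp8U.n := by
    show (8 : ℕ) < 256
    norm_num
  have i0 : 0 < wsSP8HE.length := by
    show 0 < 2
    norm_num
  have i1 : 1 < wsSP8HE.length := by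
    show 1 < 2
    norm_num
  refine ⟨?_, ?_, ?_⟩
  · exact elt_ne_one_of_tab sp8U _ (wsHE_lt 0 i0) (pmSP8HE 0) (tabSP8HE.2 0 i0) 4 lt4 h.1
  · exact elt_ne_one_of_tab sp8U _ (wsHE_lt 1 i1) (pmSP8HE 1) (tabSP8HE.2 1 i1) 8 lt8 h.2.1
  · intro e
    have h3 := sp8U.inv_elt_smul_val _ (wsHE_lt 0 i0) ⟨4, lt4⟩
    have h4 := sp8U.inv_elt_smul_val _ (wsHE_lt 1 i1) ⟨4, lt4⟩
    rw [tabSP8HE.2 0 i0 4 lt4] at h3
    rw [tabSP8HE.2 1 i1 4 lt4] at h4
    have e' : sp8U.elt (wsSP8HE.getD 0 []) = sp8U.elt (wsSP8HE.getD 1 []) := e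
    rw [e'] at h3
    exact h.2.2 (h3.symm.trans h4)

theorem four_dvd_card_KH : 4 ∣ Nat.card KH := by
  obtain ⟨a2, b2, hc⟩ := invH_facts
  obtain ⟨a1, b1, hab⟩ := neH_facts
  apply Cfsg.Agent.Lib.Carve.V4.four_dvd_card_of_commuting_involutions
    (⟨ha, ha_mem_KH⟩ : KH) (⟨hb, hb_mem_KH⟩ : KH)
  · intro h
    exact a1 ((Subgroup.mk_eq_one _).mp h)
  · intro h
    exact b1 ((Subgroup.mk_eq_one _).mp h)
  · intro h
    exact hab (Subtype.mk.inj h)
  · exact Subtype.ext a2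
  · exact Subtype.ext b2
  · exact Subtype.ext hc

/-! ## The orders -/

/-- the arithmetic behind the orders of the chain -/
theorem chain_arith (x f y g h b c : ℕ) (hE : 1658880 = x * b) (hF : f * 64 = x) (hc : f = y * c)
    (hG : g * 405 = y) (hH : h * 720 = y) (h4 : 4 ∣ h) :
    x = 1658880 ∧ f = 25920 ∧ y = 25920 ∧ g = 64 ∧ h = 36 := by
  obtain ⟨h', rfl⟩ := h4
  have h9 : 9 ∣ h' := by
    have : (9 : ℕ) ∣ 64 * h' := by
      refine ⟨g, ?_⟩
      omega
    exact (Nat.Coprime.dvd_of_dvd_mul_left (by norm_num) this)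
  obtain ⟨m, rfl⟩ := h9
  have hy : y = 25920 * m := by omega
  subst hy
  have hf : f = 25920 * (m * c) := by rw [hc]; ring
  subst hf
  have hx : x = 1658880 * (m * c) := by omega
  subst hx
  have hP : 1658880 * (m * c * b) = 1658880 * 1 := by
    rw [mul_one]
    calc 1658880 * (m * c * b) = 1658880 * (m * c) * b := by ring
      _ = 1658880 := hE.symm
  have h1 : m * c * b = 1 := Nat.eq_of_mul_eq_mul_left (by norm_num) hP
  have hmc : m * c = 1 := Nat.eq_one_of_mul_eq_one_right h1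
  have hm : m = 1 := Nat.eq_one_of_mul_eq_one_right hmc
  subst hm
  rw [hmc]
  refine ⟨by norm_num, by norm_num, by norm_num, by omega, by omega⟩

theorem card_KE : Nat.card KE = 1658880 := by
  have h := card_KE_mul
  have e : Nat.card sp8O.G = 197406720 := card_O1
  rw [e] at h
  omega

theorem cardsE : Nat.card ↥P1 = 1658880 ∧ Nat.card KF = 25920 ∧ Nat.card ↥U1 = 25920 ∧
    Nat.card KG = 64 ∧ Nat.card KH = 36 := by
  have hF := card_KF_mul
  have hG := card_KG_mul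
  have hH := card_KH_mul
  have eP : Nat.card sp8P.G = Nat.card ↥P1 := rfl
  have eU : Nat.card sp8U.G = Nat.card ↥U1 := rfl
  rw [eP] at hF
  rw [eU] at hG hH
  obtain ⟨b, hb⟩ : Nat.card ↥P1 ∣ Nat.card KE := Subgroup.card_dvd_of_le P1_le_KE
  obtain ⟨c, hc⟩ : Nat.card ↥U1 ∣ Nat.card KF := Subgroup.card_dvd_of_le U1_le_KF
  rw [card_KE] at hb
  exact chain_arith _ _ _ _ _ b c hb hF hc hG hH four_dvd_card_KH

theorem card_P1 : Nat.card ↥P1 = 1658880 := cardsE.1

theorem card_KF : Nat.card KF = 25920 := cardsE.2.1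

theorem card_U1 : Nat.card ↥U1 = 25920 := cardsE.2.2.1

theorem card_KG : Nat.card KG = 64 := cardsE.2.2.2.1

theorem P1_eq_KE : P1 = KE :=
  Subgroup.eq_of_le_of_card_ge P1_le_KE (by rw [card_KE, card_P1])

theorem U1_eq_KF : U1 = KF :=
  Subgroup.eq_of_le_of_card_ge U1_le_KF (by rw [card_KF, card_U1])

/-! ## The subgroups `2^6:U4(2)` and `U4(2)` are perfect -/

theorem P1_perfect : commutator ↥P1 = ⊤ := by
  show commutator sp8P.G = ⊤
  have hx := chk_P0SP8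
  have hy := chk_P1SP8
  have hxy := chk_P2SP8
  simp only [List.all_eq_true, List.mem_range, beq_iff_eq, wappS_eq] at hx hy hxy
  exact PMG.perfect_of_two_letters sp8P rfl 5 4 9 hx hy hxy (by norm_num) (by norm_num)
    (by norm_num)

theorem U1_perfect : commutator ↥U1 = ⊤ := by
  show commutator sp8U.G = ⊤
  have hx := chk_U0SP8
  have hy := chk_U1SP8
  have hxy := chk_U2SP8
  simp only [List.all_eq_true, List.mem_range, beq_iff_eq, wappS_eq] at hx hy hxy
  exact PMG.perfect_of_two_letters sp8U rfl 9 4 5 hx hy hxy (by norm_num) (by norm_num)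
    (by norm_num)

end Cfsg.Agent.Lib.Helper6.Sp8Mu
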