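import Cfsg.Agent.Lib.Helper6.Mult.Sp8C
import Cfsg.Agent.Lib.Helper6.Mult.StemX3
import Cfsg.Agent.Lib.Helper6.MultD.SP8Ap2I
import Cfsg.Agent.Lib.Helper6.MultD.SP8Ap3L
import Cfsg.Agent.Lib.Helper6.MultD.SP8Ap3S
import Cfsg.Agent.Lib.Helper6.MultD.SP8Ap5L
import Cfsg.Agent.Lib.Helper6.MultD.SP8Ap5S
import Cfsg.Agent.Lib.Helper6.MultD.SP8Ap3I
import Cfsg.Agent.Lib.Helper6.MultD.SP8Ap5I
import Cfsg.Agent.Lib.Helper6.MultD.SP8Bp2I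
import Cfsg.Agent.Lib.Helper6.MultD.SP8Cp2I
import Cfsg.Agent.Lib.Helper6.MultD.SP8Ep3I
import Cfsg.Agent.Lib.Helper6.MultD.SP8Fp3I
import Cfsg.Agent.Lib.Helper6.MultD.SP8Gp3I
import Cfsg.Agent.Lib.Helper1.Stem14
import Cfsg.Agent.Lib.Helper1.Stem17
import Cfsg.Agent.Lib.Helper1.Stem21

set_option autoImplicit false
set_option maxRecDepth 100000

/-! # The stem extensions of the group `Sp8(2)` are trivial -/

namespace Cfsg.Agent.Lib.Helper6.Sp8Mu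

open Cfsg.Agent.Lib.Helper6.TC Cfsg.Agent.Lib.Helper6.TCD Cfsg.Agent.Lib.Helper6.PM
open Cfsg.Agent.Lib.Helper6.MultD Cfsg.Agent.Lib.Helper6.Sp8
open Cfsg.Agent.Lib.Helper1 Cfsg.Agent.Lib.Helper1.MatCode Cfsg.Agent.Lib.Helper1.StemSA

open scoped Pointwise

universe u

theorem hordAll : (∀ i < DSP8Ap2.k, Nat.Coprime (DSP8Ap2.ords.getD i 0) 2) ∧
    (∀ i < DSP8Ap3.k, Nat.Coprime (DSP8Ap3.ords.getD i 0) 3) ∧
    (∀ i < DSP8Ap5.k, Nat.Coprime (DSP8Ap5.ords.getD i 0) 5) ∧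
    (∀ i < DSP8Bp2.k, Nat.Coprime (DSP8Bp2.ords.getD i 0) 2) ∧
    (∀ i < DSP8Cp2.k, Nat.Coprime (DSP8Cp2.ords.getD i 0) 2) ∧
    (∀ i < DSP8Ep3.k, Nat.Coprime (DSP8Ep3.ords.getD i 0) 3) ∧
    (∀ i < DSP8Fp3.k, Nat.Coprime (DSP8Fp3.ords.getD i 0) 3) ∧
    (∀ i < DSP8Gp3.k, Nat.Coprime (DSP8Gp3.ords.getD i 0) 3) :=
  ⟨PMG.hord_of_chk _ _ (by decide +kernel), PMG.hord_of_chk _ _ (by decide +kernel),
    PMG.hord_of_chk _ _ (by decide +kernel), PMG.hord_of_chk _ _ (by decide +kernel),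
    PMG.hord_of_chk _ _ (by decide +kernel), PMG.hord_of_chk _ _ (by decide +kernel),
    PMG.hord_of_chk _ _ (by decide +kernel), PMG.hord_of_chk _ _ (by decide +kernel)⟩

theorem esAll : CSP8Ap2.es.sum = 1 ∧ CSP8Ap3.es.sum = 0 ∧ CSP8Ap5.es.sum = 0 ∧
    CSP8Bp2.es.sum = 1 ∧ CSP8Cp2.es.sum = 1 ∧ CSP8Ep3.es.sum = 0 ∧ CSP8Fp3.es.sum = 0 ∧
    CSP8Gp3.es.sum = 0 := by
  decide +kernel

/-! ## The prime 2 -/

theorem L_bound2 (Γ' : Type u) [Group Γ'] [Finite Γ'] (σ' : Γ' →* ↥L1)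
    (hσ' : Cfsg.IsStemExtension σ') (hk : IsPGroup 2 σ'.ker) : Nat.card σ'.ker ≤ 1 := by
  have : Fact (Nat.Prime 2) := ⟨Nat.prime_two⟩
  have hco : orderOf (⟨gc, gc_mem_KC⟩ : KC) = 2 ^ 1 := by
    rw [Subgroup.orderOf_mk, pow_one]
    exact orderOf_gc
  obtain ⟨N, hN, hNc, hQ⟩ := exists_normal_compl_two (K := KC) 1 17 (by norm_num)
    (by norm_num) (card_KC.trans (by norm_num)) ⟨gc, gc_mem_KC⟩ hco
  have h : Nat.card σ'.ker * 2 ^ 1 ≤ 2 ^ CSP8Cp2.es.sum := bound_sets_powP.{u} sp8L 2 DSP8Cp2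
    CSP8Cp2 rfl chk_certSP8Cp2 chk_structSP8Cp2 wsSP8Cp2 pmSP8Cp2 lwSP8Cp2 coreSP8Cp2 (by decide)
    hordAll.2.2.2.2.1 masksSP8Cp2 chk_setsSP8Cp2 chk_distinctSP8Cp2 1 17 (by norm_num)
    (by norm_num) KC rfl (card_KC.trans (by norm_num)) ⟨gc, gc_mem_KC⟩ hco N hNc hQ Γ' σ' hσ' hk
  rw [esAll.2.2.2.2.1] at h
  omega

theorem O_bound2 (Γ' : Type u) [Group Γ'] [Finite Γ'] (σ' : Γ' →* ↥O1)
    (hσ' : Cfsg.IsStemExtension σ') (hk : IsPGroup 2 σ'.ker) : Nat.card σ'.ker ≤ 1 := by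
  have : Fact (Nat.Prime 2) := ⟨Nat.prime_two⟩
  obtain ⟨Q, iQ, iC, q, hq, hQ, hker⟩ := exists_quotB
  have h : Nat.card σ'.ker * 2 ^ 1 ≤ 2 ^ CSP8Bp2.es.sum * 1 := bound_sets_n2V.{u} sp8O 2 DSP8Bp2
    CSP8Bp2.es.sum (StemX.valsBound_of_certX.{u} DSP8Bp2 CSP8Bp2 chk_certSP8Bp2) chk_structSP8Bp2
    wsSP8Bp2 pmSP8Bp2 lwSP8Bp2 coreSP8Bp2 (by decide)
    hordAll.2.2.2.1 masksSP8Bp2 chk_setsSP8Bp2 chk_distinctSP8Bp2 KB rfl q hq 1 hQ L1 L1_le_KB hker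
    L1_perfect 1 L_bound2 Γ' σ' hσ' hk
  rw [esAll.2.2.2.1] at h
  omega

theorem bound2 (Γ : Type u) [Group Γ] [Finite Γ] (σ : Γ →* sp8Model.G)
    (hσ : Cfsg.IsStemExtension σ) (hk : IsPGroup 2 σ.ker) : Nat.card σ.ker ≤ 1 := by
  have : Fact (Nat.Prime 2) := ⟨Nat.prime_two⟩
  obtain ⟨Q, iQ, iC, q, hq, hQ, hker⟩ := exists_quotA
  have h : Nat.card σ.ker * 2 ^ 1 ≤ 2 ^ CSP8Ap2.es.sum * 1 := bound_sets_n2.{u} sp8Model 2 DSP8Ap2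
    CSP8Ap2 rfl chk_certSP8Ap2 chk_structSP8Ap2 wsSP8Ap2 pmSP8Ap2 lwSP8Ap2 coreSP8Ap2 (by decide)
    hordAll.1 masksSP8Ap2 chk_setsSP8Ap2 chk_distinctSP8Ap2 KA rfl q hq 1 hQ O1 O1_le_KA
    hker O1_perfect 1 O_bound2 Γ σ hσ hk
  rw [esAll.1] at h
  omega

/-! ## The prime 3 -/

theorem U_bound3 (Γ' : Type u) [Group Γ'] [Finite Γ'] (σ' : Γ' →* ↥U1)
    (hσ' : Cfsg.IsStemExtension σ') (hk : IsPGroup 3 σ'.ker) : Nat.card σ'.ker ≤ 1 := by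
  have : Fact (Nat.Prime 3) := ⟨Nat.prime_three⟩
  have h : Nat.card σ'.ker * 3 ^ 0 ≤ 3 ^ CSP8Gp3.es.sum := bound_sets_powP.{u} sp8U 3 DSP8Gp3
    CSP8Gp3 rfl chk_certSP8Gp3 chk_structSP8Gp3 wsSP8Gp3 pmSP8Gp3 lwSP8Gp3 coreSP8Gp3 (by decide)
    hordAll.2.2.2.2.2.2.2 masksSP8Gp3 chk_setsSP8Gp3 chk_distinctSP8Gp3 0 64 (by norm_num)
    (by norm_num) KG rfl (card_KG.trans (by norm_num)) 1 (by rw [orderOf_one, pow_zero]) ⊤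
    (by rw [Subgroup.card_top, card_KG]) PMG.comm_quot_top Γ' σ' hσ' hk
  rw [esAll.2.2.2.2.2.2.2] at h
  omega

theorem P_bound3 (Γ' : Type u) [Group Γ'] [Finite Γ'] (σ' : Γ' →* ↥P1)
    (hσ' : Cfsg.IsStemExtension σ') (hk : IsPGroup 3 σ'.ker) : Nat.card σ'.ker ≤ 1 := by
  have : Fact (Nat.Prime 3) := ⟨Nat.prime_three⟩
  obtain ⟨Q, iQ, iC, q, hker⟩ := exists_quot_one KF U1 U1_eq_KF
  have h : Nat.card σ'.ker ≤ 3 ^ CSP8Fp3.es.sum * 1 := bound_sets_cyc.{u} sp8P 3 DSP8Fp3 CSP8Fp3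
    rfl chk_certSP8Fp3 chk_structSP8Fp3 wsSP8Fp3 pmSP8Fp3 lwSP8Fp3 coreSP8Fp3 (by decide)
    hordAll.2.2.2.2.2.2.1 masksSP8Fp3 chk_setsSP8Fp3 chk_distinctSP8Fp3 KF rfl q U1 U1_le_KF hker
    U1_perfect 1 U_bound3 Γ' σ' hσ' hk
  rw [esAll.2.2.2.2.2.2.1] at h
  omega

theorem O_bound3 (Γ' : Type u) [Group Γ'] [Finite Γ'] (σ' : Γ' →* ↥O1)
    (hσ' : Cfsg.IsStemExtension σ') (hk : IsPGroup 3 σ'.ker) : Nat.card σ'.ker ≤ 1 := by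
  have : Fact (Nat.Prime 3) := ⟨Nat.prime_three⟩
  obtain ⟨Q, iQ, iC, q, hker⟩ := exists_quot_one KE P1 P1_eq_KE
  have h : Nat.card σ'.ker ≤ 3 ^ CSP8Ep3.es.sum * 1 := bound_sets_cyc.{u} sp8O 3 DSP8Ep3 CSP8Ep3
    rfl chk_certSP8Ep3 chk_structSP8Ep3 wsSP8Ep3 pmSP8Ep3 lwSP8Ep3 coreSP8Ep3 (by decide)
    hordAll.2.2.2.2.2.1 masksSP8Ep3 chk_setsSP8Ep3 chk_distinctSP8Ep3 KE rfl q P1 P1_le_KE hker
    P1_perfect 1 P_bound3 Γ' σ' hσ' hk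
  rw [esAll.2.2.2.2.2.1] at h
  omega

theorem bound3 (Γ : Type u) [Group Γ] [Finite Γ] (σ : Γ →* sp8Model.G)
    (hσ : Cfsg.IsStemExtension σ) (hk : IsPGroup 3 σ.ker) : Nat.card σ.ker ≤ 1 := by
  have : Fact (Nat.Prime 3) := ⟨Nat.prime_three⟩
  obtain ⟨Q, iQ, iC, q, hq, hQ, hker⟩ := exists_quotA
  have h : Nat.card σ.ker ≤ 3 ^ CSP8Ap3.es.sum * 1 := bound_sets_cyc.{u} sp8Model 3 DSP8Ap3
    CSP8Ap3 rfl chk_certSP8Ap3 chk_structSP8Ap3 wsSP8Ap3 pmSP8Ap3 lwSP8Ap3 coreSP8Ap3 (by decide)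
    hordAll.2.1 masksSP8Ap3 chk_setsSP8Ap3 chk_distinctSP8Ap3 KA KA_eq3 q O1 O1_le_KA
    hker O1_perfect 1 O_bound3 Γ σ hσ hk
  rw [esAll.2.1] at h
  omega

/-! ## The prime 5 -/

theorem O_bound5 (Γ' : Type u) [Group Γ'] [Finite Γ'] (σ' : Γ' →* ↥O1)
    (hσ' : Cfsg.IsStemExtension σ') (hk : IsPGroup 5 σ'.ker) : Nat.card σ'.ker ≤ 1 := by
  have : Fact (Nat.Prime 5) := ⟨by norm_num⟩
  have h1 : Nat.card σ'.ker = 1 := by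
    apply Stem.card_ker_eq_one_of_not_sq_dvd σ' hσ' 5 hk
    rw [card_O1]
    norm_num
  rw [h1]

theorem bound5 (Γ : Type u) [Group Γ] [Finite Γ] (σ : Γ →* sp8Model.G)
    (hσ : Cfsg.IsStemExtension σ) (hk : IsPGroup 5 σ.ker) : Nat.card σ.ker ≤ 1 := by
  have : Fact (Nat.Prime 5) := ⟨by norm_num⟩
  obtain ⟨Q, iQ, iC, q, hq, hQ, hker⟩ := exists_quotA
  have h : Nat.card σ.ker ≤ 5 ^ CSP8Ap5.es.sum * 1 := bound_sets_cyc.{u} sp8Model 5 DSP8Ap5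
    CSP8Ap5 rfl chk_certSP8Ap5 chk_structSP8Ap5 wsSP8Ap5 pmSP8Ap5 lwSP8Ap5 coreSP8Ap5 (by decide)
    hordAll.2.2.1 masksSP8Ap5 chk_setsSP8Ap5 chk_distinctSP8Ap5 KA KA_eq5 q O1 O1_le_KA
    hker O1_perfect 1 O_bound5 Γ σ hσ hk
  rw [esAll.2.2.1] at h
  omega

/-! ## The multiplier -/

theorem not_sq_dvd (p : ℕ) (hp : p.Prime) (h2 : p ≠ 2) (h3 : p ≠ 3) (h5 : p ≠ 5) :
    ¬ p * p ∣ 47377612800 := by
  intro h
  have hd : p ∣ 47377612800 := dvd_trans (dvd_mul_right p p) h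
  have e : (47377612800 : ℕ) = 2 ^ 16 * 3 ^ 5 * 5 ^ 2 * 7 * 17 := by norm_num
  rw [e] at hd
  rcases (Nat.Prime.dvd_mul hp).mp hd with hd | hd
  · rcases (Nat.Prime.dvd_mul hp).mp hd with hd | hd
    · rcases (Nat.Prime.dvd_mul hp).mp hd with hd | hd
      · rcases (Nat.Prime.dvd_mul hp).mp hd with hd | hd
        · exact h2 ((Nat.prime_dvd_prime_iff_eq hp Nat.prime_two).mp (hp.dvd_of_dvd_pow hd))
        · exact h3 ((Nat.prime_dvd_prime_iff_eq hp Nat.prime_three).mp (hp.dvd_of_dvd_pow hd))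
      · exact h5 ((Nat.prime_dvd_prime_iff_eq hp Nat.prime_five).mp (hp.dvd_of_dvd_pow hd))
    · have := (Nat.prime_dvd_prime_iff_eq hp (by norm_num : Nat.Prime 7)).mp hd
      subst this
      norm_num at h
  · have := (Nat.prime_dvd_prime_iff_eq hp (by norm_num : Nat.Prime 17)).mp hd
    subst this
    norm_num at h

/-- the kernel of a stem extension of the group is trivial -/
theorem hub (Γ : Type u) [Group Γ] [Finite Γ] (σ : Γ →* sp8Model.G)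
    (hσ : Cfsg.IsStemExtension σ) : IsCyclic σ.ker ∧ Nat.card σ.ker ∣ 1 := by
  have hd : Nat.card σ.ker ∣ 1 := by
    apply Stem.card_dvd_of_primary σ 1 (by norm_num) ?_ hσ
    intro p hp Γ' _ _ σ' hσ' hk
    have hpos : 0 < Nat.card σ'.ker := Nat.card_pos
    by_cases h2 : p = 2
    · subst h2
      have h1 : Nat.card σ'.ker ≤ 1 := bound2 Γ' σ' hσ' hk
      have e : Nat.card σ'.ker = 1 := by omega
      rw [e]
    · by_cases h3 : p = 3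
      · subst h3
        have h1 : Nat.card σ'.ker ≤ 1 := bound3 Γ' σ' hσ' hk
        have e : Nat.card σ'.ker = 1 := by omega
        rw [e]
      · by_cases h5 : p = 5
        · subst h5
          have h1 : Nat.card σ'.ker ≤ 1 := bound5 Γ' σ' hσ' hk
          have e : Nat.card σ'.ker = 1 := by omega
          rw [e]
        · have h1 : Nat.card σ'.ker = 1 := by
            apply Stem.card_ker_eq_one_of_not_sq_dvd σ' hσ' p hk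
            rw [card_sp8Model]
            exact not_sq_dvd p hp.out h2 h3 h5
          rw [h1]
  refine ⟨?_, hd⟩
  have : Subsingleton σ.ker := (Nat.card_eq_one_iff_unique.mp (Nat.dvd_one.mp hd)).1
  exact isCyclic_of_subsingleton

/-- the trivial stem extension -/
theorem exists_cover : ∃ (Γ₀ : Type) (_ : Group Γ₀) (_ : Finite Γ₀) (σ : Γ₀ →* sp8Model.G),
    Cfsg.IsStemExtension σ ∧ IsCyclic σ.ker ∧ Nat.card σ.ker = 1 := by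
  have e : (MonoidHom.id sp8Model.G).ker = ⊥ := by
    ext x
    simp
  refine ⟨sp8Model.G, inferInstance, inferInstance, MonoidHom.id sp8Model.G,
    ⟨Function.surjective_id, ?_, ?_⟩, ?_, ?_⟩
  · rw [e]
    exact bot_le
  · rw [e]
    exact bot_le
  · rw [e]
    infer_instance
  · rw [e]
    exact Subgroup.card_bot

end Cfsg.Agent.Lib.Helper6.Sp8Mu
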