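import Mathlib
import Cfsg.Agent.Lib.Helper1.StemZP7

set_option autoImplicit false

/-! Labelled actions with labels in a finite commutative `2`-group: a certificate in which every
unknown outside the tree is either a column of a square system with an explicit right inverse
modulo `2`, whose rows are packed bit by bit and combined by exclusive disjunction, or is eliminated
by one equation whose other unknowns are columns or edges of the tree. -/

namespace Cfsg.Agent.Lib.Helper6.StemX

open Finset Cfsg.Agent.Lib.Helper1 Cfsg.Agent.Lib.Helper1.MatCode Cfsg.Agent.Lib.Helper1.Stem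
  Cfsg.Agent.Lib.Helper1.StemSA Cfsg.Agent.Lib.Helper1.StemZLin Cfsg.Agent.Lib.Helper1.StemLin
  Cfsg.Agent.Lib.Helper1.StemZA Cfsg.Agent.Lib.Helper1.StemZC Cfsg.Agent.Lib.Helper1.StemZD
  Cfsg.Agent.Lib.Helper1.StemZE Cfsg.Agent.Lib.Helper1.StemZP

/-- the certificate: the exponent of the modulus of the relations, the number of columns, the
distinguished unknowns with the exponents of their relations, the equations, the unknowns of the
columns with the table of their positions, the equations eliminating the other unknowns, the rows
of the right inverse, and one combination modulo `2 ^ s` for each distinguished unknown -/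
structure XCert where
  s : ℕ
  N : ℕ
  bs : List ℕ
  es : List ℕ
  specs : ℕ → ℕ × ℕ
  unk : ℕ → ℕ
  colT : ℕ → ℕ
  wit : ℕ → ℕ × ℕ
  R : ℕ → ℕ
  rel : List (List ((ℕ × ℕ) × ℕ))

namespace XCert

variable (C : XCert)

/-- the position of an unknown, plus one; zero for the unknowns that are not columns -/
def colOf (b : ℕ) : ℕ := C.colT b

/-- the column of an unknown that is a column or an edge of the tree -/
def col0 (b : ℕ) : List ℕ := if C.colOf b = 0 then [] else [C.colOf b - 1]

/-- the row of a column -/
def rowR (c : ℕ) : ℕ := if c < C.N then C.R c else 0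

/-- the exclusive disjunction of the rows of a list of columns -/
def xorL (l : List ℕ) : ℕ := l.foldr (fun c acc => C.rowR c ^^^ acc) 0

/-- the certificate of the relations -/
def toP : ZPCert := ⟨2, C.s, C.bs, C.es, [], C.rel⟩

end XCert

variable (D : SAData) (C : XCert)

/-- the unknown is an edge of the tree, or a column -/
def okDirect (b : ℕ) : Bool :=
  (C.colOf b == 0 && isTree D b) ||
    (decide (0 < C.colOf b) && decide (C.colOf b ≤ C.N) && (C.unk (C.colOf b - 1) == b))

/-- the unknowns of the equation eliminating an unknown -/
def witL (b : ℕ) : List ℕ := posL D (C.wit b) ++ negL D (C.wit b)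

/-- the other unknowns of the equation eliminating an unknown -/
def others (b : ℕ) : List ℕ := (witL D C b).filter fun c => c != b

/-- the unknown is eliminated -/
def isElim (b : ℕ) : Bool := (C.colOf b == 0) && !(isTree D b)

/-- the columns of an unknown -/
def colsU (b : ℕ) : List ℕ :=
  if isElim D C b then (others D C b).flatMap C.col0 else C.col0 b

/-- the check of an unknown -/
def chkUnk (b : ℕ) : Bool :=
  okDirect D C b ||
    ((C.colOf b == 0) && D.chkSpec (C.wit b) && chkRangeS D (C.wit b) &&
      ((witL D C b).count b % 2 == 1) && ((others D C b).all (okDirect D C)))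

/-- the columns of the equation `i` -/
def eqX (i : ℕ) : List ℕ :=
  if i < C.N - C.bs.length then
    (posL D (C.specs i) ++ negL D (C.specs i)).flatMap (colsU D C)
  else [C.colOf (C.bs.getD (i - (C.N - C.bs.length)) 0) - 1]

/-- the check of the row `i` of the product -/
def chkRowX (i : ℕ) : Bool := C.xorL (eqX D C i) == 2 ^ i

/-- the check of the certificate -/
def chkCertX : Bool :=
  decide (C.bs.length ≤ C.N) &&
  ((List.range (C.N - C.bs.length)).all fun i => D.chkSpec (C.specs i)) &&
  ((List.range (C.N - C.bs.length)).all fun i => chkRangeS D (C.specs i)) &&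
  (C.bs.all fun b => decide (b < D.n) && decide (0 < C.colOf b) && okDirect D C b) &&
  ((List.range C.N).all fun c => decide (C.unk c < D.n)) &&
  ((List.range D.n).all (chkUnk D C)) &&
  ((List.range C.N).all (chkRowX D C)) &&
  (C.es.length == C.bs.length) && (C.es.all fun e => decide (e < C.s)) &&
  ((List.range C.bs.length).all fun j =>
    chkRel D C.toP (C.rel.getD j []) (C.bs.getD j 0) (C.es.getD j 0))

section bits

/-- the bit of the exclusive disjunction of a list of rows is the parity of the sum of the bits -/
theorem testBit_xorL (C : XCert) (l : List ℕ) (j : ℕ) :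
    (l.map fun c => if (C.rowR c).testBit j then 1 else 0).sum % 2 =
      if (C.xorL l).testBit j then 1 else 0 := by
  induction l with
  | nil => simp [XCert.xorL]
  | cons c l ih =>
    have e : C.xorL (c :: l) = C.rowR c ^^^ C.xorL l := rfl
    rw [List.map_cons, List.sum_cons, e, Nat.testBit_xor, Nat.add_mod, ih]
    by_cases h1 : (C.rowR c).testBit j <;> by_cases h2 : (C.xorL l).testBit j <;> simp [h1, h2]

end bits

section lists

variable {Q : Type*} [AddCommGroup Q]

/-- the sum over a list, separating the occurrences of one element -/
theorem sum_map_filter_ne (w : ℕ → Q) (b : ℕ) (l : List ℕ) :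
    (l.map w).sum = (l.count b) • w b + ((l.filter fun c => c != b).map w).sum := by
  induction l with
  | nil => simp
  | cons c l ih =>
    by_cases h : c = b
    · subst h
      have e : ((c :: l).filter fun x => x != c) = l.filter fun x => x != c := by
        simp
      rw [List.map_cons, List.sum_cons, ih, List.count_cons_self, e, succ_nsmul]
      abel
    · have e : ((c :: l).filter fun x => x != b) = c :: l.filter fun x => x != b := by
        simp [h]
      have e2 : (c :: l).count b = l.count b := by
        rw [List.count_cons]
        simp [h]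
      rw [List.map_cons, List.sum_cons, ih, e2, e, List.map_cons, List.sum_cons]
      abel

/-- the sum over a list obtained by replacing each element by a list -/
theorem sum_map_flatMap (u : ℕ → Q) (f : ℕ → List ℕ) (l : List ℕ) :
    ((l.flatMap f).map u).sum = (l.map fun b => ((f b).map u).sum).sum := by
  induction l with
  | nil => simp
  | cons c l ih =>
    rw [List.flatMap_cons, List.map_append, List.sum_append, ih, List.map_cons, List.sum_cons]

/-- a sum of elements killed by `2` is killed by `2` -/
theorem two_smul_sum_eq_zero (w : ℕ → Q) (l : List ℕ) (h : ∀ b ∈ l, w b + w b = 0) :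
    (l.map w).sum + (l.map w).sum = 0 := by
  induction l with
  | nil => simp
  | cons c l ih =>
    have h1 := h c (by simp)
    have h2 := ih (fun b hb => h b (by simp [hb]))
    rw [List.map_cons, List.sum_cons]
    calc w c + (l.map w).sum + (w c + (l.map w).sum)
        = (w c + w c) + ((l.map w).sum + (l.map w).sum) := by abel
      _ = 0 := by rw [h1, h2, add_zero]

/-- an odd multiple of an element killed by `2` -/
theorem odd_nsmul_of_two (x : Q) (h : x + x = 0) (n : ℕ) (hn : n % 2 = 1) : n • x = x := by
  have e : n = 2 * (n / 2) + 1 := by omega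
  rw [e, succ_nsmul, mul_nsmul, two_nsmul, h, smul_zero, zero_add]

end lists

section sound

variable {M : Type*} [AddCommGroup M]

variable [Finite M] (v : ℕ → M) (hC : chkCertX D C = true)
  (hE : ∀ s : ℕ × ℕ, D.chkSpec s = true → sgnSum v (posL D s) (negL D s) = 0)
include hC hE

theorem cert_valsX (a : ℕ) (h2 : ∀ x : M, ((2 : ℤ) ^ a) • x = 0) :
    ∃ A₀ : AddSubgroup M, (∀ b < D.n, v b ∈ A₀) ∧ Nat.card A₀ ≤ 2 ^ C.es.sum := by
  classical
  unfold chkCertX at hC
  simp only [Bool.and_eq_true, List.all_eq_true, decide_eq_true_eq, beq_iff_eq, List.mem_range]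
    at hC
  obtain ⟨⟨⟨⟨⟨⟨⟨⟨⟨hlen, hsp⟩, hrg⟩, hbs⟩, hunk⟩, hchk⟩, hrow⟩, h8⟩, h9⟩, h10⟩ := hC
  have hrange : ∀ s : ℕ × ℕ, chkRangeS D s = true →
      (∀ b ∈ posL D s, b < D.n) ∧ (∀ b ∈ negL D s, b < D.n) := by
    intro s hs
    unfold chkRangeS at hs
    simp only [Bool.and_eq_true, List.all_eq_true, decide_eq_true_eq] at hs
    exact hs
  set A' : AddSubgroup M := AddSubgroup.closure {x | ∃ b < D.n, x = v b} with hA'
  set Z : AddSubgroup M := AddSubgroup.closure {x | x ∈ C.bs.map v} with hZ
  have hvA : ∀ b < D.n, v b ∈ A' := fun b hb' => AddSubgroup.subset_closure ⟨b, hb', rfl⟩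
  have hvZ : ∀ c ∈ C.bs, v c ∈ Z :=
    fun c hc => AddSubgroup.subset_closure (List.mem_map.mpr ⟨c, hc, rfl⟩)
  have h4 : ∀ b ∈ C.bs, b < D.n := fun b hb => (hbs b hb).1.1
  have h2' : ∀ x : M, (((2 : ℕ) : ℤ) ^ a) • x = 0 := by
    intro x
    have := h2 x
    simpa using this
  have key := card_le_of_gen_rel 2 (by norm_num) a h2' D.n v C.bs h4 ?_ C.s C.es h8 h9 ?_
  · simpa using key
  · -- the generation modulo `2`
    set P := modSub 2 A' Z with hP
    have hZP : Z ≤ P := fun x hx => ⟨0, A'.zero_mem, by rw [smul_zero, sub_zero]; exact hx⟩
    have hpP : ∀ y ∈ A', ((2 : ℕ) : ℤ) • y ∈ P :=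
      fun y hy => ⟨y, hy, by rw [sub_self]; exact Z.zero_mem⟩
    let w : ℕ → M ⧸ P := fun b => QuotientAddGroup.mk (v b)
    let u : ℕ → M ⧸ P := fun c => QuotientAddGroup.mk (v (C.unk c))
    have hw2 : ∀ b < D.n, w b + w b = 0 := by
      intro b hb
      show (QuotientAddGroup.mk (v b) : M ⧸ P) + QuotientAddGroup.mk (v b) = 0
      rw [← QuotientAddGroup.mk_add, QuotientAddGroup.eq_zero_iff]
      have := hpP _ (hvA b hb)
      have e : ((2 : ℕ) : ℤ) • v b = v b + v b := by
        rw [Nat.cast_ofNat, two_zsmul]
      rwa [e] at this
    -- the unknowns of the tree vanish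
    have htree : ∀ b, isTree D b = true → v b = 0 := by
      intro b hb
      unfold isTree at hb
      simp only [Bool.and_eq_true, decide_eq_true_eq, beq_iff_eq] at hb
      obtain ⟨⟨hb1, hb2⟩, hb3⟩ := hb
      have hspec : D.chkSpec (0, D.pi (b / D.m) (b % D.m)) = true := by
        unfold SAData.chkSpec
        simp only [Bool.and_eq_true, decide_eq_true_eq]
        exact ⟨hb2, hb1⟩
      have := hE _ hspec
      unfold sgnSum posL negL at this
      simp only [hb3, List.map_cons, List.map_nil, List.sum_cons, List.sum_nil, add_zero,
        sub_zero] at this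
      rwa [Nat.div_add_mod'] at this
    -- the equations modulo `P`
    have hspecw : ∀ s : ℕ × ℕ, D.chkSpec s = true → chkRangeS D s = true →
        ((posL D s ++ negL D s).map w).sum = 0 := by
      intro s hs hr
      have h1 := hE s hs
      have hr' := hrange s hr
      unfold sgnSum at h1
      have h3 : ((posL D s).map w).sum - ((negL D s).map w).sum = 0 := by
        have e1 : ∀ l : List ℕ, (l.map w).sum = (QuotientAddGroup.mk ((l.map v).sum) : M ⧸ P) := by
          intro l
          induction l with
          | nil => simp
          | cons c l ih =>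
            rw [List.map_cons, List.sum_cons, ih, List.map_cons, List.sum_cons,
              QuotientAddGroup.mk_add]
        rw [e1, e1, ← QuotientAddGroup.mk_sub, h1, QuotientAddGroup.mk_zero]
      have h5 := two_smul_sum_eq_zero w (negL D s) (fun b hb => hw2 b (hr'.2 b hb))
      rw [List.map_append, List.sum_append]
      have h6 : ((negL D s).map w).sum = -((negL D s).map w).sum := eq_neg_of_add_eq_zero_left h5
      rw [h6, ← sub_eq_add_neg]
      exact h3
    -- the unknowns that are columns or edges of the tree
    have hdirect : ∀ b < D.n, okDirect D C b = true →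
        w b = ((C.col0 b).map u).sum ∧ ∀ c ∈ C.col0 b, c < C.N := by
      intro b hb hok
      unfold okDirect at hok
      simp only [Bool.or_eq_true, Bool.and_eq_true, beq_iff_eq, decide_eq_true_eq] at hok
      rcases hok with ⟨h0, ht⟩ | ⟨⟨h0, hN⟩, hu⟩
      · have e : C.col0 b = [] := by unfold XCert.col0; rw [if_pos h0]
        rw [e]
        refine ⟨?_, by simp⟩
        show (QuotientAddGroup.mk (v b) : M ⧸ P) = _
        rw [htree b ht]
        simp
      · have e : C.col0 b = [C.colOf b - 1] := by unfold XCert.col0; rw [if_neg (by omega)]
        rw [e]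
        refine ⟨?_, ?_⟩
        · simp only [List.map_cons, List.map_nil, List.sum_cons, List.sum_nil, add_zero]
          show (QuotientAddGroup.mk (v b) : M ⧸ P) = QuotientAddGroup.mk (v (C.unk (C.colOf b - 1)))
          rw [hu]
        · intro c hc
          rw [List.mem_singleton] at hc
          omega
    -- all the unknowns
    have hcols : ∀ b < D.n, w b = ((colsU D C b).map u).sum ∧ ∀ c ∈ colsU D C b, c < C.N := by
      intro b hb
      have hk := hchk b hb
      unfold chkUnk at hk
      simp only [Bool.or_eq_true, Bool.and_eq_true, beq_iff_eq, List.all_eq_true] at hk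
      by_cases hel : isElim D C b = true
      · -- an eliminated unknown
        have hel' := hel
        unfold isElim at hel'
        simp only [Bool.and_eq_true, beq_iff_eq, Bool.not_eq_true'] at hel'
        obtain ⟨h0, hnt⟩ := hel'
        have hk' : (((C.colOf b = 0 ∧ D.chkSpec (C.wit b) = true) ∧ chkRangeS D (C.wit b) = true) ∧
            (witL D C b).count b % 2 = 1) ∧ ∀ x ∈ others D C b, okDirect D C x = true := by
          rcases hk with hk | hk
          · exfalso
            unfold okDirect at hk
            simp only [Bool.or_eq_true, Bool.and_eq_true, beq_iff_eq, decide_eq_true_eq] at hk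
            rcases hk with ⟨_, ht⟩ | ⟨⟨h0', _⟩, _⟩
            · rw [ht] at hnt; exact absurd hnt (by simp)
            · omega
          · exact hk
        obtain ⟨⟨⟨⟨_, hs⟩, hr⟩, hodd⟩, hoth⟩ := hk'
        have hr' := hrange _ hr
        have hlt : ∀ c ∈ witL D C b, c < D.n := by
          intro c hc
          unfold witL at hc
          rw [List.mem_append] at hc
          rcases hc with hc | hc
          · exact hr'.1 c hc
          · exact hr'.2 c hc
        have hothlt : ∀ c ∈ others D C b, c < D.n := by
          intro c hc
          unfold others at hc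
          exact hlt c (List.mem_of_mem_filter hc)
        have h1 := hspecw _ hs hr
        change ((witL D C b).map w).sum = 0 at h1
        rw [sum_map_filter_ne w b, odd_nsmul_of_two (w b) (hw2 b hb) _ hodd] at h1
        change w b + ((others D C b).map w).sum = 0 at h1
        have h5 := two_smul_sum_eq_zero w (others D C b) (fun c hc => hw2 c (hothlt c hc))
        have h6 : w b = ((others D C b).map w).sum := by
          have h7 : w b = -((others D C b).map w).sum := eq_neg_of_add_eq_zero_left h1
          rw [h7]
          exact (eq_neg_of_add_eq_zero_left h5).symm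
        have e : colsU D C b = (others D C b).flatMap C.col0 := by
          unfold colsU
          rw [if_pos hel]
        rw [e]
        refine ⟨?_, ?_⟩
        · rw [h6, sum_map_flatMap]
          congr 1
          apply List.map_congr_left
          intro c hc
          exact (hdirect c (hothlt c hc) (hoth c hc)).1
        · intro c hc
          rw [List.mem_flatMap] at hc
          obtain ⟨c', hc', hcc⟩ := hc
          exact (hdirect c' (hothlt c' hc') (hoth c' hc')).2 c hcc
      · have e : colsU D C b = C.col0 b := by
          unfold colsU
          rw [if_neg hel]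
        rw [e]
        have hok : okDirect D C b = true := by
          rcases hk with hk | hk
          · exact hk
          · have h0 : C.colOf b = 0 := hk.1.1.1.1
            have ht : isTree D b = true := by
              by_contra hnt
              apply hel
              unfold isElim
              simp only [Bool.and_eq_true, beq_iff_eq, Bool.not_eq_true']
              exact ⟨h0, by simpa using hnt⟩
            unfold okDirect
            simp only [Bool.or_eq_true, Bool.and_eq_true, beq_iff_eq, decide_eq_true_eq]
            exact Or.inl ⟨h0, ht⟩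
        exact hdirect b hb hok
    have hbsmem : ∀ j < C.bs.length, C.bs.getD j 0 ∈ C.bs := by
      intro j hj
      rw [List.getD_eq_getElem _ _ hj]; exact List.getElem_mem _
    -- the columns of the distinguished unknowns
    have hbscol : ∀ b ∈ C.bs, 0 < C.colOf b ∧ C.colOf b ≤ C.N ∧ C.unk (C.colOf b - 1) = b := by
      intro b hb
      obtain ⟨⟨_, h0⟩, hok⟩ := hbs b hb
      unfold okDirect at hok
      simp only [Bool.or_eq_true, Bool.and_eq_true, beq_iff_eq, decide_eq_true_eq] at hok
      rcases hok with ⟨h0', _⟩ | ⟨⟨_, hN⟩, hu⟩
      · omega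
      · exact ⟨h0, hN, hu⟩
    -- all the values of the columns vanish modulo `P`
    have hu0 : ∀ c₀ < C.N, u c₀ = 0 := by
      intro c₀ hc₀
      apply val_eq_zero_of_rightInverseP 2 (by norm_num) C.N (eqX D C) (fun _ => []) ?_ ?_
        (fun c j => if (C.rowR c).testBit j then 1 else 0) ?_ u ?_ ?_ c₀ hc₀
      · intro i hi c hc
        unfold eqX at hc
        by_cases hi' : i < C.N - C.bs.length
        · rw [if_pos hi', List.mem_flatMap] at hc
          obtain ⟨b, hb, hcb⟩ := hc
          have hr := hrange _ (hrg i hi')
          have hbn : b < D.n := by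
            rw [List.mem_append] at hb
            rcases hb with hb | hb
            · exact hr.1 b hb
            · exact hr.2 b hb
          exact (hcols b hbn).2 c hcb
        · rw [if_neg hi', List.mem_singleton] at hc
          have hj : i - (C.N - C.bs.length) < C.bs.length := by omega
          have := hbscol _ (hbsmem _ hj)
          omega
      · intro i _ c hc
        exact absurd hc (by simp)
      · intro i hi j hj
        have hr := hrow i hi
        unfold chkRowX at hr
        rw [beq_iff_eq] at hr
        simp only [List.map_nil, List.sum_nil, Nat.mul_zero, Nat.add_zero]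
        rw [testBit_xorL C (eqX D C i) j, hr, Nat.testBit_two_pow]
        by_cases hij : i = j
        · simp [hij]
        · simp [hij]
      · intro c hc
        show ((2 : ℕ) : ℤ) • (QuotientAddGroup.mk (v (C.unk c)) : M ⧸ P) = 0
        rw [← QuotientAddGroup.mk_zsmul, QuotientAddGroup.eq_zero_iff]
        exact hpP _ (hvA _ (hunk c hc))
      · intro i hi
        unfold sgnSum
        simp only [List.map_nil, List.sum_nil, sub_zero]
        unfold eqX
        by_cases hi' : i < C.N - C.bs.length
        · rw [if_pos hi', sum_map_flatMap]
          have hr := hrange _ (hrg i hi')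
          have e : ((posL D (C.specs i) ++ negL D (C.specs i)).map fun b =>
              ((colsU D C b).map u).sum) = (posL D (C.specs i) ++ negL D (C.specs i)).map w := by
            apply List.map_congr_left
            intro b hb
            have hbn : b < D.n := by
              rw [List.mem_append] at hb
              rcases hb with hb | hb
              · exact hr.1 b hb
              · exact hr.2 b hb
            exact ((hcols b hbn).1).symm
          rw [e]
          exact hspecw _ (hsp i hi') (hrg i hi')
        · rw [if_neg hi']
          simp only [List.map_cons, List.map_nil, List.sum_cons, List.sum_nil, add_zero]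
          have hj : i - (C.N - C.bs.length) < C.bs.length := by omega
          have hm := hbsmem _ hj
          show (QuotientAddGroup.mk (v (C.unk _)) : M ⧸ P) = 0
          rw [(hbscol _ hm).2.2, QuotientAddGroup.eq_zero_iff]
          exact hZP (hvZ _ hm)
    intro b hb
    have hmem : v b ∈ P := by
      have h1 := (hcols b hb).1
      have h3 : ((colsU D C b).map u).sum = 0 := by
        apply List.sum_eq_zero
        intro x hx
        rw [List.mem_map] at hx
        obtain ⟨c, hc, rfl⟩ := hx
        exact hu0 c ((hcols b hb).2 c hc)
      rw [h3] at h1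
      exact (QuotientAddGroup.eq_zero_iff _).mp h1
    exact (mem_modSub 2 A' Z (v b)).mp hmem
  · -- the relations
    intro j hj
    have hb : C.bs.getD j 0 < D.n := by
      apply h4
      rw [List.getD_eq_getElem _ _ hj]; exact List.getElem_mem _
    have hcomb := h10 j hj
    unfold chkRel at hcomb
    simp only [Bool.and_eq_true, List.all_eq_true, decide_eq_true_eq, beq_iff_eq, List.mem_range]
      at hcomb
    obtain ⟨⟨hq, hT⟩, hcols'⟩ := hcomb
    have hys : ∀ q ∈ ((C.rel.getD j []).map fun q : (ℕ × ℕ) × ℕ => ((posL D q.1, negL D q.1), q.2)),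
        (∀ b ∈ q.1.1, b < D.n) ∧ (∀ b ∈ q.1.2, b < D.n) ∧ sgnSum v q.1.1 q.1.2 = 0 ∧
          q.2 ≤ 2 ^ C.s := by
      intro q hq'
      rw [List.mem_map] at hq'
      obtain ⟨q', hq'', rfl⟩ := hq'
      obtain ⟨⟨h11, h12⟩, h13⟩ := hq q' hq''
      exact ⟨(hrange _ h12).1, (hrange _ h12).2, hE _ h11, h13⟩
    obtain ⟨y, hy, hyy⟩ := smul_mem_of_combN (2 ^ C.s) (2 ^ C.es.getD j 0) D.n v
      A' hvA
      ((C.rel.getD j []).map fun q : (ℕ × ℕ) × ℕ => ((posL D q.1, negL D q.1), q.2)) hys
      (C.bs.getD j 0) hb hT hcols'
    refine ⟨y, hy, ?_⟩
    have e1 : (((2 : ℕ) : ℤ) ^ C.es.getD j 0) = ((2 ^ C.es.getD j 0 : ℕ) : ℤ) := by push_cast; rfl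
    have e2 : (((2 : ℕ) : ℤ) ^ C.s) = ((2 ^ C.s : ℕ) : ℤ) := by push_cast; rfl
    rw [e1, e2]
    exact hyy

end sound

end Cfsg.Agent.Lib.Helper6.StemX
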