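import Cfsg.Agent.Lib.Helper6.Mult.StemX1
import Cfsg.Agent.Lib.Helper6.Mult.PM11
import Cfsg.Agent.Lib.Helper6.Mult.PM6

set_option autoImplicit false
set_option maxRecDepth 100000

/-! Labelled actions with labels in a finite commutative `2`-group: the certificate with rows
combined by exclusive disjunction, checked in pieces, and the bound on the kernels of the stem
extensions that it gives for a group with a faithful permutation action given by tables. -/

namespace Cfsg.Agent.Lib.Helper6.StemX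

open Cfsg.Agent.Lib.Helper1 Cfsg.Agent.Lib.Helper1.StemSA Cfsg.Agent.Lib.Helper1.StemZA
  Cfsg.Agent.Lib.Helper1.StemZC Cfsg.Agent.Lib.Helper1.StemZP Cfsg.Agent.Lib.Helper6.TC
  Cfsg.Agent.Lib.Helper6.PM

universe u

variable (D : SAData) (C : XCert)

/-- the check of the row `i`, with its equation -/
def rowOK (i : ℕ) : Bool :=
  (decide (C.N - C.bs.length ≤ i) || (D.chkSpec (C.specs i) && chkRangeS D (C.specs i))) &&
    chkRowX D C i

/-- the small checks of the certificate -/
def chkSmallX : Bool :=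
  decide (C.bs.length ≤ C.N) &&
  (C.bs.all fun b => decide (b < D.n) && decide (0 < C.colOf b) && okDirect D C b) &&
  (C.es.length == C.bs.length) && (C.es.all fun e => decide (e < C.s))

theorem chkCertX_of_parts (h0 : chkSmallX D C = true) (hrows : ∀ i < C.N, rowOK D C i = true)
    (hunk : ∀ c < C.N, C.unk c < D.n) (hchk : ∀ b < D.n, chkUnk D C b = true)
    (hrel : ((List.range C.bs.length).all fun j =>
      chkRel D C.toP (C.rel.getD j []) (C.bs.getD j 0) (C.es.getD j 0)) = true) :
    chkCertX D C = true := by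
  unfold chkSmallX at h0
  simp only [Bool.and_eq_true] at h0
  obtain ⟨⟨⟨h1, h2⟩, h3⟩, h4⟩ := h0
  unfold chkCertX
  simp only [Bool.and_eq_true]
  refine ⟨⟨⟨⟨⟨⟨⟨⟨⟨h1, ?_⟩, ?_⟩, h2⟩, ?_⟩, ?_⟩, ?_⟩, h3⟩, h4⟩, hrel⟩
  · rw [List.all_eq_true]
    intro i hi
    rw [List.mem_range] at hi
    have h := hrows i (by omega)
    unfold rowOK at h
    rw [Bool.and_eq_true, Bool.or_eq_true, decide_eq_true_eq, Bool.and_eq_true] at h
    rcases h.1 with h | h
    · omega
    · exact h.1
  · rw [List.all_eq_true]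
    intro i hi
    rw [List.mem_range] at hi
    have h := hrows i (by omega)
    unfold rowOK at h
    rw [Bool.and_eq_true, Bool.or_eq_true, decide_eq_true_eq, Bool.and_eq_true] at h
    rcases h.1 with h | h
    · omega
    · exact h.2
  · rw [List.all_eq_true]
    intro c hc
    rw [List.mem_range] at hc
    rw [decide_eq_true_eq]
    exact hunk c hc
  · rw [List.all_eq_true]
    intro b hb
    rw [List.mem_range] at hb
    exact hchk b hb
  · rw [List.all_eq_true]
    intro i hi
    rw [List.mem_range] at hi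
    have h := hrows i hi
    unfold rowOK at h
    rw [Bool.and_eq_true] at h
    exact h.2

theorem valsBound_of_certX (hC : chkCertX D C = true) : ValsBound.{u} D 2 C.es.sum :=
  fun _ _ _ v hE a h2 => cert_valsX D C v hC hE a (by simpa using h2)

end Cfsg.Agent.Lib.Helper6.StemX

namespace Cfsg.Agent.Lib.Helper6.PM

open Cfsg.Agent.Lib.Helper6.TC
open Cfsg.Agent.Lib.Helper1 Cfsg.Agent.Lib.Helper1.MatCode Cfsg.Agent.Lib.Helper1.StemSA

open scoped Pointwise

universe u

section

variable (M : PModel) (p : ℕ) [hp : Fact p.Prime] (D : SAData) (E : ℕ)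
  (hV : StemZP.ValsBound.{u} D p E) (hS : D.chkStruct = true)
  (ws : List (List ℕ)) (pm : ℕ → ℕ → ℕ) (lw : List (List ℕ))
  (core : CoreFacts M D ws pm lw) (hm : 0 < D.m)
  (hord : ∀ i < D.k, Nat.Coprime (D.ords.getD i 0) p)
  (masks : ℕ → ℕ)
  (hA : ∀ i < ws.length, chkSets M pm masks D.m D.pi i = true)
  (hD : chkDistinct M masks D.m = true)

include hV hS core hm hord hA hD in
/-- the bound with a perfect normal subgroup of the stabilizer of a set with a cyclic quotient of
order `p ^ n2`, from a bound on the values -/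
theorem bound_sets_n2V (K : Subgroup M.G) (hK : K = MulAction.stabilizer M.G (ptS M masks 0))
    {Q : Type*} [Group Q] [IsCyclic Q] (q : K →* Q) (hq : Function.Surjective q)
    (n2 : ℕ) (hQ : Nat.card Q = p ^ n2)
    (K₁ : Subgroup M.G) (hle : K₁ ≤ K) (hK₁ : ∀ k : K, q k = 1 ↔ (k : M.G) ∈ K₁)
    (hperf : commutator K₁ = ⊤) (t : ℕ)
    (hT : ∀ (Γ' : Type u) [Group Γ'] [Finite Γ'] (σ' : Γ' →* K₁),
      Cfsg.IsStemExtension σ' → IsPGroup p σ'.ker → Nat.card σ'.ker ≤ t)
    (Γ : Type u) [Group Γ] [Finite Γ] (σ : Γ →* M.G) (hσ : Cfsg.IsStemExtension σ)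
    (hk : IsPGroup p σ.ker) : Nat.card σ.ker * p ^ n2 ≤ p ^ E * t := by
  obtain ⟨a, ha⟩ := IsPGroup.iff_card.mp hk
  exact Mult.card_ker_mul_le_pow_mul_vals p D E hV hS hm
    (ptS M masks) (gs M ws) (hgen M D ws pm lw core)
    (fun j hj h => ptS_inj M masks D.m hD j hj 0 hm h)
    (pi_actS M ws pm masks core.2.1 D core.1 hA) (hodd_of_core M p D ws pm lw core hord)
    (hrel M D ws pm lw hS core) K hK q hq n2 hQ K₁ hle hK₁ hperf t hT Γ σ hσ a ha

end

end Cfsg.Agent.Lib.Helper6.PM
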