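import Cfsg.Agent.Lib.Helper6.Mult.PM4
import Cfsg.Agent.Lib.Helper6.Mult.PM6
import Cfsg.Agent.Lib.Helper6.Mult.J2C
import Cfsg.Agent.Lib.Helper6.Simp7
import Cfsg.Agent.Lib.Helper6.WP10
import Cfsg.Agent.Lib.Helper6.MultD.SUZX
import Cfsg.Agent.Lib.Helper6.MultD.SUZTp2L
import Cfsg.Agent.Lib.Helper6.MultD.SUZTp2H
import Cfsg.Agent.Lib.Helper6.MultD.SUZGp2L
import Cfsg.Agent.Lib.Helper6.MultD.SUZGp2H

set_option autoImplicit false
set_option maxRecDepth 100000

/-! # The presented group `Suz`: the stabilizer `G2(4)` of a point, and the subgroup `J2` of it -/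

namespace Cfsg.Agent.Lib.Helper6.SuzMu

open Cfsg.Agent.Lib.Helper6.TC Cfsg.Agent.Lib.Helper6.TCD Cfsg.Agent.Lib.Helper6.PM
open Cfsg.Agent.Lib.Helper6.MultD Cfsg.Agent.Lib.Helper6.SuzM
open Cfsg.Agent.Lib.Helper1 Cfsg.Agent.Lib.Helper1.MatCode Cfsg.Agent.Lib.Helper1.StemSA
open Cfsg.Agent.Lib.Helper6.TCP

open scoped Pointwise

theorem card_suzModel : Nat.card suzModel.G = 448345497600 := SuzM.card_Suz

/-- the stabilizer of the first point, a group `G2(4)` -/
noncomputable abbrev K : Subgroup suzModel.G := MulAction.stabilizer suzModel.G (0 : Fin suzModel.n)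

theorem pt_zero (PL : ℕ → ℕ) (h : PL 0 = 0) : pt suzModel PL 0 = (0 : Fin suzModel.n) := by
  unfold pt
  rw [h]
  rfl

theorem card_K : Nat.card K = 251596800 := by
  have h := card_stab_pts suzModel DSUZTp2 chk_structSUZTp2 wsSUZTp2 pmSUZTp2 lwSUZTp2 coreSUZTp2
    (by decide) PLSUZTp2 PLISUZTp2 chk_ptsSUZTp2
  rw [pt_zero PLSUZTp2 PL_zeroSUZT.1, card_suzModel] at h
  have e : DSUZTp2.m = 1782 := rfl
  rw [e] at h
  change Nat.card K * 1782 = 448345497600 at h
  omega

/-- the subgroup generated by the first six letters -/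
noncomputable abbrev K1 : Subgroup suzModel.G := PM.subH suzModel wsSUZGM

theorem K1_le_K : K1 ≤ K := by
  unfold K1 PM.subH
  rw [Subgroup.closure_le]
  rintro _ ⟨i, hi, rfl⟩
  rw [SetLike.mem_coe, MulAction.mem_stabilizer_iff]
  apply suzModel.elt_smul
  · apply tabSUZGM.1
    rw [List.getD_eq_getElem _ _ hi]
    exact List.getElem_mem _
  · have h := tabSUZGM.2 i hi 0 (by decide)
    rw [fixSUZGM i hi] at h
    exact h

/-! ## The subgroup `J2` of the subgroup `G2(4)` -/

/-- the stabilizer of a point in the subgroup `G2(4)` -/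
noncomputable abbrev KG : Subgroup suzG.G := MulAction.stabilizer suzG.G (pt suzG PLSUZGp2 0)

theorem card_KG_mul : Nat.card KG * 416 = Nat.card suzG.G :=
  card_stab_pts suzG DSUZGp2 chk_structSUZGp2 wsSUZGp2 pmSUZGp2 lwSUZGp2 coreSUZGp2 (by decide)
    PLSUZGp2 PLISUZGp2 chk_ptsSUZGp2

theorem ptG_val : (pt suzG PLSUZGp2 0).val = 995 := by
  unfold pt
  rw [PL_zeroSUZG.1]
  rfl

/-- the first five letters -/
def ws5 : List (List ℕ) := [[0], [1], [2], [3], [4]]

/-- the subgroup generated by the first five letters -/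
noncomputable abbrev K2 : Subgroup suzG.G := PM.subH suzG ws5

theorem ws5_getD (i : ℕ) (hi : i < 5) : ws5.getD i [] = [i] := by
  interval_cases i <;> rfl

theorem K2_le_KG : K2 ≤ KG := by
  unfold K2 PM.subH
  rw [Subgroup.closure_le]
  rintro _ ⟨i, hi, rfl⟩
  have hi' : i < 5 := hi
  rw [SetLike.mem_coe, MulAction.mem_stabilizer_iff, ws5_getD i hi']
  apply suzG.elt_smul
  · intro c hc
    rw [List.mem_singleton] at hc
    rw [hc]
    show i < 6
    omega
  · rw [ptG_val]
    show pmSUZGM i 995 = 995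
    exact fix995SUZGM i hi'

/-- the images of the generators of `J2` -/
noncomputable def fθ (c : ℕ) : suzG.G := suzG.elt [c]

theorem prod_fθ (b : List ℕ) : (b.map fθ).prod = suzG.elt b := by
  induction b with
  | nil => rw [List.map_nil, List.prod_nil, suzG.elt_nil]
  | cons c b ih => rw [List.map_cons, List.prod_cons, ih, suzG.elt_cons c b]; rfl

theorem hrelθ : ∀ b ∈ J2.base, (b.map fθ).prod = 1 := by
  intro b hb
  rw [prod_fθ, ← suzG.elt_nil]
  have h := chk_j2rel
  simp only [List.all_eq_true, List.mem_range, beq_iff_eq, wappS_eq] at h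
  apply suzG.elt_eq_of_wapp b []
  · intro c hc
    have := J2.hbl b hb c hc
    show c < 6
    omega
  · simp
  · intro q hq
    exact h b hb q hq

/-- the map from the presented group `J2` -/
noncomputable def θ : J2.G →* suzG.G := wgHom fθ J2.hbl hrelθ

theorem θ_of (i : Fin 5) : θ (PresentedGroup.mk J2.Rels (FreeGroup.of i)) = suzG.elt [i.val] :=
  wgHom_of fθ J2.hbl hrelθ i

instance simple_J2G : IsSimpleGroup J2.G := by
  haveI := Cfsg.Agent.Lib.Helper4.J2.simple_J2
  exact Cfsg.Agent.Lib.Helper4.J2.isoJ2.symm.isSimpleGroup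

theorem elt_ne_of_wapp (w w' : List ℕ) (hw : ∀ c ∈ w, c < 6) (hw' : ∀ c ∈ w', c < 6) (q : ℕ)
    (hq : q < 1782) (h : wapp pmSUZGM w q ≠ wapp pmSUZGM w' q) : suzG.elt w ≠ suzG.elt w' := by
  intro he
  apply h
  have h1 := suzG.phi_inv_val w hw ⟨q, hq⟩
  have h2 := suzG.phi_inv_val w' hw' ⟨q, hq⟩
  rw [he] at h1
  exact h1.symm.trans h2

theorem θ_injective : Function.Injective θ := by
  apply Cfsg.Agent.Lib.Helper6.Simp.injective_of_simple θ simple_J2G (x := PresentedGroup.mk J2.Rels (FreeGroup.of 0))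
  rw [θ_of, ← suzG.elt_nil]
  apply elt_ne_of_wapp [0] [] (by decide) (by simp) 2 (by decide)
  exact chk_move

theorem range_θ : θ.range = K2 := by
  rw [MonoidHom.range_eq_map, ← PresentedGroup.closure_range_of, MonoidHom.map_closure]
  unfold K2 PM.subH
  congr 1
  ext g
  constructor
  · rintro ⟨_, ⟨i, rfl⟩, rfl⟩
    refine ⟨i.val, i.isLt, ?_⟩
    rw [ws5_getD i.val i.isLt]
    exact θ_of i
  · rintro ⟨i, hi, rfl⟩
    have hi' : i < 5 := hi
    refine ⟨_, ⟨⟨i, hi'⟩, rfl⟩, ?_⟩
    rw [ws5_getD i hi']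
    exact θ_of ⟨i, hi'⟩

/-- the presented group `J2` is the subgroup -/
noncomputable def eθ : J2.G ≃* ↥K2 :=
  (MonoidHom.ofInjective θ_injective).trans (MulEquiv.subgroupCongr range_θ)

theorem card_K2 : Nat.card ↥K2 = 604800 := by
  rw [← Nat.card_congr eθ.toEquiv]
  exact J2Mu.card_j2Model

theorem card_suzG : Nat.card suzG.G = 251596800 := by
  have h1 := card_KG_mul
  have h2 : Nat.card ↥K2 ≤ Nat.card ↥KG := Subgroup.card_le_of_le K2_le_KG
  have h3 : Nat.card ↥K1 ≤ Nat.card ↥K := Subgroup.card_le_of_le K1_le_K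
  have e : Nat.card ↥K1 = Nat.card suzG.G := rfl
  rw [card_K2] at h2
  rw [card_K, e] at h3
  omega

theorem card_KG : Nat.card ↥KG = 604800 := by
  have h1 := card_KG_mul
  rw [card_suzG] at h1
  omega

theorem K1_eq_K : K1 = K :=
  Subgroup.eq_of_le_of_card_ge K1_le_K (by
    rw [card_K]
    exact card_suzG.ge)

theorem K2_eq_KG : K2 = KG :=
  Subgroup.eq_of_le_of_card_ge K2_le_KG (by rw [card_KG, card_K2])

/-! ## The subgroups are perfect -/

theorem J2G_perfect : commutator J2.G = ⊤ := by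
  apply perfect_of_simple (PresentedGroup.mk J2.Rels (FreeGroup.of 0))
    (PresentedGroup.mk J2.Rels (FreeGroup.of 1))
  intro h
  have h1 := congrArg θ h
  rw [map_mul, map_mul, θ_of, θ_of, ← suzG.elt_append, ← suzG.elt_append] at h1
  revert h1
  apply elt_ne_of_wapp _ _ (by decide) (by decide) 1 (by decide)
  have := chk_noncomm
  rw [wappS_eq, wappS_eq] at this
  exact this

theorem K2_perfect : commutator ↥K2 = ⊤ := by
  have h := J2G_perfect
  rw [commutator_def] at h ⊢
  have h1 := Subgroup.map_commutator (⊤ : Subgroup J2.G) ⊤ eθ.toMonoidHom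
  rw [h] at h1
  have h2 : (⊤ : Subgroup J2.G).map eθ.toMonoidHom = ⊤ := by
    rw [← MonoidHom.range_eq_map, MonoidHom.range_eq_top]
    exact eθ.surjective
  rw [h2] at h1
  exact h1.symm

theorem range_le_commutator : θ.range ≤ commutator suzG.G := by
  have h := J2G_perfect
  rw [commutator_def] at h ⊢
  rw [MonoidHom.range_eq_map, ← h, Subgroup.map_commutator]
  exact Subgroup.commutator_mono le_top le_top

theorem K1_perfect : commutator ↥K1 = ⊤ := by
  show commutator suzG.G = ⊤
  rw [eq_top_iff, ← suzG.closure_letters, Subgroup.closure_le]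
  rintro _ ⟨c, hc, rfl⟩
  have hc' : c < 6 := hc
  have h5 : ∀ i < 5, suzG.elt [i] ∈ commutator suzG.G := by
    intro i hi
    apply range_le_commutator
    exact ⟨_, θ_of ⟨i, hi⟩⟩
  by_cases h : c < 5
  · exact h5 c h
  · have hc5 : c = 5 := by omega
    subst hc5
    have e1 : suzG.elt [5] = suzG.elt ([1, 5] ++ [1] ++ [5, 1]) := by
      apply suzG.elt_eq_of_wapp _ _ (by decide) (by decide)
      have h := chk_conj
      simp only [List.all_eq_true, List.mem_range, beq_iff_eq, wappS_eq] at h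
      exact h
    have e2 : suzG.elt [1, 5] * suzG.elt [5, 1] = 1 := by
      rw [← suzG.elt_append, ← suzG.elt_nil]
      apply suzG.elt_eq_of_wapp _ _ (by decide) (by simp)
      have h := chk_inv15
      simp only [List.all_eq_true, List.mem_range, beq_iff_eq, wappS_eq] at h
      exact h
    rw [SetLike.mem_coe, e1, suzG.elt_append, suzG.elt_append, eq_inv_of_mul_eq_one_right e2]
    exact (inferInstance : (commutator suzG.G).Normal).conj_mem _ (h5 1 (by decide)) _

end Cfsg.Agent.Lib.Helper6.SuzMu
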