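import Cfsg.Agent.Lib.Helper6.Mult.SuzB
import Cfsg.Agent.Lib.Helper6.Mult.PM5
import Cfsg.Agent.Lib.Helper6.MultD.SUZTp2I
import Cfsg.Agent.Lib.Helper6.MultD.SUZTp3I
import Cfsg.Agent.Lib.Helper6.MultD.SUZTp3L
import Cfsg.Agent.Lib.Helper6.MultD.SUZTp5I
import Cfsg.Agent.Lib.Helper6.MultD.SUZTp5L
import Cfsg.Agent.Lib.Helper6.MultD.SUZGp2I
import Cfsg.Agent.Lib.Helper6.MultD.SUZGp3I
import Cfsg.Agent.Lib.Helper6.MultD.SUZGp3L
import Cfsg.Agent.Lib.Helper6.MultD.SUZGp5I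
import Cfsg.Agent.Lib.Helper6.MultD.SUZGp5L
import Cfsg.Agent.Lib.Helper1.Stem21

set_option autoImplicit false
set_option maxRecDepth 100000

/-! # The kernels of the stem extensions of the presented group `Suz` are cyclic of order
dividing 6 -/

namespace Cfsg.Agent.Lib.Helper6.SuzMu

open Cfsg.Agent.Lib.Helper6.TC Cfsg.Agent.Lib.Helper6.TCD Cfsg.Agent.Lib.Helper6.PM
open Cfsg.Agent.Lib.Helper6.MultD Cfsg.Agent.Lib.Helper6.SuzM
open Cfsg.Agent.Lib.Helper1 Cfsg.Agent.Lib.Helper1.MatCode Cfsg.Agent.Lib.Helper1.StemSA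
open Cfsg.Agent.Lib.Helper6.TCP

open scoped Pointwise

universe u

theorem hordAll : (∀ i < DSUZGp2.k, Nat.Coprime (DSUZGp2.ords.getD i 0) 2) ∧
    (∀ i < DSUZGp3.k, Nat.Coprime (DSUZGp3.ords.getD i 0) 3) ∧
    (∀ i < DSUZGp5.k, Nat.Coprime (DSUZGp5.ords.getD i 0) 5) ∧
    (∀ i < DSUZTp2.k, Nat.Coprime (DSUZTp2.ords.getD i 0) 2) ∧
    (∀ i < DSUZTp3.k, Nat.Coprime (DSUZTp3.ords.getD i 0) 3) ∧
    (∀ i < DSUZTp5.k, Nat.Coprime (DSUZTp5.ords.getD i 0) 5) :=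
  ⟨J2Mu.hord_of_chk _ _ (by decide +kernel), J2Mu.hord_of_chk _ _ (by decide +kernel),
    J2Mu.hord_of_chk _ _ (by decide +kernel), J2Mu.hord_of_chk _ _ (by decide +kernel),
    J2Mu.hord_of_chk _ _ (by decide +kernel), J2Mu.hord_of_chk _ _ (by decide +kernel)⟩

theorem esAll : CSUZGp2.es.sum = 0 ∧ CSUZGp3.es.sum = 0 ∧ CSUZGp5.es.sum = 0 ∧
    CSUZTp2.es.sum = 0 ∧ CSUZTp3.es.sum = 1 ∧ CSUZTp5.es.sum = 0 := by
  decide +kernel

/-! ## The stem extensions of the subgroup `J2` -/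

theorem K2_bound (p : ℕ) (t : ℕ)
    (hJ : ∀ (Γ : Type u) [Group Γ] [Finite Γ] (σ : Γ →* J2.G), Cfsg.IsStemExtension σ →
      IsPGroup p σ.ker → Nat.card σ.ker ≤ t)
    (Γ' : Type u) [Group Γ'] [Finite Γ'] (σ' : Γ' →* ↥K2)
    (hσ' : Cfsg.IsStemExtension σ') (hk : IsPGroup p σ'.ker) : Nat.card σ'.ker ≤ t := by
  have h1 := Stem.isStem_comp_equiv (MulEquiv.refl Γ') eθ.symm σ' hσ'
  have e2 := Stem.kerEquiv (MulEquiv.refl Γ') eθ.symm σ'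
  have hk' : IsPGroup p (eθ.symm.toMonoidHom.comp (σ'.comp (MulEquiv.refl Γ').toMonoidHom)).ker :=
    hk.of_equiv e2.symm
  have h2 := hJ Γ' _ h1 hk'
  rwa [Nat.card_congr e2.toEquiv] at h2

theorem K2_bound2 (Γ' : Type u) [Group Γ'] [Finite Γ'] (σ' : Γ' →* ↥K2)
    (hσ' : Cfsg.IsStemExtension σ') (hk : IsPGroup 2 σ'.ker) : Nat.card σ'.ker ≤ 2 :=
  K2_bound 2 2 (fun Γ _ _ σ hσ hk => J2Mu.bound2 Γ σ hσ hk) Γ' σ' hσ' hk

theorem K2_bound3 (Γ' : Type u) [Group Γ'] [Finite Γ'] (σ' : Γ' →* ↥K2)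
    (hσ' : Cfsg.IsStemExtension σ') (hk : IsPGroup 3 σ'.ker) : Nat.card σ'.ker ≤ 1 :=
  K2_bound 3 1 (fun Γ _ _ σ hσ hk => (J2Mu.bound3 Γ σ hσ hk).le) Γ' σ' hσ' hk

theorem K2_bound5 (Γ' : Type u) [Group Γ'] [Finite Γ'] (σ' : Γ' →* ↥K2)
    (hσ' : Cfsg.IsStemExtension σ') (hk : IsPGroup 5 σ'.ker) : Nat.card σ'.ker ≤ 1 :=
  K2_bound 5 1 (fun Γ _ _ σ hσ hk => (J2Mu.bound5 Γ σ hσ hk).le) Γ' σ' hσ' hk

/-! ## The stem extensions of the subgroup `G2(4)` -/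

theorem hker_trivG : ∀ k : KG, (1 : KG →* Unit) k = 1 ↔ (k : suzG.G) ∈ K2 := by
  intro k
  rw [K2_eq_KG]
  exact ⟨fun _ => k.2, fun _ => rfl⟩

theorem ptG_eq3 : pt suzG PLSUZGp3 0 = pt suzG PLSUZGp2 0 := by
  unfold pt
  rw [PL_zeroSUZG.1, PL_zeroSUZG.2.1]

theorem ptG_eq5 : pt suzG PLSUZGp5 0 = pt suzG PLSUZGp2 0 := by
  unfold pt
  rw [PL_zeroSUZG.1, PL_zeroSUZG.2.2]

theorem K1_bound2 (Γ' : Type u) [Group Γ'] [Finite Γ'] (σ' : Γ' →* ↥K1)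
    (hσ' : Cfsg.IsStemExtension σ') (hk : IsPGroup 2 σ'.ker) : Nat.card σ'.ker ≤ 2 := by
  haveI : Fact (Nat.Prime 2) := ⟨Nat.prime_two⟩
  haveI : IsCyclic Unit := isCyclic_of_subsingleton
  have h : Nat.card σ'.ker ≤ 2 ^ CSUZGp2.es.sum * 2 := bound_pts_cyc.{u} suzG 2 DSUZGp2 CSUZGp2 rfl
    chk_certSUZGp2 chk_structSUZGp2 wsSUZGp2 pmSUZGp2 lwSUZGp2 coreSUZGp2 (by decide) hordAll.1
    PLSUZGp2 PLISUZGp2 chk_ptsSUZGp2 KG rfl (1 : KG →* Unit) K2 K2_le_KG hker_trivG K2_perfect 2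
    K2_bound2 Γ' σ' hσ' hk
  rw [esAll.1] at h
  omega

theorem K1_bound3 (Γ' : Type u) [Group Γ'] [Finite Γ'] (σ' : Γ' →* ↥K1)
    (hσ' : Cfsg.IsStemExtension σ') (hk : IsPGroup 3 σ'.ker) : Nat.card σ'.ker ≤ 1 := by
  haveI : Fact (Nat.Prime 3) := ⟨Nat.prime_three⟩
  haveI : IsCyclic Unit := isCyclic_of_subsingleton
  have h : Nat.card σ'.ker ≤ 3 ^ CSUZGp3.es.sum * 1 := bound_pts_cyc.{u} suzG 3 DSUZGp3 CSUZGp3 rfl
    chk_certSUZGp3 chk_structSUZGp3 wsSUZGp3 pmSUZGp3 lwSUZGp3 coreSUZGp3 (by decide) hordAll.2.1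
    PLSUZGp3 PLISUZGp3 chk_ptsSUZGp3 KG (by rw [ptG_eq3]) (1 : KG →* Unit) K2 K2_le_KG hker_trivG
    K2_perfect 1 K2_bound3 Γ' σ' hσ' hk
  rw [esAll.2.1] at h
  omega

theorem K1_bound5 (Γ' : Type u) [Group Γ'] [Finite Γ'] (σ' : Γ' →* ↥K1)
    (hσ' : Cfsg.IsStemExtension σ') (hk : IsPGroup 5 σ'.ker) : Nat.card σ'.ker ≤ 1 := by
  haveI : Fact (Nat.Prime 5) := ⟨Nat.prime_five⟩
  haveI : IsCyclic Unit := isCyclic_of_subsingleton
  have h : Nat.card σ'.ker ≤ 5 ^ CSUZGp5.es.sum * 1 := bound_pts_cyc.{u} suzG 5 DSUZGp5 CSUZGp5 rfl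
    chk_certSUZGp5 chk_structSUZGp5 wsSUZGp5 pmSUZGp5 lwSUZGp5 coreSUZGp5 (by decide) hordAll.2.2.1
    PLSUZGp5 PLISUZGp5 chk_ptsSUZGp5 KG (by rw [ptG_eq5]) (1 : KG →* Unit) K2 K2_le_KG hker_trivG
    K2_perfect 1 K2_bound5 Γ' σ' hσ' hk
  rw [esAll.2.2.1] at h
  omega

/-! ## The stem extensions of the group -/

theorem hker_triv : ∀ k : K, (1 : K →* Unit) k = 1 ↔ (k : suzModel.G) ∈ K1 := by
  intro k
  rw [K1_eq_K]
  exact ⟨fun _ => k.2, fun _ => rfl⟩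

theorem bound2 (Γ : Type u) [Group Γ] [Finite Γ] (σ : Γ →* suzModel.G)
    (hσ : Cfsg.IsStemExtension σ) (hk : IsPGroup 2 σ.ker) : Nat.card σ.ker ≤ 2 := by
  haveI : Fact (Nat.Prime 2) := ⟨Nat.prime_two⟩
  haveI : IsCyclic Unit := isCyclic_of_subsingleton
  have h : Nat.card σ.ker ≤ 2 ^ CSUZTp2.es.sum * 2 := bound_pts_cyc.{u} suzModel 2 DSUZTp2 CSUZTp2 rfl
    chk_certSUZTp2 chk_structSUZTp2 wsSUZTp2 pmSUZTp2 lwSUZTp2 coreSUZTp2 (by decide)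
    hordAll.2.2.2.1 PLSUZTp2 PLISUZTp2 chk_ptsSUZTp2 K (by rw [pt_zero PLSUZTp2 PL_zeroSUZT.1])
    (1 : K →* Unit) K1 K1_le_K hker_triv K1_perfect 2 K1_bound2 Γ σ hσ hk
  rw [esAll.2.2.2.1] at h
  omega

theorem bound3 (Γ : Type u) [Group Γ] [Finite Γ] (σ : Γ →* suzModel.G)
    (hσ : Cfsg.IsStemExtension σ) (hk : IsPGroup 3 σ.ker) : Nat.card σ.ker ≤ 3 := by
  haveI : Fact (Nat.Prime 3) := ⟨Nat.prime_three⟩
  haveI : IsCyclic Unit := isCyclic_of_subsingleton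
  have h : Nat.card σ.ker ≤ 3 ^ CSUZTp3.es.sum * 1 := bound_pts_cyc.{u} suzModel 3 DSUZTp3 CSUZTp3 rfl
    chk_certSUZTp3 chk_structSUZTp3 wsSUZTp3 pmSUZTp3 lwSUZTp3 coreSUZTp3 (by decide)
    hordAll.2.2.2.2.1 PLSUZTp3 PLISUZTp3 chk_ptsSUZTp3 K (by rw [pt_zero PLSUZTp3 PL_zeroSUZT.2.1])
    (1 : K →* Unit) K1 K1_le_K hker_triv K1_perfect 1 K1_bound3 Γ σ hσ hk
  rw [esAll.2.2.2.2.1] at h
  omega

theorem bound5 (Γ : Type u) [Group Γ] [Finite Γ] (σ : Γ →* suzModel.G)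
    (hσ : Cfsg.IsStemExtension σ) (hk : IsPGroup 5 σ.ker) : Nat.card σ.ker = 1 := by
  haveI : Fact (Nat.Prime 5) := ⟨Nat.prime_five⟩
  haveI : IsCyclic Unit := isCyclic_of_subsingleton
  have h : Nat.card σ.ker ≤ 5 ^ CSUZTp5.es.sum * 1 := bound_pts_cyc.{u} suzModel 5 DSUZTp5 CSUZTp5 rfl
    chk_certSUZTp5 chk_structSUZTp5 wsSUZTp5 pmSUZTp5 lwSUZTp5 coreSUZTp5 (by decide)
    hordAll.2.2.2.2.2 PLSUZTp5 PLISUZTp5 chk_ptsSUZTp5 K (by rw [pt_zero PLSUZTp5 PL_zeroSUZT.2.2])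
    (1 : K →* Unit) K1 K1_le_K hker_triv K1_perfect 1 K1_bound5 Γ σ hσ hk
  rw [esAll.2.2.2.2.2] at h
  have hpos : 0 < Nat.card σ.ker := Nat.card_pos
  omega

/-! ## The multiplier -/

theorem not_sq_dvd (p : ℕ) (hp : p.Prime) (h2 : p ≠ 2) (h3 : p ≠ 3) (h5 : p ≠ 5) :
    ¬ p * p ∣ 448345497600 := by
  intro h
  have hd : p ∣ 448345497600 := dvd_trans (dvd_mul_right p p) h
  have e : (448345497600 : ℕ) = 2 ^ 13 * 3 ^ 7 * 5 ^ 2 * 7 * 11 * 13 := by norm_num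
  rw [e] at hd
  rcases (Nat.Prime.dvd_mul hp).mp hd with hd | hd
  · rcases (Nat.Prime.dvd_mul hp).mp hd with hd | hd
    · rcases (Nat.Prime.dvd_mul hp).mp hd with hd | hd
      · rcases (Nat.Prime.dvd_mul hp).mp hd with hd | hd
        · rcases (Nat.Prime.dvd_mul hp).mp hd with hd | hd
          · exact h2 ((Nat.prime_dvd_prime_iff_eq hp Nat.prime_two).mp (hp.dvd_of_dvd_pow hd))
          · exact h3 ((Nat.prime_dvd_prime_iff_eq hp Nat.prime_three).mp (hp.dvd_of_dvd_pow hd))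
        · exact h5 ((Nat.prime_dvd_prime_iff_eq hp Nat.prime_five).mp (hp.dvd_of_dvd_pow hd))
      · have := (Nat.prime_dvd_prime_iff_eq hp (by norm_num : Nat.Prime 7)).mp hd
        subst this
        norm_num at h
    · have := (Nat.prime_dvd_prime_iff_eq hp (by norm_num : Nat.Prime 11)).mp hd
      subst this
      norm_num at h
  · have := (Nat.prime_dvd_prime_iff_eq hp (by norm_num : Nat.Prime 13)).mp hd
    subst this
    norm_num at h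

theorem isCyclic_of_card_dvd_six {H : Type*} [Group H] [Finite H] (hc : ∀ x y : H, x * y = y * x)
    (hd : Nat.card H ∣ 6) : IsCyclic H := by
  have hmem : Nat.card H ∈ Nat.divisors 6 := Nat.mem_divisors.mpr ⟨hd, by norm_num⟩
  have e : Nat.divisors 6 = {1, 2, 3, 6} := by decide
  rw [e] at hmem
  simp only [Finset.mem_insert, Finset.mem_singleton] at hmem
  haveI : Fact (Nat.Prime 2) := ⟨Nat.prime_two⟩
  haveI : Fact (Nat.Prime 3) := ⟨Nat.prime_three⟩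
  rcases hmem with h | h | h | h
  · haveI : Subsingleton H := (Nat.card_eq_one_iff_unique.mp h).1
    exact isCyclic_of_subsingleton
  · exact isCyclic_of_prime_card (p := 2) h
  · exact isCyclic_of_prime_card (p := 3) h
  · obtain ⟨x, hx⟩ := exists_prime_orderOf_dvd_card' (G := H) 2 (by rw [h]; norm_num)
    obtain ⟨y, hy⟩ := exists_prime_orderOf_dvd_card' (G := H) 3 (by rw [h]; norm_num)
    have hxy : orderOf (x * y) = 6 := by
      have h1 := Commute.orderOf_mul_eq_mul_orderOf_of_coprime (hc x y) (by rw [hx, hy]; norm_num)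
      rw [h1, hx, hy]
    exact isCyclic_of_orderOf_eq_card (x * y) (by rw [hxy, h])

theorem pow_dvd_six_of_le {p a b : ℕ} (hb : p ^ b ∣ 6) (h : p ^ a ≤ p ^ b) (hp : 1 < p) :
    p ^ a ∣ 6 := by
  have : a ≤ b := (Nat.pow_le_pow_iff_right hp).mp h
  exact (pow_dvd_pow p this).trans hb

/-- the kernel of a stem extension of the presented group is cyclic of order dividing 6 -/
theorem hub (Γ : Type u) [Group Γ] [Finite Γ] (σ : Γ →* Cfsg.Spor.Suz)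
    (hσ : Cfsg.IsStemExtension σ) : IsCyclic σ.ker ∧ Nat.card σ.ker ∣ 6 := by
  have hd : Nat.card σ.ker ∣ 6 := by
    apply Stem.card_dvd_of_primary σ 6 (by norm_num) ?_ hσ
    intro p hp Γ' _ _ σ' hσ' hk
    by_cases h2 : p = 2
    · subst h2
      have h1 : Nat.card σ'.ker ≤ 2 := bound2 Γ' σ' hσ' hk
      obtain ⟨a, ha⟩ := IsPGroup.iff_card.mp hk
      rw [ha] at h1 ⊢
      exact pow_dvd_six_of_le (b := 1) (by norm_num) (by rw [pow_one]; exact h1) (by norm_num)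
    · by_cases h3 : p = 3
      · subst h3
        have h1 : Nat.card σ'.ker ≤ 3 := bound3 Γ' σ' hσ' hk
        obtain ⟨a, ha⟩ := IsPGroup.iff_card.mp hk
        rw [ha] at h1 ⊢
        exact pow_dvd_six_of_le (b := 1) (by norm_num) (by rw [pow_one]; exact h1) (by norm_num)
      · by_cases h5 : p = 5
        · subst h5
          have h1 : Nat.card σ'.ker = 1 := bound5 Γ' σ' hσ' hk
          rw [h1]
          exact one_dvd 6
        · have h1 : Nat.card σ'.ker = 1 := by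
            apply Stem.card_ker_eq_one_of_not_sq_dvd σ' hσ' p hk
            rw [SuzM.card_Suz]
            exact not_sq_dvd p hp.out h2 h3 h5
          rw [h1]
          exact one_dvd 6
  refine ⟨?_, hd⟩
  apply isCyclic_of_card_dvd_six ?_ hd
  intro x y
  have hx := hσ.2.1 x.2
  rw [Subgroup.mem_center_iff] at hx
  exact Subtype.ext (hx y.1).symm

end Cfsg.Agent.Lib.Helper6.SuzMu
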