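import Cfsg.Agent.Lib.Helper6.TCP.Suz6
import Cfsg.Agent.Lib.Helper6.Mult.SuzA
import Cfsg.Agent.Lib.Helper6.Mult.Cover1
import Cfsg.Agent.Lib.Helper6.WP10

set_option autoImplicit false
set_option maxRecDepth 100000

/-! # A central extension of the Suzuki group by a cyclic group: the maps -/

namespace Cfsg.Agent.Lib.Helper6.SuzE

open Cfsg Cfsg.Spor Cfsg.Agent.Lib.Helper6.TC Cfsg.Agent.Lib.Helper6.TCD Cfsg.Agent.Lib.Helper6.TCP
open Cfsg.Agent.Lib.Helper6.PM

/-- the extension -/
abbrev Γ : Type := Suz6.G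

/-- the generators -/
noncomputable def gen (c : ℕ) : Γ := PresentedGroup.mk Suz6.Rels (ceOf Suz6.gc c)

/-- the central element -/
noncomputable def z : Γ := gen 7

theorem mk_wordElt (w : List ℕ) :
    PresentedGroup.mk Suz6.Rels (wordElt Suz6.gc w) = (w.map gen).prod := by
  induction w with
  | nil => simp [wordElt_nil]
  | cons c w ih =>
    rw [wordElt_cons, map_mul, ih, List.map_cons, List.prod_cons]
    rfl

theorem base_prod : ∀ b ∈ Suz6.base, (b.map gen).prod = 1 := by
  intro b hb
  rw [← mk_wordElt]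
  exact Suz6.hbase b hb

theorem gen_inv (c : ℕ) (hc : c < 11) : gen (invc Suz6.INV c) = (gen c)⁻¹ := Suz6.hinvG c hc

theorem gen8 : gen 8 = (gen 3)⁻¹ := gen_inv 3 (by decide)
theorem gen9 : gen 9 = (gen 4)⁻¹ := gen_inv 4 (by decide)
theorem gen10 : gen 10 = z⁻¹ := gen_inv 7 (by decide)

theorem comm_of_rel {G : Type*} [Group G] {a a' x x' : G} (h1 : a' = a⁻¹) (h2 : x' = x⁻¹)
    (h : a * (x * (a' * (x' * 1))) = 1) : a * x = x * a := by
  subst h1 h2
  calc a * x = (a * (x * (a⁻¹ * (x⁻¹ * 1)))) * (x * a) := by group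
    _ = x * a := by rw [h, one_mul]

theorem gen_comm_z (c : ℕ) (hc : c < 11) : gen c * z = z * gen c := by
  have hs : ∀ c' : ℕ, [c', 7, invc Suz6.INV c', 10] ∈ Suz6.base → c' < 11 →
      gen c' * z = z * gen c' := by
    intro c' hb hc'
    have h := base_prod _ hb
    simp only [List.map_cons, List.map_nil, List.prod_cons, List.prod_nil] at h
    exact comm_of_rel (gen_inv c' hc') gen10 h
  have hinv : ∀ g : Γ, g * z = z * g → g⁻¹ * z = z * g⁻¹ := by
    intro g hg
    calc g⁻¹ * z = g⁻¹ * (z * g) * g⁻¹ := by group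
      _ = g⁻¹ * (g * z) * g⁻¹ := by rw [hg]
      _ = z * g⁻¹ := by group
  interval_cases c
  · exact hs 0 (by decide +kernel) (by decide)
  · exact hs 1 (by decide +kernel) (by decide)
  · exact hs 2 (by decide +kernel) (by decide)
  · exact hs 3 (by decide +kernel) (by decide)
  · exact hs 4 (by decide +kernel) (by decide)
  · exact hs 5 (by decide +kernel) (by decide)
  · exact hs 6 (by decide +kernel) (by decide)
  · rfl
  · rw [gen8]
    exact hinv _ (hs 3 (by decide +kernel) (by decide))
  · rw [gen9]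
    exact hinv _ (hs 4 (by decide +kernel) (by decide))
  · rw [gen10]
    exact hinv _ rfl

theorem of_eq_gen (i : Fin 11) : (PresentedGroup.of i : Γ) = gen i.val := by
  unfold gen
  rw [ceOf_gcF, Fin.ofNat_val_eq_self]
  rfl

theorem z_central : z ∈ Subgroup.center Γ := by
  rw [Subgroup.mem_center_iff]
  intro g
  have h : g ∈ Subgroup.centralizer ({z} : Set Γ) := by
    have htop : Subgroup.closure (Set.range (PresentedGroup.of (rels := Suz6.Rels))) = ⊤ :=
      PresentedGroup.closure_range_of _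
    have hle : Subgroup.closure (Set.range (PresentedGroup.of (rels := Suz6.Rels))) ≤
        Subgroup.centralizer ({z} : Set Γ) := by
      rw [Subgroup.closure_le]
      rintro _ ⟨i, rfl⟩
      rw [SetLike.mem_coe, Subgroup.mem_centralizer_iff]
      intro y hy
      rw [Set.mem_singleton_iff] at hy
      subst hy
      rw [of_eq_gen]
      exact (gen_comm_z i.val i.isLt).symm
    rw [htop] at hle
    exact hle (Subgroup.mem_top g)
  rw [Subgroup.mem_centralizer_iff] at h
  exact (h z rfl).symm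

instance : (Subgroup.zpowers z).Normal := Cover.normal_zpowers_of_central z_central

/-! ## The map to the Suzuki group -/

/-- the words of the columns -/
def cw : ℕ → List ℕ
  | 0 => [0] | 1 => [1] | 2 => [2] | 3 => [3] | 4 => [4] | 5 => [5] | 6 => [6]
  | 7 => [] | 8 => [3] | 9 => [4] | _ => []

theorem chkσ : (Suz6.base.all fun b => (b.flatMap cw).all (fun c => Nat.blt c 7) &&
    allB (fun q => Nat.beq (wappS Suza.px (b.flatMap cw) q) q) 1782) = true := by
  decide +kernel

theorem hrelσ : ∀ b ∈ Suz6.base,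
    PresentedGroup.mk Suz.Rels (wordElt Suz.gc (b.flatMap cw)) = 1 := by
  intro b hb
  have h := List.all_eq_true.mp chkσ b hb
  rw [Bool.and_eq_true] at h
  have h1 : ∀ c ∈ b.flatMap cw, c < 7 := by
    intro c hc
    have := List.all_eq_true.mp h.1 c hc
    rwa [Nat.blt_eq] at this
  have h2 := SuzM.suzModel.elt_eq_of_wapp (b.flatMap cw) [] h1 (by simp) (by
    intro q hq
    have := allB_spec h.2 q hq
    rw [Nat.beq_eq, wappS_eq] at this
    exact this)
  rw [SuzM.suzModel.elt_nil] at h2
  exact h2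

/-- the map onto the Suzuki group -/
noncomputable def σ : Γ →* Suz := wpHomW cw Suz6.hbl hrelσ

theorem σ_gen (c : ℕ) (hc : c < 11) : σ (gen c) = PresentedGroup.mk Suz.Rels (wordElt Suz.gc (cw c)) := by
  have h := wpHomW_of (rels := Suz.Rels) (gc := Suz.gc) cw Suz6.hbl hrelσ (Fin.ofNat 11 c)
  rw [Fin.val_ofNat, Nat.mod_eq_of_lt hc] at h
  exact h

theorem σ_z : σ z = 1 := by
  unfold z
  rw [σ_gen 7 (by decide)]
  show PresentedGroup.mk Suz.Rels (wordElt Suz.gc []) = 1
  rw [wordElt_nil, map_one]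

theorem σ_surjective : Function.Surjective σ := by
  rw [← MonoidHom.range_eq_top, eq_top_iff, ← SuzM.closure_letters, Subgroup.closure_le]
  rintro _ ⟨c, hc, rfl⟩
  refine ⟨gen c, ?_⟩
  rw [σ_gen c (by omega)]
  interval_cases c <;> rfl

end Cfsg.Agent.Lib.Helper6.SuzE
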