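import Cfsg.Agent.Lib.Helper6.Mult.SuzE1

set_option autoImplicit false
set_option maxRecDepth 100000

/-! # A central extension of the Suzuki group by a cyclic group: the kernel -/

namespace Cfsg.Agent.Lib.Helper6.SuzE

open Cfsg Cfsg.Spor Cfsg.Agent.Lib.Helper6.TC Cfsg.Agent.Lib.Helper6.TCD Cfsg.Agent.Lib.Helper6.TCP

/-- the quotient by the central element -/
abbrev Q : Type := Γ ⧸ Subgroup.zpowers z

/-- the images of the generators -/
noncomputable def q (c : ℕ) : Q := QuotientGroup.mk' (Subgroup.zpowers z) (gen c)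

theorem q7 : q 7 = 1 := (QuotientGroup.eq_one_iff _).mpr (Subgroup.mem_zpowers z)

theorem q10 : q 10 = 1 := by
  unfold q
  rw [gen10, map_inv]
  have : QuotientGroup.mk' (Subgroup.zpowers z) z = 1 :=
    (QuotientGroup.eq_one_iff _).mpr (Subgroup.mem_zpowers z)
  rw [this, inv_one]

theorem qprod_eq_one (w : List ℕ) (μ : ℕ) (h : w ++ List.replicate μ 10 ∈ Suz6.base) :
    (w.map q).prod = 1 := by
  have h1 := congrArg (QuotientGroup.mk' (Subgroup.zpowers z)) (base_prod _ h)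
  rw [map_list_prod, map_one, List.map_map, List.map_append, List.prod_append,
    List.map_replicate, List.prod_replicate] at h1
  have h2 : ((QuotientGroup.mk' (Subgroup.zpowers z)) ∘ gen) 10 = 1 := q10
  rw [h2, one_pow, mul_one] at h1
  exact h1

/-- the map from the free group -/
noncomputable def ψ₀ : FreeGroup Suz.Gen →* Q := FreeGroup.lift (fun x => q (Suz.col x))

theorem ψ₀_of (x : Suz.Gen) : ψ₀ (FreeGroup.of x) = q (Suz.col x) := by
  unfold ψ₀
  rw [FreeGroup.lift_apply_of]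

theorem col_gen (c : ℕ) (hc : c < 7) : Suz.col (Suz.gen c) = c := by
  interval_cases c <;> rfl

theorem ψ₀_wordElt (w : List ℕ) (hw : ∀ c ∈ w, c < 7) :
    ψ₀ (wordElt Suz.gc w) = (w.map q).prod := by
  induction w with
  | nil => simp [wordElt_nil]
  | cons c w ih =>
    rw [wordElt_cons, map_mul, ih (fun d hd => hw d (List.mem_cons_of_mem _ hd)), Suz.ceOf_gc,
      ψ₀_of, col_gen c (hw c List.mem_cons_self), List.map_cons, List.prod_cons]

theorem pair6 : ∀ x y : Suz.Gen, ∃ μ < 5,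
    pairw (Suz.col x) (Suz.col y) (coxLabel Suz.edges x y) ++ List.replicate μ 10 ∈ Suz6.base := by
  intro x y
  cases x <;> cases y <;> decide +kernel

theorem extra6 : (∃ μ < 5, Suz.w0 ++ List.replicate μ 10 ∈ Suz6.base) ∧
    (∃ μ < 5, Suz.w1 ++ List.replicate μ 10 ∈ Suz6.base) ∧
    (∃ μ < 5, (List.replicate 5 Suz.u2).flatten ++ List.replicate μ 10 ∈ Suz6.base) ∧
    (∃ μ < 5, (List.replicate 5 Suz.u3).flatten ++ List.replicate μ 10 ∈ Suz6.base) ∧
    (∃ μ < 5, Suz.w4 ++ List.replicate μ 10 ∈ Suz6.base) := by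
  decide +kernel

theorem q_sq (x : Suz.Gen) : q (Suz.col x) * q (Suz.col x) = 1 := by
  obtain ⟨μ, _, h⟩ := pair6 x x
  rw [coxLabel_self] at h
  have := qprod_eq_one _ μ h
  simpa [pairw] using this

theorem hx₀ (x : Suz.Gen) : (ψ₀ (FreeGroup.of x))⁻¹ = ψ₀ (FreeGroup.of x) := by
  rw [ψ₀_of]
  exact (eq_inv_of_mul_eq_one_left (q_sq x)).symm

theorem hrelτ : ∀ r ∈ Suz.Rels, ψ₀ r = 1 := by
  intro r hr
  rcases hr with hr | hr
  · obtain ⟨x, _, y, _, rfl⟩ := hr
    obtain ⟨μ, _, h⟩ := pair6 x y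
    rw [← wordElt_pairw (Suz.gc_col x) (Suz.gc_col y), ψ₀_wordElt]
    · exact qprod_eq_one _ μ h
    · intro c hc
      rcases mem_pairw hc with rfl | rfl
      · exact Suz.col_lt x
      · exact Suz.col_lt y
  · have hr' : r ∈ Suz.extra := hr
    simp only [Suz.extra, List.mem_cons, List.mem_nil_iff, or_false] at hr'
    rcases hr' with rfl | rfl | rfl | rfl | rfl
    · obtain ⟨μ, _, h⟩ := extra6.1
      rw [Suz.extra0 ψ₀ hx₀, ψ₀_wordElt _ (Suz.hbl _ Suz.extra_mem.1)]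
      exact qprod_eq_one _ μ h
    · obtain ⟨μ, _, h⟩ := extra6.2.1
      rw [Suz.extra1 ψ₀ hx₀, ψ₀_wordElt _ (Suz.hbl _ Suz.extra_mem.2.1)]
      exact qprod_eq_one _ μ h
    · obtain ⟨μ, _, h⟩ := extra6.2.2.1
      rw [Suz.extra2 ψ₀ hx₀, ψ₀_wordElt _ (Suz.hbl _ Suz.extra_mem.2.2.1)]
      exact qprod_eq_one _ μ h
    · obtain ⟨μ, _, h⟩ := extra6.2.2.2.1
      rw [Suz.extra3 ψ₀ hx₀, ψ₀_wordElt _ (Suz.hbl _ Suz.extra_mem.2.2.2.1)]
      exact qprod_eq_one _ μ h
    · obtain ⟨μ, _, h⟩ := extra6.2.2.2.2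
      rw [Suz.extra4 ψ₀ hx₀, ψ₀_wordElt _ (Suz.hbl _ Suz.extra_mem.2.2.2.2)]
      exact qprod_eq_one _ μ h

/-- the map from the Suzuki group to the quotient -/
noncomputable def τ : Suz →* Q := PresentedGroup.toGroup hrelτ

theorem τ_mk (x : FreeGroup Suz.Gen) : τ (PresentedGroup.mk Suz.Rels x) = ψ₀ x := rfl

theorem q8 : q 8 = q 3 := by
  have h : q 8 = (q 3)⁻¹ := by
    unfold q
    rw [gen8, map_inv]
  rw [h]
  exact (eq_inv_of_mul_eq_one_left (q_sq Suz.Gen.d)).symm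

theorem q9 : q 9 = q 4 := by
  have h : q 9 = (q 4)⁻¹ := by
    unfold q
    rw [gen9, map_inv]
  rw [h]
  exact (eq_inv_of_mul_eq_one_left (q_sq Suz.Gen.e)).symm

theorem τσ_gen (c : ℕ) (hc : c < 11) : τ (σ (gen c)) = q c := by
  rw [σ_gen c hc, τ_mk]
  interval_cases c
  · rw [ψ₀_wordElt _ (by decide)]; simp [cw]
  · rw [ψ₀_wordElt _ (by decide)]; simp [cw]
  · rw [ψ₀_wordElt _ (by decide)]; simp [cw]
  · rw [ψ₀_wordElt _ (by decide)]; simp [cw]
  · rw [ψ₀_wordElt _ (by decide)]; simp [cw]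
  · rw [ψ₀_wordElt _ (by decide)]; simp [cw]
  · rw [ψ₀_wordElt _ (by decide)]; simp [cw]
  · rw [ψ₀_wordElt _ (by decide), q7]; simp [cw]
  · rw [ψ₀_wordElt _ (by decide), q8]; simp [cw]
  · rw [ψ₀_wordElt _ (by decide), q9]; simp [cw]
  · rw [ψ₀_wordElt _ (by decide), q10]; simp [cw]

theorem hτσ : ∀ x : Γ, τ (σ x) = (QuotientGroup.mk x : Q) := by
  have h : τ.comp σ = QuotientGroup.mk' (Subgroup.zpowers z) := by
    apply PresentedGroup.ext
    intro i
    rw [of_eq_gen]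
    exact τσ_gen i.val i.isLt
  intro x
  exact DFunLike.congr_fun h x

theorem ker_σ : σ.ker = Subgroup.zpowers z := Cover.ker_eq_zpowers σ z σ_z τ hτσ

/-! ## The central element is a product of commutators -/

/-- the images of the generators in the abelianization, written additively -/
noncomputable def a (c : ℕ) : Additive (Abelianization Γ) :=
  Additive.ofMul (Abelianization.of (gen c))

theorem ab_sum (b : List ℕ) :
    Additive.ofMul (Abelianization.of ((b.map gen).prod)) = (b.map a).sum := by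
  induction b with
  | nil => simp
  | cons c b ih =>
    rw [List.map_cons, List.prod_cons, map_mul, ofMul_mul, ih, List.map_cons, List.sum_cons]
    rfl

theorem base_sum (b : List ℕ) (hb : b ∈ Suz6.base) : (b.map a).sum = 0 := by
  rw [← ab_sum, base_prod b hb, map_one, ofMul_one]

theorem key_add {A : Type*} [AddCommGroup A] (a0 a1 a2 a5 a6 a7 a10 : A)
    (h00 : a0 + (a0 + 0) = 0) (h11 : a1 + (a1 + 0) = 0) (h22 : a2 + (a2 + 0) = 0)
    (h55 : a5 + (a5 + 0) = 0) (h66 : a6 + (a6 + 0) = 0)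
    (h01 : a0 + (a1 + (a0 + (a1 + (a0 + (a1 + (a0 + (a1 + (a0 + (a1 + 0))))))))) = 0)
    (h12 : a1 + (a2 + (a1 + (a2 + (a1 + (a2 + 0))))) = 0)
    (h15 : a1 + (a5 + (a1 + (a5 + (a1 + (a5 + 0))))) = 0)
    (h16 : a1 + (a6 + (a1 + (a6 + (a1 + (a6 + 0))))) = 0)
    (hw1 : a0 + (a6 + (a5 + (a6 + (a5 + 0)))) = 0)
    (hu2 : a0 + (a1 + (a2 + (a5 + (a0 + (a1 + (a2 + (a5 + (a0 + (a1 + (a2 + (a5 + (a0 + (a1 + (a2 +
      (a5 + (a0 + (a1 + (a2 + (a5 + (a10 + (a10 + (a10 + 0)))))))))))))))))))))) = 0)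
    (hu3 : a1 + (a5 + (a6 + (a1 + (a5 + (a6 + (a1 + (a5 + (a6 + (a1 + (a5 + (a6 + (a1 + (a5 + (a6 +
      (a10 + (a10 + (a10 + (a10 + 0)))))))))))))))))) = 0)
    (h710 : a7 + (a10 + 0) = 0) : a7 = 0 := by
  have e0 : a0 = 0 := by
    have : a0 = (a0 + (a6 + (a5 + (a6 + (a5 + 0))))) - (a6 + (a6 + 0)) - (a5 + (a5 + 0)) := by abel
    rw [this, hw1, h66, h55]; simp
  have e1 : a1 = 0 := by
    have : a1 = (a0 + (a1 + (a0 + (a1 + (a0 + (a1 + (a0 + (a1 + (a0 + (a1 + 0)))))))))) -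
        (a0 + (a0 + 0)) - (a0 + (a0 + 0)) - (a1 + (a1 + 0)) - (a1 + (a1 + 0)) - a0 := by abel
    rw [this, h01, h00, h11, e0]; simp
  have e2 : a2 = 0 := by
    have : a2 = (a1 + (a2 + (a1 + (a2 + (a1 + (a2 + 0)))))) - (a1 + (a1 + 0)) - (a2 + (a2 + 0)) -
        a1 := by abel
    rw [this, h12, h11, h22, e1]; simp
  have e5 : a5 = 0 := by
    have : a5 = (a1 + (a5 + (a1 + (a5 + (a1 + (a5 + 0)))))) - (a1 + (a1 + 0)) - (a5 + (a5 + 0)) -
        a1 := by abel
    rw [this, h15, h11, h55, e1]; simp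
  have e6 : a6 = 0 := by
    have : a6 = (a1 + (a6 + (a1 + (a6 + (a1 + (a6 + 0)))))) - (a1 + (a1 + 0)) - (a6 + (a6 + 0)) -
        a1 := by abel
    rw [this, h16, h11, h66, e1]; simp
  subst e0 e1 e2 e5 e6
  have e3 : a10 + (a10 + (a10 + 0)) = 0 := by simpa using hu2
  have e4 : a10 + (a10 + (a10 + (a10 + 0))) = 0 := by simpa using hu3
  have e10 : a10 = 0 := by
    have : a10 = (a10 + (a10 + (a10 + (a10 + 0)))) - (a10 + (a10 + (a10 + 0))) := by abel
    rw [this, e4, e3]; simp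
  rw [e10] at h710
  simpa using h710

theorem a7_zero : a 7 = 0 := by
  have s := fun b hb => base_sum b hb
  have h00 := s [0, 0] (by decide +kernel)
  have h11 := s [1, 1] (by decide +kernel)
  have h22 := s [2, 2] (by decide +kernel)
  have h55 := s [5, 5] (by decide +kernel)
  have h66 := s [6, 6] (by decide +kernel)
  have h01 := s [0, 1, 0, 1, 0, 1, 0, 1, 0, 1] (by decide +kernel)
  have h12 := s [1, 2, 1, 2, 1, 2] (by decide +kernel)
  have h15 := s [1, 5, 1, 5, 1, 5] (by decide +kernel)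
  have h16 := s [1, 6, 1, 6, 1, 6] (by decide +kernel)
  have hw1 := s [0, 6, 5, 6, 5] (by decide +kernel)
  have hu2 := s [0, 1, 2, 5, 0, 1, 2, 5, 0, 1, 2, 5, 0, 1, 2, 5, 0, 1, 2, 5, 10, 10, 10]
    (by decide +kernel)
  have hu3 := s [1, 5, 6, 1, 5, 6, 1, 5, 6, 1, 5, 6, 1, 5, 6, 10, 10, 10, 10] (by decide +kernel)
  have h710 := s [7, 10] (by decide +kernel)
  simp only [List.map_cons, List.map_nil, List.sum_cons, List.sum_nil] at h00 h11 h22 h55 h66
  simp only [List.map_cons, List.map_nil, List.sum_cons, List.sum_nil] at h01 h12 h15 h16 hw1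
  simp only [List.map_cons, List.map_nil, List.sum_cons, List.sum_nil] at hu2 hu3 h710
  exact key_add (a 0) (a 1) (a 2) (a 5) (a 6) (a 7) (a 10) h00 h11 h22 h55 h66 h01 h12 h15 h16 hw1
    hu2 hu3 h710

theorem z_mem_commutator : z ∈ commutator Γ := by
  apply Cover.mem_commutator_of_abelianization
  have h := a7_zero
  unfold a at h
  rw [ofMul_eq_zero] at h
  exact h

end Cfsg.Agent.Lib.Helper6.SuzE
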