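import Cfsg.Agent.Lib.Helper6.Spor.Suz6Rep
import Cfsg.Agent.Lib.Helper6.Mult.SuzE2
import Cfsg.Agent.Lib.Helper6.Mult.Cover2
import Cfsg.Agent.Lib.Helper6.Mult.PM6

set_option autoImplicit false
set_option maxRecDepth 100000

/-! # A stem extension of the Suzuki group with a cyclic kernel of order 6 -/

namespace Cfsg.Agent.Lib.Helper6.SuzE

open Cfsg Cfsg.Spor Cfsg.Agent.Lib.Helper6.TC Cfsg.Agent.Lib.Helper6.TCD Cfsg.Agent.Lib.Helper6.TCP
open Cfsg.Agent.Lib.Helper6.PM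

theorem exists_rep : ∃ φ : Γ →* Equiv.Perm (Fin Suz6a.N), ∀ w, (∀ c ∈ w, c < 11) →
    ∀ p : Fin Suz6a.N,
      ((φ (PresentedGroup.mk Suz6.Rels (wordElt Suz6.gc w)))⁻¹ p).val = wapp Suz6a.px w p.val :=
  perm_rep0 Suz6Rep.hP Suz6.hC (Suz6.rel_cover Suz6Rep.hP Suz6Rep.hfix)

theorem z_pow_eq (k : ℕ) : z ^ k = PresentedGroup.mk Suz6.Rels (wordElt Suz6.gc (List.replicate k 7)) := by
  rw [mk_wordElt, List.map_replicate, List.prod_replicate]
  rfl

theorem z_pow_ne (k p : ℕ) (hp : p < Suz6a.N)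
    (hmove : wapp Suz6a.px (List.replicate k 7) p ≠ p) : z ^ k ≠ 1 := by
  intro h
  obtain ⟨φ, hφ⟩ := exists_rep
  have h1 := hφ (List.replicate k 7) (by
    intro c hc
    rw [List.mem_replicate] at hc
    rw [hc.2]
    decide) ⟨p, hp⟩
  rw [← z_pow_eq, h, map_one, inv_one, Equiv.Perm.one_apply] at h1
  exact hmove h1.symm

theorem move3 : wapp Suz6a.px (List.replicate 3 7) 0 ≠ 0 := by decide +kernel

theorem move2 : wapp Suz6a.px (List.replicate 2 7) 65520 ≠ 65520 := by decide +kernel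

theorem z_pow_six : z ^ 6 = 1 := by
  rw [z_pow_eq]
  exact Suz6.hbase _ (by decide +kernel)

theorem orderOf_z : orderOf z = 6 :=
  orderOf_eq_six z z_pow_six (z_pow_ne 2 65520 (by decide) move2) (z_pow_ne 3 0 (by decide) move3)

/-- a stem extension of the Suzuki group whose kernel is cyclic of order 6 -/
theorem exists_cover : ∃ (Γ₀ : Type) (_ : Group Γ₀) (_ : Finite Γ₀) (σ₀ : Γ₀ →* Suz),
    Cfsg.IsStemExtension σ₀ ∧ IsCyclic σ₀.ker ∧ Nat.card σ₀.ker = 6 := by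
  haveI : Finite Suz := SuzM.finite_Suz
  have hfin : Finite Γ :=
    Cover.finite_of_ker σ σ_surjective z ker_σ (by norm_num) orderOf_z
  exact ⟨Γ, inferInstance, hfin, σ,
    Cover.stem_of_central σ σ_surjective z z_central ker_σ z_mem_commutator orderOf_z⟩

end Cfsg.Agent.Lib.Helper6.SuzE
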