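import Cfsg.Agent.Lib.Helper6.Mult.SuzC
import Cfsg.Agent.Lib.Helper6.Mult.SuzE3
import Cfsg.Agent.Lib.Helper6.Spor.SuzG24
import Cfsg.Agent.Lib.Helper3.ChevRingEquiv
import Cfsg.Agent.Lib.Helper1.Stem15
import Cfsg.Agent.Lib.Helper1.Stem14

set_option autoImplicit false
set_option maxRecDepth 100000

/-! # The Schur multiplier of the Chevalley group of type `G₂` over a field with four elements,
realised as the stabilizer of a point in the presented group `Suz` -/

namespace Cfsg.Agent.Lib.Helper6.SuzMu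

open Cfsg.Agent.Lib.Helper6.TC Cfsg.Agent.Lib.Helper6.TCD Cfsg.Agent.Lib.Helper6.PM
open Cfsg.Agent.Lib.Helper6.MultD Cfsg.Agent.Lib.Helper6.SuzM
open Cfsg.Agent.Lib.Helper1 Cfsg.Agent.Lib.Helper1.MatCode Cfsg.Agent.Lib.Helper1.StemSA
open Cfsg.Agent.Lib.Helper6.TCP

open scoped Pointwise

universe u

theorem not_sq_dvdG (p : ℕ) (hp : p.Prime) (h2 : p ≠ 2) (h3 : p ≠ 3) (h5 : p ≠ 5) :
    ¬ p * p ∣ 251596800 := by
  intro h
  have hd : p ∣ 251596800 := dvd_trans (dvd_mul_right p p) h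
  have e : (251596800 : ℕ) = 2 ^ 12 * 3 ^ 3 * 5 ^ 2 * 7 * 13 := by norm_num
  rw [e] at hd
  rcases (Nat.Prime.dvd_mul hp).mp hd with hd | hd
  · rcases (Nat.Prime.dvd_mul hp).mp hd with hd | hd
    · rcases (Nat.Prime.dvd_mul hp).mp hd with hd | hd
      · rcases (Nat.Prime.dvd_mul hp).mp hd with hd | hd
        · exact h2 ((Nat.prime_dvd_prime_iff_eq hp Nat.prime_two).mp (hp.dvd_of_dvd_pow hd))
        · exact h3 ((Nat.prime_dvd_prime_iff_eq hp Nat.prime_three).mp (hp.dvd_of_dvd_pow hd))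
      · exact h5 ((Nat.prime_dvd_prime_iff_eq hp Nat.prime_five).mp (hp.dvd_of_dvd_pow hd))
    · have := (Nat.prime_dvd_prime_iff_eq hp (by norm_num : Nat.Prime 7)).mp hd
      subst this
      norm_num at h
  · have := (Nat.prime_dvd_prime_iff_eq hp (by norm_num : Nat.Prime 13)).mp hd
    subst this
    norm_num at h

theorem card_K1 : Nat.card ↥K1 = 251596800 := card_suzG

/-- the kernel of a stem extension of the subgroup `G2(4)` is cyclic of order dividing 2 -/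
theorem hubG (Γ : Type u) [Group Γ] [Finite Γ] (σ : Γ →* ↥K1)
    (hσ : Cfsg.IsStemExtension σ) : IsCyclic σ.ker ∧ Nat.card σ.ker ∣ 2 := by
  have hd : Nat.card σ.ker ∣ 2 := by
    apply Stem.card_dvd_of_primary σ 2 (by norm_num) ?_ hσ
    intro p hp Γ' _ _ σ' hσ' hk
    by_cases h2 : p = 2
    · subst h2
      have h1 : Nat.card σ'.ker ≤ 2 := K1_bound2 Γ' σ' hσ' hk
      obtain ⟨a, ha⟩ := IsPGroup.iff_card.mp hk
      rw [ha] at h1 ⊢
      have ha1 : a ≤ 1 := by
        by_contra hcon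
        rw [not_le] at hcon
        have : 2 ^ 2 ≤ 2 ^ a := Nat.pow_le_pow_right (by norm_num) hcon
        omega
      calc 2 ^ a ∣ 2 ^ 1 := pow_dvd_pow 2 ha1
        _ = 2 := pow_one 2
    · have h1 : Nat.card σ'.ker = 1 := by
        by_cases h3 : p = 3
        · subst h3
          have := K1_bound3 Γ' σ' hσ' hk
          have hpos : 0 < Nat.card σ'.ker := Nat.card_pos
          omega
        · by_cases h5 : p = 5
          · subst h5
            have := K1_bound5 Γ' σ' hσ' hk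
            have hpos : 0 < Nat.card σ'.ker := Nat.card_pos
            omega
          · apply Stem.card_ker_eq_one_of_not_sq_dvd σ' hσ' p hk
            rw [card_K1]
            exact not_sq_dvdG p hp.out h2 h3 h5
      rw [h1]
      exact one_dvd 2
  refine ⟨?_, hd⟩
  rcases (Nat.dvd_prime Nat.prime_two).mp hd with h | h
  · haveI : Subsingleton σ.ker := (Nat.card_eq_one_iff_unique.mp h).1
    exact isCyclic_of_subsingleton
  · haveI : Fact (Nat.Prime 2) := ⟨Nat.prime_two⟩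
    exact isCyclic_of_prime_card (p := 2) h

/-- a stem extension of the subgroup `G2(4)` with a kernel of order 2: otherwise the double cover
of the group would not exist -/
theorem exists_coverG : ∃ (Γ₀ : Type) (_ : Group Γ₀) (_ : Finite Γ₀) (σ₀ : Γ₀ →* ↥K1),
    Cfsg.IsStemExtension σ₀ ∧ IsCyclic σ₀.ker ∧ Nat.card σ₀.ker = 2 := by
  by_contra hcon
  haveI : Fact (Nat.Prime 2) := ⟨Nat.prime_two⟩
  have hT : ∀ (Γ' : Type) [Group Γ'] [Finite Γ'] (σ' : Γ' →* ↥K1),
      Cfsg.IsStemExtension σ' → IsPGroup 2 σ'.ker → Nat.card σ'.ker ≤ 1 := by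
    intro Γ' _ _ σ' hσ' hk
    have h2 := K1_bound2 Γ' σ' hσ' hk
    by_contra hgt
    rw [not_le] at hgt
    have h2' : Nat.card σ'.ker = 2 := by omega
    apply hcon
    exact ⟨Γ', inferInstance, inferInstance, σ', hσ', isCyclic_of_prime_card (p := 2) h2', h2'⟩
  have hB : ∀ (Γ : Type) [Group Γ] [Finite Γ] (σ : Γ →* suzModel.G),
      Cfsg.IsStemExtension σ → IsPGroup 2 σ.ker → Nat.card σ.ker ≤ 1 := by
    intro Γ _ _ σ hσ hk
    haveI : IsCyclic Unit := isCyclic_of_subsingleton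
    have h : Nat.card σ.ker ≤ 2 ^ CSUZTp2.es.sum * 1 := bound_pts_cyc.{0} suzModel 2 DSUZTp2 CSUZTp2
      rfl chk_certSUZTp2 chk_structSUZTp2 wsSUZTp2 pmSUZTp2 lwSUZTp2 coreSUZTp2 (by decide)
      hordAll.2.2.2.1 PLSUZTp2 PLISUZTp2 chk_ptsSUZTp2 K (by rw [pt_zero PLSUZTp2 PL_zeroSUZT.1])
      (1 : K →* Unit) K1 K1_le_K hker_triv K1_perfect 1 hT Γ σ hσ hk
    rw [esAll.2.2.2.1] at h
    omega
  obtain ⟨Γ₀, i1, i2, σ₀, hσ₀, _, hcard⟩ := SuzE.exists_cover
  haveI : Finite σ₀.ker := Nat.finite_of_card_ne_zero (by rw [hcard]; norm_num)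
  obtain ⟨x, hx⟩ := exists_prime_orderOf_dvd_card' (G := σ₀.ker) 2 (by rw [hcard]; norm_num)
  have hPc : Nat.card (Subgroup.zpowers x) = 2 ^ 1 := by rw [Nat.card_zpowers, hx, pow_one]
  have hP : IsPGroup 2 (Subgroup.zpowers x) := IsPGroup.of_card hPc
  obtain ⟨f, hf⟩ := Stem.card_dvd_of_isPGroup σ₀ hσ₀.2.1 2 (Subgroup.zpowers x) hP
  have h1 := hB _ (Stem.primaryQuot σ₀ hσ₀.2.1 2) (Stem.primaryQuot_isStem σ₀ hσ₀ 2)
    (Stem.primaryQuot_ker_isPGroup σ₀ hσ₀.2.1 2)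
  have h2 : Nat.card (Subgroup.zpowers x) ≤ Nat.card (Stem.primaryQuot σ₀ hσ₀.2.1 2).ker :=
    Nat.card_le_card_of_injective f hf
  rw [hPc] at h2
  have h3 : 2 ^ 1 ≤ 1 := le_trans h2 h1
  omega

/-! ## The isomorphism with the Chevalley group -/

theorem K1_eq_subH : K1 = TC.subH Suz.Rels Cfsg.Agent.S1680.S := by
  unfold K1 PM.subH TC.subH
  rw [MonoidHom.map_closure]
  congr 1
  ext g
  constructor
  · rintro ⟨i, hi, rfl⟩
    have hi' : i < 6 := hi
    refine ⟨FreeGroup.of (Suz.gen i), ?_, ?_⟩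
    · interval_cases i <;> simp [Cfsg.Agent.S1680.S, Suz.gen]
    · have e : wsSUZGM.getD i [] = [i] := by interval_cases i <;> rfl
      rw [e, ← Cfsg.Agent.S1680.wordElt_single]
      rfl
  · rintro ⟨s, hs, rfl⟩
    simp only [Cfsg.Agent.S1680.S, Set.mem_insert_iff, Set.mem_singleton_iff] at hs
    rcases hs with rfl | rfl | rfl | rfl | rfl | rfl
    · exact ⟨0, by decide, congrArg (PresentedGroup.mk Suz.Rels) (Cfsg.Agent.S1680.wordElt_single 0).symm⟩
    · exact ⟨1, by decide, congrArg (PresentedGroup.mk Suz.Rels) (Cfsg.Agent.S1680.wordElt_single 1).symm⟩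
    · exact ⟨2, by decide, congrArg (PresentedGroup.mk Suz.Rels) (Cfsg.Agent.S1680.wordElt_single 2).symm⟩
    · exact ⟨3, by decide, congrArg (PresentedGroup.mk Suz.Rels) (Cfsg.Agent.S1680.wordElt_single 3).symm⟩
    · exact ⟨4, by decide, congrArg (PresentedGroup.mk Suz.Rels) (Cfsg.Agent.S1680.wordElt_single 4).symm⟩
    · exact ⟨5, by decide, congrArg (PresentedGroup.mk Suz.Rels) (Cfsg.Agent.S1680.wordElt_single 5).symm⟩

/-- the multiplier of the Chevalley group of type `G₂` over a field with four elements -/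
theorem multiplierG {F : Type u} [Field F] [Fintype F] (hF : Fintype.card F = 4) :
    Cfsg.HasCyclicSchurMultiplier ↥(Cfsg.Lie.chevG2.group F) 2 := by
  obtain ⟨e1⟩ := SuzG24.iso
  have e0 : ↥K1 ≃* ↥(TC.subH Suz.Rels Cfsg.Agent.S1680.S) := MulEquiv.subgroupCongr K1_eq_subH
  have hc : Fintype.card Cfsg.Agent.Lib.Helper1.Hexa.F4 = Fintype.card F := by rw [hF]; rfl
  have e2 : ↥(Cfsg.Lie.chevG2.group Cfsg.Agent.Lib.Helper1.Hexa.F4) ≃* ↥(Cfsg.Lie.chevG2.group F) :=
    Cfsg.Agent.Lib.Helper3.ChevRE.groupRingEquiv Cfsg.Lie.chevG2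
      (FiniteField.ringEquivOfCardEq hc)
  exact Stem.hasCyclicSchurMultiplier_of_equiv ((e0.trans e1).trans e2) 2 exists_coverG
    (fun Γ _ _ σ hσ => hubG Γ σ hσ)

end Cfsg.Agent.Lib.Helper6.SuzMu
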