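import Cfsg.Agent.Lib.Helper6.Mult.PM4
import Cfsg.Agent.Lib.Helper6.Mult.PM6
import Cfsg.Agent.Lib.Helper6.Mult.PM7
import Cfsg.Agent.Lib.Helper6.Mult.PM8
import Cfsg.Agent.Lib.Helper6.MultD.U62X
import Cfsg.Agent.Lib.Helper6.MultD.U62Ap2L
import Cfsg.Agent.Lib.Helper6.MultD.U62Ap2S
import Cfsg.Agent.Lib.Helper6.MultD.U62Ap2H
import Cfsg.Agent.Lib.Helper6.MultD.U62Bp2L
import Cfsg.Agent.Lib.Helper6.MultD.U62Bp2S
import Cfsg.Agent.Lib.Helper6.MultD.U62Bp2H
import Cfsg.Agent.Lib.Helper6.MultD.U62Bp3L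
import Cfsg.Agent.Lib.Helper6.MultD.U62Bp3S
import Cfsg.Agent.Lib.Helper6.MultD.U62Bp3H

set_option autoImplicit false
set_option maxRecDepth 100000

/-! # The presented group `U62`: the stabilizer `U5(2)` of a set of 165 points, generated by two
elements of order 5; its order, and the stabilizers in it of a set of 15 points and of a set of
160 points -/

namespace Cfsg.Agent.Lib.Helper6.U62Mu

open Cfsg.Agent.Lib.Helper6.TC Cfsg.Agent.Lib.Helper6.TCD Cfsg.Agent.Lib.Helper6.PM
open Cfsg.Agent.Lib.Helper6.MultD Cfsg.Agent.Lib.Helper6.U62M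
open Cfsg.Agent.Lib.Helper1 Cfsg.Agent.Lib.Helper1.MatCode Cfsg.Agent.Lib.Helper1.StemSA

open scoped Pointwise commutatorElement

theorem card_u62Model : Nat.card u62Model.G = 9196830720 := U62M.card_G

/-! ## The stabilizer of the first of the 672 sets, and the subgroup `U5(2)` -/

/-- the stabilizer of the first set, a group `U5(2)` -/
noncomputable abbrev KA : Subgroup u62Model.G :=
  MulAction.stabilizer u62Model.G (ptS u62Model masksU62Ap2 0)

theorem card_KA : Nat.card KA = 13685760 := by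
  have h := card_stab_sets u62Model DU62Ap2 chk_structU62Ap2 wsU62Ap2 pmU62Ap2 lwU62Ap2 coreU62Ap2
    (by decide) masksU62Ap2 chk_setsU62Ap2 chk_distinctU62Ap2
  rw [card_u62Model] at h
  have e : DU62Ap2.m = 672 := rfl
  rw [e] at h
  change Nat.card KA * 672 = 9196830720 at h
  omega

/-- the subgroup generated by the two elements of order 5 -/
noncomputable abbrev U1 : Subgroup u62Model.G := PM.subH u62Model wsU62UM

theorem wsU_lt (i : ℕ) (hi : i < wsU62UM.length) : ∀ c ∈ wsU62UM.getD i [], c < u62Model.nl := by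
  apply tabU62UM.1
  rw [List.getD_eq_getElem _ _ hi]
  exact List.getElem_mem _

theorem U1_le_KA : U1 ≤ KA := by
  unfold U1 PM.subH
  rw [Subgroup.closure_le]
  rintro _ ⟨i, hi, rfl⟩
  rw [SetLike.mem_coe, MulAction.mem_stabilizer_iff]
  have h := chk_fixAU62
  simp only [List.all_eq_true, List.mem_range, beq_iff_eq] at h
  have hi' : i < 2 := hi
  exact elt_smul_maskSet u62Model _ (wsU_lt i hi) (pmU62UM i) (tabU62UM.2 i hi) _ _
    (fun q hq => h i hi' q hq)

/-! ## The stabilizers of the first of the 16896 sets and of the first of the 5346 sets in the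
subgroup -/

/-- the stabilizer of the first of the 16896 sets, of order 810 -/
noncomputable abbrev KP : Subgroup u62U.G := MulAction.stabilizer u62U.G (ptS u62U masksU62Bp2 0)

/-- the stabilizer of the first of the 5346 sets, of order 2560 -/
noncomputable abbrev KS : Subgroup u62U.G := MulAction.stabilizer u62U.G (ptS u62U masksU62Bp3 0)

theorem card_KP_mul : Nat.card KP * 16896 = Nat.card u62U.G :=
  card_stab_sets u62U DU62Bp2 chk_structU62Bp2 wsU62Bp2 pmU62Bp2 lwU62Bp2 coreU62Bp2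
    (by decide) masksU62Bp2 chk_setsU62Bp2 chk_distinctU62Bp2

theorem card_KS_mul : Nat.card KS * 5346 = Nat.card u62U.G :=
  card_stab_sets u62U DU62Bp3 chk_structU62Bp3 wsU62Bp3 pmU62Bp3 lwU62Bp3 coreU62Bp3
    (by decide) masksU62Bp3 chk_setsU62Bp3 chk_distinctU62Bp3

instance finite_u62U : Finite u62U.G := by
  show Finite ↥U1
  infer_instance

/-- the first generator, of order 5 -/
noncomputable def x0 : u62U.G := (gs u62U wsU62Bp3).getD 0 1

theorem x0_pow : x0 ^ 5 = 1 :=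
  hpow u62U DU62Bp3 wsU62Bp3 pmU62Bp3 lwU62Bp3 coreU62Bp3 0 (by decide)

theorem x0_ne_one : x0 ≠ 1 := by
  have h := ne_one_of_move_sets u62U DU62Bp3 chk_structU62Bp3 wsU62Bp3 pmU62Bp3 lwU62Bp3
    coreU62Bp3 masksU62Bp3 chk_setsU62Bp3 chk_distinctU62Bp3 [0] (by decide) 0 (by decide)
    (by decide +kernel)
  rwa [wordProd_cons, wordProd_nil, mul_one] at h

theorem orderOf_x0 : orderOf x0 = 5 := by
  haveI : Fact (Nat.Prime 5) := ⟨by norm_num⟩
  exact orderOf_eq_prime x0_pow x0_ne_one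

/-- the involution in the stabilizer of the first of the 16896 sets -/
noncomputable def cP : u62U.G := u62U.elt cwU62

theorem cw_lt : ∀ c ∈ cwU62, c < u62U.nl := by decide

theorem cw2_lt : ∀ c ∈ cwU62 ++ cwU62, c < u62U.nl := by decide

theorem cP_mem : cP ∈ KP := by
  rw [MulAction.mem_stabilizer_iff]
  have h := chk_cwU62
  simp only [List.all_eq_true, List.mem_range, beq_iff_eq, wappS_eq] at h
  exact elt_smul_maskSet u62U cwU62 cw_lt (fun q => wapp pmU62UM cwU62 q) (fun _ _ => rfl) _ _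
    (fun q hq => h q hq)

theorem cP_sq : cP * cP = 1 := by
  unfold cP
  rw [← u62U.elt_append, ← u62U.elt_nil]
  apply u62U.elt_eq_of_wapp _ _ cw2_lt (by simp)
  have h := chk_cw2U62
  simp only [List.all_eq_true, List.mem_range, beq_iff_eq, wappS_eq] at h
  intro q hq
  exact h q hq

theorem cP_ne_one : cP ≠ 1 := by
  intro h
  have h1 := u62U.inv_elt_smul_val cwU62 cw_lt ⟨0, by decide⟩
  rw [show u62U.elt cwU62 = cP from rfl, h, inv_one, one_smul] at h1
  have h2 := chk_cwneU62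
  rw [wappS_eq] at h2
  exact h2 h1.symm

theorem orderOf_cP : orderOf cP = 2 := by
  haveI : Fact (Nat.Prime 2) := ⟨Nat.prime_two⟩
  exact orderOf_eq_prime (by rw [pow_two]; exact cP_sq) cP_ne_one

/-! ## The orders -/

/-- the arithmetic behind the orders -/
theorem cards_arith (N P S b : ℕ) (hP : P * 16896 = N) (hS : S * 5346 = N)
    (hb : 13685760 = N * b) (h5 : 5 ∣ N) (h2 : 2 ∣ P) :
    N = 13685760 ∧ P = 810 ∧ S = 2560 := by
  have h1 : 16896 ∣ N := Dvd.intro_left P hP
  have h3 : 5346 ∣ N := Dvd.intro_left S hS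
  have h4 : 33792 ∣ N := by
    obtain ⟨f, hf⟩ := h2
    exact ⟨f, by rw [← hP, hf]; ring⟩
  have hl : Nat.lcm (Nat.lcm (Nat.lcm 16896 5346) 5) 33792 ∣ N :=
    Nat.lcm_dvd (Nat.lcm_dvd (Nat.lcm_dvd h1 h3) h5) h4
  have el : Nat.lcm (Nat.lcm (Nat.lcm 16896 5346) 5) 33792 = 13685760 := by norm_num
  rw [el] at hl
  have hN : N ∣ 13685760 := Dvd.intro b hb.symm
  have e : N = 13685760 := Nat.dvd_antisymm hN hl
  subst e
  refine ⟨rfl, by omega, by omega⟩

theorem cards : Nat.card ↥U1 = 13685760 ∧ Nat.card KP = 810 ∧ Nat.card KS = 2560 := by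
  have hP := card_KP_mul
  have hS := card_KS_mul
  obtain ⟨b, hb⟩ : Nat.card ↥U1 ∣ Nat.card ↥KA := Subgroup.card_dvd_of_le U1_le_KA
  rw [card_KA] at hb
  have h5 : 5 ∣ Nat.card u62U.G := by
    rw [← orderOf_x0]
    exact orderOf_dvd_natCard x0
  have h2 : 2 ∣ Nat.card KP := by
    have h := orderOf_dvd_natCard (⟨cP, cP_mem⟩ : KP)
    have e2 : orderOf (⟨cP, cP_mem⟩ : KP) = 2 := by
      rw [← orderOf_cP]
      exact (Subgroup.orderOf_mk cP cP_mem)
    rwa [e2] at h
  exact cards_arith (Nat.card u62U.G) (Nat.card KP) (Nat.card KS) b hP hS hb h5 h2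

theorem card_U1 : Nat.card ↥U1 = 13685760 := cards.1

theorem card_KP : Nat.card KP = 810 := cards.2.1

theorem card_KS : Nat.card KS = 2560 := cards.2.2

theorem card_u62U : Nat.card u62U.G = 13685760 := card_U1

theorem U1_eq_KA : U1 = KA :=
  Subgroup.eq_of_le_of_card_ge U1_le_KA (by rw [card_KA, card_U1])

/-! ## The subgroup is perfect -/

theorem U1_perfect : commutator ↥U1 = ⊤ := by
  show commutator u62U.G = ⊤
  have hrelB := hrel u62U DU62Bp3 wsU62Bp3 pmU62Bp3 lwU62Bp3 chk_structU62Bp3 coreU62Bp3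
  have hm1 : DU62Bp3.rels.getD 1 ([], []) ∈ DU62Bp3.rels := by
    rw [List.getD_eq_getElem _ _ (by decide)]
    exact List.getElem_mem _
  have hm2 : DU62Bp3.rels.getD 11 ([], []) ∈ DU62Bp3.rels := by
    rw [List.getD_eq_getElem _ _ (by decide)]
    exact List.getElem_mem _
  apply perfect_of_two_rels (gs u62U wsU62Bp3)
    (hgen u62U DU62Bp3 wsU62Bp3 pmU62Bp3 lwU62Bp3 coreU62Bp3) 5 ?_
    (DU62Bp3.rels.getD 1 ([], [])) (DU62Bp3.rels.getD 11 ([], [])) (by decide) (by decide)
    (hrelB _ hm1) (hrelB _ hm2) (by decide +kernel)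
  intro i hi
  have h := hpow u62U DU62Bp3 wsU62Bp3 pmU62Bp3 lwU62Bp3 coreU62Bp3 i hi
  interval_cases i
  · exact h
  · exact h

end Cfsg.Agent.Lib.Helper6.U62Mu
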