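import Cfsg.Agent.Lib.Helper6.Mult.U62E2a0

set_option autoImplicit false
set_option maxRecDepth 100000
set_option Elab.async false

namespace Cfsg.Agent.Lib.Helper6.Mult.U62E2

open Cfsg.Spor Cfsg.Agent.Lib.Helper6.TC Cfsg.Agent.Lib.Helper6.TCD Cfsg.Agent.Lib.Helper6.Simp
open Cfsg.Agent.Lib.Helper6.TCP.Fi22 Cfsg.Agent.Lib.Helper6.DC
open Cfsg.Agent.Lib.Helper6.Fi22U62

theorem ht20_0 : chkIdR (trel 20) 0 3510 = true := by decide +kernel

theorem ht20 : ∀ p < 3510, wapp Fi22a.px (trel 20) p = p := by
  refine id_of_chunks _ 1 3510 rfl ?_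
  intro k hk
  interval_cases k
  · exact ht20_0

theorem ht21_0 : chkIdR (trel 21) 0 3510 = true := by decide +kernel

theorem ht21 : ∀ p < 3510, wapp Fi22a.px (trel 21) p = p := by
  refine id_of_chunks _ 1 3510 rfl ?_
  intro k hk
  interval_cases k
  · exact ht21_0

theorem ht22_0 : chkIdR (trel 22) 0 3510 = true := by decide +kernel

theorem ht22 : ∀ p < 3510, wapp Fi22a.px (trel 22) p = p := by
  refine id_of_chunks _ 1 3510 rfl ?_
  intro k hk
  interval_cases k
  · exact ht22_0

theorem ht23_0 : chkIdR (trel 23) 0 1170 = true := by decide +kernel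

theorem ht23_1 : chkIdR (trel 23) 1170 1170 = true := by decide +kernel

theorem ht23_2 : chkIdR (trel 23) 2340 1170 = true := by decide +kernel

theorem ht23 : ∀ p < 3510, wapp Fi22a.px (trel 23) p = p := by
  refine id_of_chunks _ 3 1170 rfl ?_
  intro k hk
  interval_cases k
  · exact ht23_0
  · exact ht23_1
  · exact ht23_2

theorem ht24_0 : chkIdR (trel 24) 0 1755 = true := by decide +kernel

theorem ht24_1 : chkIdR (trel 24) 1755 1755 = true := by decide +kernel

theorem ht24 : ∀ p < 3510, wapp Fi22a.px (trel 24) p = p := by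
  refine id_of_chunks _ 2 1755 rfl ?_
  intro k hk
  interval_cases k
  · exact ht24_0
  · exact ht24_1

theorem ht25_0 : chkIdR (trel 25) 0 3510 = true := by decide +kernel

theorem ht25 : ∀ p < 3510, wapp Fi22a.px (trel 25) p = p := by
  refine id_of_chunks _ 1 3510 rfl ?_
  intro k hk
  interval_cases k
  · exact ht25_0

theorem ht26_0 : chkIdR (trel 26) 0 3510 = true := by decide +kernel

theorem ht26 : ∀ p < 3510, wapp Fi22a.px (trel 26) p = p := by
  refine id_of_chunks _ 1 3510 rfl ?_
  intro k hk
  interval_cases k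
  · exact ht26_0

theorem ht27_0 : chkIdR (trel 27) 0 1170 = true := by decide +kernel

theorem ht27_1 : chkIdR (trel 27) 1170 1170 = true := by decide +kernel

theorem ht27_2 : chkIdR (trel 27) 2340 1170 = true := by decide +kernel

theorem ht27 : ∀ p < 3510, wapp Fi22a.px (trel 27) p = p := by
  refine id_of_chunks _ 3 1170 rfl ?_
  intro k hk
  interval_cases k
  · exact ht27_0
  · exact ht27_1
  · exact ht27_2

theorem ht28_0 : chkIdR (trel 28) 0 1755 = true := by decide +kernel

theorem ht28_1 : chkIdR (trel 28) 1755 1755 = true := by decide +kernel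

theorem ht28 : ∀ p < 3510, wapp Fi22a.px (trel 28) p = p := by
  refine id_of_chunks _ 2 1755 rfl ?_
  intro k hk
  interval_cases k
  · exact ht28_0
  · exact ht28_1

theorem ht29_0 : chkIdR (trel 29) 0 1755 = true := by decide +kernel

theorem ht29_1 : chkIdR (trel 29) 1755 1755 = true := by decide +kernel

theorem ht29 : ∀ p < 3510, wapp Fi22a.px (trel 29) p = p := by
  refine id_of_chunks _ 2 1755 rfl ?_
  intro k hk
  interval_cases k
  · exact ht29_0
  · exact ht29_1

theorem ht30_0 : chkIdR (trel 30) 0 1170 = true := by decide +kernel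

theorem ht30_1 : chkIdR (trel 30) 1170 1170 = true := by decide +kernel

theorem ht30_2 : chkIdR (trel 30) 2340 1170 = true := by decide +kernel

theorem ht30 : ∀ p < 3510, wapp Fi22a.px (trel 30) p = p := by
  refine id_of_chunks _ 3 1170 rfl ?_
  intro k hk
  interval_cases k
  · exact ht30_0
  · exact ht30_1
  · exact ht30_2

theorem ht31_0 : chkIdR (trel 31) 0 1755 = true := by decide +kernel

theorem ht31_1 : chkIdR (trel 31) 1755 1755 = true := by decide +kernel

theorem ht31 : ∀ p < 3510, wapp Fi22a.px (trel 31) p = p := by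
  refine id_of_chunks _ 2 1755 rfl ?_
  intro k hk
  interval_cases k
  · exact ht31_0
  · exact ht31_1

theorem ht32_0 : chkIdR (trel 32) 0 3510 = true := by decide +kernel

theorem ht32 : ∀ p < 3510, wapp Fi22a.px (trel 32) p = p := by
  refine id_of_chunks _ 1 3510 rfl ?_
  intro k hk
  interval_cases k
  · exact ht32_0

theorem ht33_0 : chkIdR (trel 33) 0 585 = true := by decide +kernel

theorem ht33_1 : chkIdR (trel 33) 585 585 = true := by decide +kernel

theorem ht33_2 : chkIdR (trel 33) 1170 585 = true := by decide +kernel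

theorem ht33_3 : chkIdR (trel 33) 1755 585 = true := by decide +kernel

theorem ht33_4 : chkIdR (trel 33) 2340 585 = true := by decide +kernel

theorem ht33_5 : chkIdR (trel 33) 2925 585 = true := by decide +kernel

theorem ht33 : ∀ p < 3510, wapp Fi22a.px (trel 33) p = p := by
  refine id_of_chunks _ 6 585 rfl ?_
  intro k hk
  interval_cases k
  · exact ht33_0
  · exact ht33_1
  · exact ht33_2
  · exact ht33_3
  · exact ht33_4
  · exact ht33_5

theorem ht34_0 : chkIdR (trel 34) 0 1170 = true := by decide +kernel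

theorem ht34_1 : chkIdR (trel 34) 1170 1170 = true := by decide +kernel

theorem ht34_2 : chkIdR (trel 34) 2340 1170 = true := by decide +kernel

theorem ht34 : ∀ p < 3510, wapp Fi22a.px (trel 34) p = p := by
  refine id_of_chunks _ 3 1170 rfl ?_
  intro k hk
  interval_cases k
  · exact ht34_0
  · exact ht34_1
  · exact ht34_2

end Cfsg.Agent.Lib.Helper6.Mult.U62E2
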