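import Cfsg.Agent.Lib.Helper6.Mult.U62E2a0

set_option autoImplicit false
set_option maxRecDepth 100000
set_option Elab.async false

namespace Cfsg.Agent.Lib.Helper6.Mult.U62E2

open Cfsg.Spor Cfsg.Agent.Lib.Helper6.TC Cfsg.Agent.Lib.Helper6.TCD Cfsg.Agent.Lib.Helper6.Simp
open Cfsg.Agent.Lib.Helper6.TCP.Fi22 Cfsg.Agent.Lib.Helper6.DC
open Cfsg.Agent.Lib.Helper6.Fi22U62

theorem ht35_0 : chkIdR (trel 35) 0 702 = true := by decide +kernel

theorem ht35_1 : chkIdR (trel 35) 702 702 = true := by decide +kernel

theorem ht35_2 : chkIdR (trel 35) 1404 702 = true := by decide +kernel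

theorem ht35_3 : chkIdR (trel 35) 2106 702 = true := by decide +kernel

theorem ht35_4 : chkIdR (trel 35) 2808 702 = true := by decide +kernel

theorem ht35 : ∀ p < 3510, wapp Fi22a.px (trel 35) p = p := by
  refine id_of_chunks _ 5 702 rfl ?_
  intro k hk
  interval_cases k
  · exact ht35_0
  · exact ht35_1
  · exact ht35_2
  · exact ht35_3
  · exact ht35_4

theorem ht36_0 : chkIdR (trel 36) 0 195 = true := by decide +kernel

theorem ht36_1 : chkIdR (trel 36) 195 195 = true := by decide +kernel

theorem ht36_2 : chkIdR (trel 36) 390 195 = true := by decide +kernel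

theorem ht36_3 : chkIdR (trel 36) 585 195 = true := by decide +kernel

theorem ht36_4 : chkIdR (trel 36) 780 195 = true := by decide +kernel

theorem ht36_5 : chkIdR (trel 36) 975 195 = true := by decide +kernel

theorem ht36_6 : chkIdR (trel 36) 1170 195 = true := by decide +kernel

theorem ht36_7 : chkIdR (trel 36) 1365 195 = true := by decide +kernel

theorem ht36_8 : chkIdR (trel 36) 1560 195 = true := by decide +kernel

theorem ht36_9 : chkIdR (trel 36) 1755 195 = true := by decide +kernel

theorem ht36_10 : chkIdR (trel 36) 1950 195 = true := by decide +kernel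

theorem ht36_11 : chkIdR (trel 36) 2145 195 = true := by decide +kernel

theorem ht36_12 : chkIdR (trel 36) 2340 195 = true := by decide +kernel

theorem ht36_13 : chkIdR (trel 36) 2535 195 = true := by decide +kernel

theorem ht36_14 : chkIdR (trel 36) 2730 195 = true := by decide +kernel

theorem ht36_15 : chkIdR (trel 36) 2925 195 = true := by decide +kernel

theorem ht36_16 : chkIdR (trel 36) 3120 195 = true := by decide +kernel

theorem ht36_17 : chkIdR (trel 36) 3315 195 = true := by decide +kernel

theorem ht36 : ∀ p < 3510, wapp Fi22a.px (trel 36) p = p := by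
  refine id_of_chunks _ 18 195 rfl ?_
  intro k hk
  interval_cases k
  · exact ht36_0
  · exact ht36_1
  · exact ht36_2
  · exact ht36_3
  · exact ht36_4
  · exact ht36_5
  · exact ht36_6
  · exact ht36_7
  · exact ht36_8
  · exact ht36_9
  · exact ht36_10
  · exact ht36_11
  · exact ht36_12
  · exact ht36_13
  · exact ht36_14
  · exact ht36_15
  · exact ht36_16
  · exact ht36_17

theorem ht37_0 : chkAR (trel 37) 0 270 = true := by decide +kernel

theorem ht37_1 : chkAR (trel 37) 270 270 = true := by decide +kernel

theorem ht37_2 : chkAR (trel 37) 540 270 = true := by decide +kernel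

theorem ht37_3 : chkAR (trel 37) 810 270 = true := by decide +kernel

theorem ht37_4 : chkAR (trel 37) 1080 270 = true := by decide +kernel

theorem ht37_5 : chkAR (trel 37) 1350 270 = true := by decide +kernel

theorem ht37_6 : chkAR (trel 37) 1620 270 = true := by decide +kernel

theorem ht37_7 : chkAR (trel 37) 1890 270 = true := by decide +kernel

theorem ht37_8 : chkAR (trel 37) 2160 270 = true := by decide +kernel

theorem ht37_9 : chkAR (trel 37) 2430 270 = true := by decide +kernel

theorem ht37_10 : chkAR (trel 37) 2700 270 = true := by decide +kernel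

theorem ht37_11 : chkAR (trel 37) 2970 270 = true := by decide +kernel

theorem ht37_12 : chkAR (trel 37) 3240 270 = true := by decide +kernel

theorem ht37 : ∀ p < 3510, wapp Fi22a.px (trel 37) p = wapp Fi22a.px [0] p := by
  refine a_of_chunks _ 13 270 rfl ?_
  intro k hk
  interval_cases k
  · exact ht37_0
  · exact ht37_1
  · exact ht37_2
  · exact ht37_3
  · exact ht37_4
  · exact ht37_5
  · exact ht37_6
  · exact ht37_7
  · exact ht37_8
  · exact ht37_9
  · exact ht37_10
  · exact ht37_11
  · exact ht37_12

end Cfsg.Agent.Lib.Helper6.Mult.U62E2
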