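import Cfsg.Agent.Lib.Helper6.Mult.U62E2a0

set_option autoImplicit false
set_option maxRecDepth 100000
set_option Elab.async false

namespace Cfsg.Agent.Lib.Helper6.Mult.U62E2

open Cfsg.Spor Cfsg.Agent.Lib.Helper6.TC Cfsg.Agent.Lib.Helper6.TCD Cfsg.Agent.Lib.Helper6.Simp
open Cfsg.Agent.Lib.Helper6.TCP.Fi22 Cfsg.Agent.Lib.Helper6.DC
open Cfsg.Agent.Lib.Helper6.Fi22U62

theorem ht38_0 : chkAR (trel 38) 0 270 = true := by decide +kernel

theorem ht38_1 : chkAR (trel 38) 270 270 = true := by decide +kernel

theorem ht38_2 : chkAR (trel 38) 540 270 = true := by decide +kernel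

theorem ht38_3 : chkAR (trel 38) 810 270 = true := by decide +kernel

theorem ht38_4 : chkAR (trel 38) 1080 270 = true := by decide +kernel

theorem ht38_5 : chkAR (trel 38) 1350 270 = true := by decide +kernel

theorem ht38_6 : chkAR (trel 38) 1620 270 = true := by decide +kernel

theorem ht38_7 : chkAR (trel 38) 1890 270 = true := by decide +kernel

theorem ht38_8 : chkAR (trel 38) 2160 270 = true := by decide +kernel

theorem ht38_9 : chkAR (trel 38) 2430 270 = true := by decide +kernel

theorem ht38_10 : chkAR (trel 38) 2700 270 = true := by decide +kernel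

theorem ht38_11 : chkAR (trel 38) 2970 270 = true := by decide +kernel

theorem ht38_12 : chkAR (trel 38) 3240 270 = true := by decide +kernel

theorem ht38 : ∀ p < 3510, wapp Fi22a.px (trel 38) p = wapp Fi22a.px [0] p := by
  refine a_of_chunks _ 13 270 rfl ?_
  intro k hk
  interval_cases k
  · exact ht38_0
  · exact ht38_1
  · exact ht38_2
  · exact ht38_3
  · exact ht38_4
  · exact ht38_5
  · exact ht38_6
  · exact ht38_7
  · exact ht38_8
  · exact ht38_9
  · exact ht38_10
  · exact ht38_11
  · exact ht38_12

theorem ht39_0 : chkIdR (trel 39) 0 351 = true := by decide +kernel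

theorem ht39_1 : chkIdR (trel 39) 351 351 = true := by decide +kernel

theorem ht39_2 : chkIdR (trel 39) 702 351 = true := by decide +kernel

theorem ht39_3 : chkIdR (trel 39) 1053 351 = true := by decide +kernel

theorem ht39_4 : chkIdR (trel 39) 1404 351 = true := by decide +kernel

theorem ht39_5 : chkIdR (trel 39) 1755 351 = true := by decide +kernel

theorem ht39_6 : chkIdR (trel 39) 2106 351 = true := by decide +kernel

theorem ht39_7 : chkIdR (trel 39) 2457 351 = true := by decide +kernel

theorem ht39_8 : chkIdR (trel 39) 2808 351 = true := by decide +kernel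

theorem ht39_9 : chkIdR (trel 39) 3159 351 = true := by decide +kernel

theorem ht39 : ∀ p < 3510, wapp Fi22a.px (trel 39) p = p := by
  refine id_of_chunks _ 10 351 rfl ?_
  intro k hk
  interval_cases k
  · exact ht39_0
  · exact ht39_1
  · exact ht39_2
  · exact ht39_3
  · exact ht39_4
  · exact ht39_5
  · exact ht39_6
  · exact ht39_7
  · exact ht39_8
  · exact ht39_9

theorem ht40_0 : chkIdR (trel 40) 0 585 = true := by decide +kernel

theorem ht40_1 : chkIdR (trel 40) 585 585 = true := by decide +kernel

theorem ht40_2 : chkIdR (trel 40) 1170 585 = true := by decide +kernel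

theorem ht40_3 : chkIdR (trel 40) 1755 585 = true := by decide +kernel

theorem ht40_4 : chkIdR (trel 40) 2340 585 = true := by decide +kernel

theorem ht40_5 : chkIdR (trel 40) 2925 585 = true := by decide +kernel

theorem ht40 : ∀ p < 3510, wapp Fi22a.px (trel 40) p = p := by
  refine id_of_chunks _ 6 585 rfl ?_
  intro k hk
  interval_cases k
  · exact ht40_0
  · exact ht40_1
  · exact ht40_2
  · exact ht40_3
  · exact ht40_4
  · exact ht40_5

end Cfsg.Agent.Lib.Helper6.Mult.U62E2
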