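import Cfsg.Agent.Lib.Helper6.Mult.U62E2a0

set_option autoImplicit false
set_option maxRecDepth 100000
set_option Elab.async false

namespace Cfsg.Agent.Lib.Helper6.Mult.U62E2

open Cfsg.Spor Cfsg.Agent.Lib.Helper6.TC Cfsg.Agent.Lib.Helper6.TCD Cfsg.Agent.Lib.Helper6.Simp
open Cfsg.Agent.Lib.Helper6.TCP.Fi22 Cfsg.Agent.Lib.Helper6.DC
open Cfsg.Agent.Lib.Helper6.Fi22U62

theorem ht41_0 : chkIdR (trel 41) 0 1755 = true := by decide +kernel

theorem ht41_1 : chkIdR (trel 41) 1755 1755 = true := by decide +kernel

theorem ht41 : ∀ p < 3510, wapp Fi22a.px (trel 41) p = p := by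
  refine id_of_chunks _ 2 1755 rfl ?_
  intro k hk
  interval_cases k
  · exact ht41_0
  · exact ht41_1

theorem ht42_0 : chkIdR (trel 42) 0 1755 = true := by decide +kernel

theorem ht42_1 : chkIdR (trel 42) 1755 1755 = true := by decide +kernel

theorem ht42 : ∀ p < 3510, wapp Fi22a.px (trel 42) p = p := by
  refine id_of_chunks _ 2 1755 rfl ?_
  intro k hk
  interval_cases k
  · exact ht42_0
  · exact ht42_1

theorem ht43_0 : chkIdR (trel 43) 0 1755 = true := by decide +kernel

theorem ht43_1 : chkIdR (trel 43) 1755 1755 = true := by decide +kernel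

theorem ht43 : ∀ p < 3510, wapp Fi22a.px (trel 43) p = p := by
  refine id_of_chunks _ 2 1755 rfl ?_
  intro k hk
  interval_cases k
  · exact ht43_0
  · exact ht43_1

theorem ht44_0 : chkIdR (trel 44) 0 1755 = true := by decide +kernel

theorem ht44_1 : chkIdR (trel 44) 1755 1755 = true := by decide +kernel

theorem ht44 : ∀ p < 3510, wapp Fi22a.px (trel 44) p = p := by
  refine id_of_chunks _ 2 1755 rfl ?_
  intro k hk
  interval_cases k
  · exact ht44_0
  · exact ht44_1

theorem ht45_0 : chkIdR (trel 45) 0 702 = true := by decide +kernel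

theorem ht45_1 : chkIdR (trel 45) 702 702 = true := by decide +kernel

theorem ht45_2 : chkIdR (trel 45) 1404 702 = true := by decide +kernel

theorem ht45_3 : chkIdR (trel 45) 2106 702 = true := by decide +kernel

theorem ht45_4 : chkIdR (trel 45) 2808 702 = true := by decide +kernel

theorem ht45 : ∀ p < 3510, wapp Fi22a.px (trel 45) p = p := by
  refine id_of_chunks _ 5 702 rfl ?_
  intro k hk
  interval_cases k
  · exact ht45_0
  · exact ht45_1
  · exact ht45_2
  · exact ht45_3
  · exact ht45_4

theorem ht46_0 : chkIdR (trel 46) 0 1170 = true := by decide +kernel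

theorem ht46_1 : chkIdR (trel 46) 1170 1170 = true := by decide +kernel

theorem ht46_2 : chkIdR (trel 46) 2340 1170 = true := by decide +kernel

theorem ht46 : ∀ p < 3510, wapp Fi22a.px (trel 46) p = p := by
  refine id_of_chunks _ 3 1170 rfl ?_
  intro k hk
  interval_cases k
  · exact ht46_0
  · exact ht46_1
  · exact ht46_2

theorem ht47_0 : chkIdR (trel 47) 0 1170 = true := by decide +kernel

theorem ht47_1 : chkIdR (trel 47) 1170 1170 = true := by decide +kernel

theorem ht47_2 : chkIdR (trel 47) 2340 1170 = true := by decide +kernel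

theorem ht47 : ∀ p < 3510, wapp Fi22a.px (trel 47) p = p := by
  refine id_of_chunks _ 3 1170 rfl ?_
  intro k hk
  interval_cases k
  · exact ht47_0
  · exact ht47_1
  · exact ht47_2

theorem ht48_0 : chkIdR (trel 48) 0 1170 = true := by decide +kernel

theorem ht48_1 : chkIdR (trel 48) 1170 1170 = true := by decide +kernel

theorem ht48_2 : chkIdR (trel 48) 2340 1170 = true := by decide +kernel

theorem ht48 : ∀ p < 3510, wapp Fi22a.px (trel 48) p = p := by
  refine id_of_chunks _ 3 1170 rfl ?_
  intro k hk
  interval_cases k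
  · exact ht48_0
  · exact ht48_1
  · exact ht48_2

theorem ht49_0 : chkIdR (trel 49) 0 3510 = true := by decide +kernel

theorem ht49 : ∀ p < 3510, wapp Fi22a.px (trel 49) p = p := by
  refine id_of_chunks _ 1 3510 rfl ?_
  intro k hk
  interval_cases k
  · exact ht49_0

theorem ht50_0 : chkIdR (trel 50) 0 3510 = true := by decide +kernel

theorem ht50 : ∀ p < 3510, wapp Fi22a.px (trel 50) p = p := by
  refine id_of_chunks _ 1 3510 rfl ?_
  intro k hk
  interval_cases k
  · exact ht50_0

theorem ht51_0 : chkIdR (trel 51) 0 3510 = true := by decide +kernel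

theorem ht51 : ∀ p < 3510, wapp Fi22a.px (trel 51) p = p := by
  refine id_of_chunks _ 1 3510 rfl ?_
  intro k hk
  interval_cases k
  · exact ht51_0

end Cfsg.Agent.Lib.Helper6.Mult.U62E2
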