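import Cfsg.Agent.Lib.Helper6.Mult.U62E2a1
import Cfsg.Agent.Lib.Helper6.Mult.U62E2a2
import Cfsg.Agent.Lib.Helper6.Mult.U62E2a3
import Cfsg.Agent.Lib.Helper6.Mult.U62E2a4
import Cfsg.Agent.Lib.Helper6.Mult.U62E2a5

set_option autoImplicit false
set_option maxRecDepth 100000
set_option Elab.async false

namespace Cfsg.Agent.Lib.Helper6.Mult.U62E2

open Cfsg.Spor Cfsg.Agent.Lib.Helper6.TC Cfsg.Agent.Lib.Helper6.TCD Cfsg.Agent.Lib.Helper6.Simp
open Cfsg.Agent.Lib.Helper6.TCP.Fi22 Cfsg.Agent.Lib.Helper6.DC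
open Cfsg.Agent.Lib.Helper6.Fi22U62

theorem hltT : ∀ b ∈ TCP.U62.base, ∀ c ∈ expand (twist b), c < 9 := by decide +kernel

theorem hchkT_idx : ∀ j < 52, j ≠ 37 → j ≠ 38 → ∀ p < 3510, wapp Fi22a.px (trel j) p = p := by
  intro j hj h37 h38
  interval_cases j
  · exact ht0
  · exact ht1
  · exact ht2
  · exact ht3
  · exact ht4
  · exact ht5
  · exact ht6
  · exact ht7
  · exact ht8
  · exact ht9
  · exact ht10
  · exact ht11
  · exact ht12
  · exact ht13
  · exact ht14
  · exact ht15
  · exact ht16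
  · exact ht17
  · exact ht18
  · exact ht19
  · exact ht20
  · exact ht21
  · exact ht22
  · exact ht23
  · exact ht24
  · exact ht25
  · exact ht26
  · exact ht27
  · exact ht28
  · exact ht29
  · exact ht30
  · exact ht31
  · exact ht32
  · exact ht33
  · exact ht34
  · exact ht35
  · exact ht36
  · exact absurd rfl h37
  · exact absurd rfl h38
  · exact ht39
  · exact ht40
  · exact ht41
  · exact ht42
  · exact ht43
  · exact ht44
  · exact ht45
  · exact ht46
  · exact ht47
  · exact ht48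
  · exact ht49
  · exact ht50
  · exact ht51

end Cfsg.Agent.Lib.Helper6.Mult.U62E2

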