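import Cfsg.Agent.Lib.Helper6.Spor.Fi22U62

set_option autoImplicit false
set_option maxRecDepth 100000
set_option Elab.async false

namespace Cfsg.Agent.Lib.Helper6.Mult.U62E2

open Cfsg.Spor Cfsg.Agent.Lib.Helper6.TC Cfsg.Agent.Lib.Helper6.TCD Cfsg.Agent.Lib.Helper6.Simp
open Cfsg.Agent.Lib.Helper6.TCP.Fi22 Cfsg.Agent.Lib.Helper6.DC
open Cfsg.Agent.Lib.Helper6.Fi22U62

/-! # A second double cover of the unitary group `PSU(6, 2)` inside the centraliser of a
`3`-transposition of `Fi₂₂`: the generators twisted by a diagonal automorphism -/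

/-- the twisted generators as words in the generators of the unitary group -/
def twl (i : ℕ) : List ℕ :=
  [[0], [1], [2], [3], [4], [6, 1, 2, 3, 4, 5, 1, 2, 3, 7, 3, 2, 1, 5, 4, 3, 2, 1, 6], [6, 5, 1, 2, 0, 1, 5, 6, 3, 2, 1, 5, 4, 3, 2, 1, 0, 1, 2, 3, 4, 5, 1, 2, 3, 6, 5, 1, 0, 2, 1, 5, 6], [6, 3, 2, 1, 5, 4, 3, 2, 1, 0, 1, 2, 3, 4, 5, 1, 2, 3, 6]].getD i []

/-- a word in the twisted generators as a word in the generators -/
def twist (b : List ℕ) : List ℕ := (b.map twl).flatten

theorem twist_cons (c : ℕ) (b : List ℕ) : twist (c :: b) = twl c ++ twist b := by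
  unfold twist
  rw [List.map_cons, List.flatten_cons]

/-- the check that a word fixes the points of a range -/
noncomputable def chkIdR (w : List ℕ) (lo len : ℕ) : Bool :=
  allR (fun p => Nat.beq (wapp Fi22a.px w p) p) lo len

/-- the check that a word acts as the central involution on the points of a range -/
noncomputable def chkAR (w : List ℕ) (lo len : ℕ) : Bool :=
  allR (fun p => Nat.beq (wapp Fi22a.px w p) (wapp Fi22a.px [0] p)) lo len

theorem id_of_chunks (w : List ℕ) (K sz : ℕ) (hK : K * sz = 3510)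
    (h : ∀ k < K, chkIdR w (k * sz) sz = true) : ∀ p < 3510, wapp Fi22a.px w p = p := by
  intro p hp
  have hsz : 0 < sz := by
    rcases Nat.eq_zero_or_pos sz with h0 | h0
    · subst h0
      omega
    · exact h0
  have hk : p / sz < K := by
    rw [Nat.div_lt_iff_lt_mul hsz]
    omega
  have h1 := Nat.div_add_mod p sz
  have h2 := Nat.mod_lt p hsz
  have h3 : p / sz * sz = sz * (p / sz) := Nat.mul_comm _ _
  exact Nat.eq_of_beq_eq_true (allR_spec (h (p / sz) hk) p (by omega) (by omega))

theorem a_of_chunks (w : List ℕ) (K sz : ℕ) (hK : K * sz = 3510)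
    (h : ∀ k < K, chkAR w (k * sz) sz = true) :
    ∀ p < 3510, wapp Fi22a.px w p = wapp Fi22a.px [0] p := by
  intro p hp
  have hsz : 0 < sz := by
    rcases Nat.eq_zero_or_pos sz with h0 | h0
    · subst h0
      omega
    · exact h0
  have hk : p / sz < K := by
    rw [Nat.div_lt_iff_lt_mul hsz]
    omega
  have h1 := Nat.div_add_mod p sz
  have h2 := Nat.mod_lt p hsz
  have h3 : p / sz * sz = sz * (p / sz) := Nat.mul_comm _ _
  exact Nat.eq_of_beq_eq_true (allR_spec (h (p / sz) hk) p (by omega) (by omega))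

/-- the twisted relator of a given index -/
def trel (j : ℕ) : List ℕ := expand (twist (TCP.U62.base.getD j []))

end Cfsg.Agent.Lib.Helper6.Mult.U62E2
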