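import Cfsg.Agent.Lib.Helper6.Mult.U62E2a0

set_option autoImplicit false
set_option maxRecDepth 100000
set_option Elab.async false

namespace Cfsg.Agent.Lib.Helper6.Mult.U62E2

open Cfsg.Spor Cfsg.Agent.Lib.Helper6.TC Cfsg.Agent.Lib.Helper6.TCD Cfsg.Agent.Lib.Helper6.Simp
open Cfsg.Agent.Lib.Helper6.TCP.Fi22 Cfsg.Agent.Lib.Helper6.DC
open Cfsg.Agent.Lib.Helper6.Fi22U62

theorem ht0_0 : chkIdR (trel 0) 0 3510 = true := by decide +kernel

theorem ht0 : ∀ p < 3510, wapp Fi22a.px (trel 0) p = p := by
  refine id_of_chunks _ 1 3510 rfl ?_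
  intro k hk
  interval_cases k
  · exact ht0_0

theorem ht1_0 : chkIdR (trel 1) 0 3510 = true := by decide +kernel

theorem ht1 : ∀ p < 3510, wapp Fi22a.px (trel 1) p = p := by
  refine id_of_chunks _ 1 3510 rfl ?_
  intro k hk
  interval_cases k
  · exact ht1_0

theorem ht2_0 : chkIdR (trel 2) 0 3510 = true := by decide +kernel

theorem ht2 : ∀ p < 3510, wapp Fi22a.px (trel 2) p = p := by
  refine id_of_chunks _ 1 3510 rfl ?_
  intro k hk
  interval_cases k
  · exact ht2_0

theorem ht3_0 : chkIdR (trel 3) 0 3510 = true := by decide +kernel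

theorem ht3 : ∀ p < 3510, wapp Fi22a.px (trel 3) p = p := by
  refine id_of_chunks _ 1 3510 rfl ?_
  intro k hk
  interval_cases k
  · exact ht3_0

theorem ht4_0 : chkIdR (trel 4) 0 3510 = true := by decide +kernel

theorem ht4 : ∀ p < 3510, wapp Fi22a.px (trel 4) p = p := by
  refine id_of_chunks _ 1 3510 rfl ?_
  intro k hk
  interval_cases k
  · exact ht4_0

theorem ht5_0 : chkIdR (trel 5) 0 1170 = true := by decide +kernel

theorem ht5_1 : chkIdR (trel 5) 1170 1170 = true := by decide +kernel

theorem ht5_2 : chkIdR (trel 5) 2340 1170 = true := by decide +kernel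

theorem ht5 : ∀ p < 3510, wapp Fi22a.px (trel 5) p = p := by
  refine id_of_chunks _ 3 1170 rfl ?_
  intro k hk
  interval_cases k
  · exact ht5_0
  · exact ht5_1
  · exact ht5_2

theorem ht6_0 : chkIdR (trel 6) 0 1755 = true := by decide +kernel

theorem ht6_1 : chkIdR (trel 6) 1755 1755 = true := by decide +kernel

theorem ht6 : ∀ p < 3510, wapp Fi22a.px (trel 6) p = p := by
  refine id_of_chunks _ 2 1755 rfl ?_
  intro k hk
  interval_cases k
  · exact ht6_0
  · exact ht6_1

theorem ht7_0 : chkIdR (trel 7) 0 3510 = true := by decide +kernel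

theorem ht7 : ∀ p < 3510, wapp Fi22a.px (trel 7) p = p := by
  refine id_of_chunks _ 1 3510 rfl ?_
  intro k hk
  interval_cases k
  · exact ht7_0

theorem ht8_0 : chkIdR (trel 8) 0 3510 = true := by decide +kernel

theorem ht8 : ∀ p < 3510, wapp Fi22a.px (trel 8) p = p := by
  refine id_of_chunks _ 1 3510 rfl ?_
  intro k hk
  interval_cases k
  · exact ht8_0

theorem ht9_0 : chkIdR (trel 9) 0 3510 = true := by decide +kernel

theorem ht9 : ∀ p < 3510, wapp Fi22a.px (trel 9) p = p := by
  refine id_of_chunks _ 1 3510 rfl ?_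
  intro k hk
  interval_cases k
  · exact ht9_0

theorem ht10_0 : chkIdR (trel 10) 0 3510 = true := by decide +kernel

theorem ht10 : ∀ p < 3510, wapp Fi22a.px (trel 10) p = p := by
  refine id_of_chunks _ 1 3510 rfl ?_
  intro k hk
  interval_cases k
  · exact ht10_0

theorem ht11_0 : chkIdR (trel 11) 0 3510 = true := by decide +kernel

theorem ht11 : ∀ p < 3510, wapp Fi22a.px (trel 11) p = p := by
  refine id_of_chunks _ 1 3510 rfl ?_
  intro k hk
  interval_cases k
  · exact ht11_0

theorem ht12_0 : chkIdR (trel 12) 0 1170 = true := by decide +kernel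

theorem ht12_1 : chkIdR (trel 12) 1170 1170 = true := by decide +kernel

theorem ht12_2 : chkIdR (trel 12) 2340 1170 = true := by decide +kernel

theorem ht12 : ∀ p < 3510, wapp Fi22a.px (trel 12) p = p := by
  refine id_of_chunks _ 3 1170 rfl ?_
  intro k hk
  interval_cases k
  · exact ht12_0
  · exact ht12_1
  · exact ht12_2

theorem ht13_0 : chkIdR (trel 13) 0 1755 = true := by decide +kernel

theorem ht13_1 : chkIdR (trel 13) 1755 1755 = true := by decide +kernel

theorem ht13 : ∀ p < 3510, wapp Fi22a.px (trel 13) p = p := by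
  refine id_of_chunks _ 2 1755 rfl ?_
  intro k hk
  interval_cases k
  · exact ht13_0
  · exact ht13_1

theorem ht14_0 : chkIdR (trel 14) 0 3510 = true := by decide +kernel

theorem ht14 : ∀ p < 3510, wapp Fi22a.px (trel 14) p = p := by
  refine id_of_chunks _ 1 3510 rfl ?_
  intro k hk
  interval_cases k
  · exact ht14_0

theorem ht15_0 : chkIdR (trel 15) 0 3510 = true := by decide +kernel

theorem ht15 : ∀ p < 3510, wapp Fi22a.px (trel 15) p = p := by
  refine id_of_chunks _ 1 3510 rfl ?_
  intro k hk
  interval_cases k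
  · exact ht15_0

theorem ht16_0 : chkIdR (trel 16) 0 3510 = true := by decide +kernel

theorem ht16 : ∀ p < 3510, wapp Fi22a.px (trel 16) p = p := by
  refine id_of_chunks _ 1 3510 rfl ?_
  intro k hk
  interval_cases k
  · exact ht16_0

theorem ht17_0 : chkIdR (trel 17) 0 3510 = true := by decide +kernel

theorem ht17 : ∀ p < 3510, wapp Fi22a.px (trel 17) p = p := by
  refine id_of_chunks _ 1 3510 rfl ?_
  intro k hk
  interval_cases k
  · exact ht17_0

theorem ht18_0 : chkIdR (trel 18) 0 702 = true := by decide +kernel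

theorem ht18_1 : chkIdR (trel 18) 702 702 = true := by decide +kernel

theorem ht18_2 : chkIdR (trel 18) 1404 702 = true := by decide +kernel

theorem ht18_3 : chkIdR (trel 18) 2106 702 = true := by decide +kernel

theorem ht18_4 : chkIdR (trel 18) 2808 702 = true := by decide +kernel

theorem ht18 : ∀ p < 3510, wapp Fi22a.px (trel 18) p = p := by
  refine id_of_chunks _ 5 702 rfl ?_
  intro k hk
  interval_cases k
  · exact ht18_0
  · exact ht18_1
  · exact ht18_2
  · exact ht18_3
  · exact ht18_4

theorem ht19_0 : chkIdR (trel 19) 0 1755 = true := by decide +kernel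

theorem ht19_1 : chkIdR (trel 19) 1755 1755 = true := by decide +kernel

theorem ht19 : ∀ p < 3510, wapp Fi22a.px (trel 19) p = p := by
  refine id_of_chunks _ 2 1755 rfl ?_
  intro k hk
  interval_cases k
  · exact ht19_0
  · exact ht19_1

end Cfsg.Agent.Lib.Helper6.Mult.U62E2
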