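import Cfsg.Agent.Lib.Helper6.Mult.U62E2b
import Cfsg.Agent.Lib.Helper6.Mult.U62E3
import Cfsg.Agent.Lib.Helper6.Mult.U62C
import Cfsg.Agent.Lib.Helper6.Mult.PSUEquiv
import Cfsg.Agent.Lib.Helper1.Stem21

set_option autoImplicit false

/-! # The Schur multiplier of `PSU(6, 2)` is `3 × 2 × 2` -/

namespace Cfsg.Agent.Lib.Helper6.Mult.U62F

open Cfsg.Agent.Lib.Helper1 Cfsg.Agent.Lib.Helper1.Stem Cfsg.Agent.Lib.Helper1.Hexa
open Cfsg.Agent.Lib.Helper6

universe u

/-- the triple cover over the presented group -/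
noncomputable def sig3 : U62E3.S →* TCP.U62.G :=
  U62Mat.iso.symm.toMonoidHom.comp (U62E3.sigma3.comp (MulEquiv.refl U62E3.S).toMonoidHom)

theorem sig3_isStem : Cfsg.IsStemExtension sig3 :=
  isStem_comp_equiv (MulEquiv.refl U62E3.S) U62Mat.iso.symm U62E3.sigma3 U62E3.sigma3_isStem

theorem card_ker_sig3 : Nat.card sig3.ker = 3 :=
  (Nat.card_congr (kerEquiv (MulEquiv.refl U62E3.S) U62Mat.iso.symm U62E3.sigma3).toEquiv).trans
    U62E3.card_ker_sigma3

/-- the cover with kernel of order twelve -/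
noncomputable def sig12 :
    fibreProd (fibreHom U62E2.sig1 U62E2.sig2) sig3 →* TCP.U62.G :=
  fibreHom (fibreHom U62E2.sig1 U62E2.sig2) sig3

instance : Finite U62E3.S := inferInstance

theorem sig12_isStem : Cfsg.IsStemExtension sig12 :=
  fibreHom_isStem _ _ U62E2.isStem sig3_isStem (by rw [U62E2.card_ker, card_ker_sig3]; decide)

instance : Fact (Nat.Prime 2) := ⟨Nat.prime_two⟩

instance : Fact (Nat.Prime 3) := ⟨Nat.prime_three⟩

/-- the kernel of the cover -/
noncomputable def kerEquiv12 : sig12.ker ≃* Multiplicative (ZMod 3 × ZMod 2 × ZMod 2) :=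
  have e3 : sig3.ker ≃* Multiplicative (ZMod 3) :=
    mulEquivOfPrimeCardEq (p := 3) card_ker_sig3 (by simp)
  have e2 : Fi22U62.N ≃* Multiplicative (ZMod 2) :=
    mulEquivOfPrimeCardEq (p := 2) Fi22U62.card_N (by simp)
  (kerFibreEquiv (fibreHom U62E2.sig1 U62E2.sig2) sig3).trans <|
    MulEquiv.prodComm.trans <|
      (MulEquiv.prodCongr e3 (U62E2.kerEquiv.trans (MulEquiv.prodCongr e2 e2))).trans <|
        (MulEquiv.prodCongr (MulEquiv.refl (Multiplicative (ZMod 3)))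
          (MulEquiv.prodMultiplicative (G := ZMod 2) (H := ZMod 2)).symm).trans
          (MulEquiv.prodMultiplicative (G := ZMod 3) (H := ZMod 2 × ZMod 2)).symm

theorem main {F : Type u} [Field F] [Fintype F] (hF : Fintype.card F = 4) :
    Cfsg.HasSchurMultiplier (Cfsg.PSU 6 F 2) (Multiplicative (ZMod 3 × ZMod 2 × ZMod 2)) := by
  have e : F4 ≃+* F := FiniteField.ringEquivOfCardEq (by rw [hF]; decide)
  let f : TCP.U62.G ≃* Cfsg.PSU 6 F 2 := U62Mat.iso.trans (PSUEquiv.psuEquiv e 2)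
  refine hasSchurMultiplier_of_cover_of_bound f U62E3.perfect_G _ sig12 sig12_isStem kerEquiv12 ?_
  intro Γ' _ _ σ' hσ'
  have h := U62Mu.hub Γ' σ' hσ'
  have h12 : Nat.card (Multiplicative (ZMod 3 × ZMod 2 × ZMod 2)) = 12 := by
    rw [Nat.card_eq_fintype_card]
    rfl
  rw [h12]
  exact Nat.le_of_dvd (by norm_num) h

end Cfsg.Agent.Lib.Helper6.Mult.U62F
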